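import Mathlib

/-!
The ring of formal power series in finitely many variables over a complete Noetherian local ring
is complete with respect to its maximal ideal.
-/

set_option autoImplicit false

namespace Groth.Agent.Helper18

open MvPowerSeries IsLocalRing

variable {σ : Type*} [Finite σ] {Λ : Type*} [CommRing Λ]

/-- A power series whose coefficients of degree `< j` vanish lies in the `j`-th power of the ideal
generated by (the images of) the variables. -/
theorem mem_map_idealOfVars_pow (j : ℕ) (g : MvPowerSeries σ Λ)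
    (hg : ∀ β : σ →₀ ℕ, β.degree < j → coeff β g = 0) :
    g ∈ (Ideal.map (algebraMap (MvPolynomial σ Λ) (MvPowerSeries σ Λ))
      (MvPolynomial.idealOfVars σ Λ)) ^ j := by
  classical
  set e := toAdicCompletionAlgEquiv σ Λ with he
  have h0 : truncTotal j g = 0 := by
    ext β
    rw [coeff_truncTotal_eq_ite]
    split_ifs with h
    · rw [hg β h]; rfl
    · rfl
  have h1 : AdicCompletion.eval (MvPolynomial.idealOfVars σ Λ) (MvPolynomial σ Λ) j (e g) = 0 := by
    rw [AdicCompletion.eval_apply]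
    change (toAdicCompletion σ Λ g).val j = 0
    rw [toAdicCompletion_apply_eq_mk_truncTotal, h0, map_zero]
  have h2 : e g ∈ LinearMap.ker
      (AdicCompletion.eval (MvPolynomial.idealOfVars σ Λ) (MvPolynomial σ Λ) j) := h1
  rw [← AdicCompletion.pow_smul_top_eq_ker_eval (MvPolynomial.idealOfVars_fg σ Λ),
    Ideal.smul_top_eq_map] at h2
  have h3 : e g ∈ Ideal.map (algebraMap (MvPolynomial σ Λ)
      (AdicCompletion (MvPolynomial.idealOfVars σ Λ) (MvPolynomial σ Λ)))
      (MvPolynomial.idealOfVars σ Λ ^ j) := h2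
  have h4 : e.symm (e g) ∈ Ideal.map (e.symm : _ →+* MvPowerSeries σ Λ)
      (Ideal.map (algebraMap (MvPolynomial σ Λ)
      (AdicCompletion (MvPolynomial.idealOfVars σ Λ) (MvPolynomial σ Λ)))
      (MvPolynomial.idealOfVars σ Λ ^ j)) := Ideal.mem_map_of_mem _ h3
  rw [e.symm_apply_apply, Ideal.map_map] at h4
  have h5 : ((e.symm : _ →+* MvPowerSeries σ Λ)).comp (algebraMap (MvPolynomial σ Λ)
      (AdicCompletion (MvPolynomial.idealOfVars σ Λ) (MvPolynomial σ Λ))) =
      algebraMap (MvPolynomial σ Λ) (MvPowerSeries σ Λ) := by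
    ext p
    · simp
    · simp
  rw [h5, Ideal.map_pow] at h4
  exact h4


section Local

variable [IsLocalRing Λ]

theorem ps_mem_maximalIdeal_iff (f : MvPowerSeries σ Λ) :
    f ∈ maximalIdeal (MvPowerSeries σ Λ) ↔ constantCoeff f ∈ maximalIdeal Λ := by
  rw [mem_maximalIdeal, mem_maximalIdeal, mem_nonunits_iff, mem_nonunits_iff,
    isUnit_iff_constantCoeff]

theorem ps_X_mem_maximalIdeal (i : σ) : (X i : MvPowerSeries σ Λ) ∈ maximalIdeal (MvPowerSeries σ Λ) := by
  rw [ps_mem_maximalIdeal_iff, constantCoeff_X]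
  exact zero_mem _

theorem ps_C_mem_maximalIdeal {c : Λ} (hc : c ∈ maximalIdeal Λ) :
    (C c : MvPowerSeries σ Λ) ∈ maximalIdeal (MvPowerSeries σ Λ) := by
  rw [ps_mem_maximalIdeal_iff, constantCoeff_C]
  exact hc

theorem ps_C_mem_pow {c : Λ} {i : ℕ} (hc : c ∈ maximalIdeal Λ ^ i) :
    (C c : MvPowerSeries σ Λ) ∈ maximalIdeal (MvPowerSeries σ Λ) ^ i := by
  have h1 : Ideal.map (C : Λ →+* MvPowerSeries σ Λ) (maximalIdeal Λ) ≤
      maximalIdeal (MvPowerSeries σ Λ) := by
    rw [Ideal.map_le_iff_le_comap]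
    intro c hc
    exact ps_C_mem_maximalIdeal hc
  have h2 : (C c : MvPowerSeries σ Λ) ∈ Ideal.map (C : Λ →+* MvPowerSeries σ Λ) (maximalIdeal Λ ^ i) :=
    Ideal.mem_map_of_mem _ hc
  rw [Ideal.map_pow] at h2
  exact Ideal.pow_right_mono h1 i h2

theorem ps_map_idealOfVars_le :
    Ideal.map (algebraMap (MvPolynomial σ Λ) (MvPowerSeries σ Λ)) (MvPolynomial.idealOfVars σ Λ) ≤
      maximalIdeal (MvPowerSeries σ Λ) := by
  rw [Ideal.map_le_iff_le_comap, MvPolynomial.idealOfVars, Ideal.span_le]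
  rintro _ ⟨i, rfl⟩
  rw [SetLike.mem_coe, Ideal.mem_comap, MvPowerSeries.algebraMap_apply', Algebra.algebraMap_self,
    MvPowerSeries.map_id, RingHom.id_apply, MvPolynomial.coe_X]
  exact ps_X_mem_maximalIdeal i

/-- monomials with coefficient in `m^i` lie in `n^(i + deg)` -/
theorem ps_monomial_mem_pow (α : σ →₀ ℕ) {c : Λ} {i : ℕ} (hc : c ∈ maximalIdeal Λ ^ i) :
    (monomial α c : MvPowerSeries σ Λ) ∈ maximalIdeal (MvPowerSeries σ Λ) ^ (i + α.degree) := by
  rw [MvPowerSeries.monomial_eq', pow_add]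
  apply Ideal.mul_mem_mul (ps_C_mem_pow hc)
  rw [Finsupp.prod, Finsupp.degree_apply, ← Finset.prod_pow_eq_pow_sum]
  apply Ideal.prod_mem_prod
  intro s _
  exact Ideal.pow_mem_pow (ps_X_mem_maximalIdeal s) _

/-- the ideal of power series whose `α`-coefficient lies in `m^(j - |α|)` -/
def coeffIdeal (σ : Type*) (Λ : Type*) [CommRing Λ] [IsLocalRing Λ] (j : ℕ) :
    Ideal (MvPowerSeries σ Λ) where
  carrier := {g | ∀ α : σ →₀ ℕ, coeff α g ∈ maximalIdeal Λ ^ (j - α.degree)}
  add_mem' := by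
    intro g h hg hh α
    rw [map_add]
    exact Ideal.add_mem _ (hg α) (hh α)
  zero_mem' := by
    intro α
    rw [map_zero]
    exact zero_mem _
  smul_mem' := by
    classical
    intro h g hg α
    rw [smul_eq_mul, coeff_mul]
    apply Ideal.sum_mem
    rintro ⟨β, γ⟩ hβγ
    replace hβγ : β + γ = α := Finset.HasAntidiagonal.mem_antidiagonal.mp hβγ
    apply Ideal.mul_mem_left
    have hdeg : γ.degree ≤ α.degree := by
      rw [← hβγ, map_add]
      exact Nat.le_add_left _ _
    exact Ideal.pow_le_pow_right (Nat.sub_le_sub_left hdeg j) (hg γ)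

theorem mem_coeffIdeal_iff (j : ℕ) (g : MvPowerSeries σ Λ) :
    g ∈ coeffIdeal σ Λ j ↔ ∀ α : σ →₀ ℕ, coeff α g ∈ maximalIdeal Λ ^ (j - α.degree) := Iff.rfl

theorem coeffIdeal_mul_le (i j : ℕ) :
    coeffIdeal σ Λ i * coeffIdeal σ Λ j ≤ coeffIdeal σ Λ (i + j) := by
  classical
  rw [Ideal.mul_le]
  intro g hg h hh α
  rw [coeff_mul]
  apply Ideal.sum_mem
  rintro ⟨β, γ⟩ hβγ
  replace hβγ : β + γ = α := Finset.HasAntidiagonal.mem_antidiagonal.mp hβγ
  have hdeg : β.degree + γ.degree = α.degree := by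
    rw [← hβγ, map_add]
  have h1 : coeff β g * coeff γ h ∈ maximalIdeal Λ ^ (i - β.degree) * maximalIdeal Λ ^ (j - γ.degree) :=
    Ideal.mul_mem_mul (hg β) (hh γ)
  rw [← pow_add] at h1
  exact Ideal.pow_le_pow_right (by omega) h1

theorem maximalIdeal_le_coeffIdeal_one :
    maximalIdeal (MvPowerSeries σ Λ) ≤ coeffIdeal σ Λ 1 := by
  intro g hg α
  by_cases hα : α.degree = 0
  · rw [Finsupp.degree_eq_zero_iff] at hα
    subst hα
    rw [ps_mem_maximalIdeal_iff] at hg
    simpa using hg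
  · have : 1 - α.degree = 0 := by omega
    rw [this, pow_zero, Ideal.one_eq_top]
    trivial

/-- (F1) coefficients of elements of `n^j` -/
theorem maximalIdeal_pow_le_coeffIdeal (j : ℕ) :
    maximalIdeal (MvPowerSeries σ Λ) ^ j ≤ coeffIdeal σ Λ j := by
  induction j with
  | zero =>
    intro g _ α
    rw [Nat.zero_sub, pow_zero, Ideal.one_eq_top]
    trivial
  | succ j ih =>
    rw [pow_succ]
    exact (Ideal.mul_mono ih maximalIdeal_le_coeffIdeal_one).trans (coeffIdeal_mul_le j 1)

/-- (F2) -/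
theorem mem_maximalIdeal_pow_of_coeff (j : ℕ) (g : MvPowerSeries σ Λ)
    (hg : ∀ α : σ →₀ ℕ, α.degree < j → coeff α g ∈ maximalIdeal Λ ^ (j - α.degree)) :
    g ∈ maximalIdeal (MvPowerSeries σ Λ) ^ j := by
  classical
  have hsplit : g = ((truncTotal j g : MvPolynomial σ Λ) : MvPowerSeries σ Λ) +
      (g - ((truncTotal j g : MvPolynomial σ Λ) : MvPowerSeries σ Λ)) := by ring
  rw [hsplit]
  apply Ideal.add_mem
  · -- polynomial part
    rw [MvPolynomial.as_sum (truncTotal j g)]
    rw [← MvPolynomial.coeToMvPowerSeries.ringHom_apply, map_sum]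
    apply Ideal.sum_mem
    intro α hα
    rw [MvPolynomial.coeToMvPowerSeries.ringHom_apply, MvPolynomial.coe_monomial]
    have hdeg : α.degree < j := by
      by_contra hcon
      rw [MvPolynomial.mem_support_iff] at hα
      exact hα (coeff_truncTotal_eq_zero g (not_lt.mp hcon))
    rw [coeff_truncTotal g hdeg]
    have h1 := ps_monomial_mem_pow α (hg α hdeg)
    have h2 : j - α.degree + α.degree = j := by omega
    rw [h2] at h1
    exact h1
  · -- tail
    apply Ideal.pow_right_mono ps_map_idealOfVars_le j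
    apply mem_map_idealOfVars_pow
    intro β hβ
    rw [map_sub, MvPolynomial.coeff_coe, coeff_truncTotal g hβ, sub_self]


theorem ps_isPrecomplete [IsPrecomplete (maximalIdeal Λ) Λ] :
    IsPrecomplete (maximalIdeal (MvPowerSeries σ Λ)) (MvPowerSeries σ Λ) := by
  refine ⟨fun f hf => ?_⟩
  have hf' : ∀ {a b : ℕ}, a ≤ b → f a - f b ∈ maximalIdeal (MvPowerSeries σ Λ) ^ a := by
    intro a b hab
    have := hf hab
    rw [SModEq.sub_mem, smul_eq_mul, Ideal.mul_top] at this
    exact this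
  have hcoef : ∀ α : σ →₀ ℕ, ∃ L : Λ, ∀ a : ℕ,
      coeff α (f (a + α.degree)) - L ∈ maximalIdeal Λ ^ a := by
    intro α
    have hprec := (inferInstance : IsPrecomplete (maximalIdeal Λ) Λ).prec'
      (fun a => coeff α (f (a + α.degree))) (by
        intro a b hab
        rw [SModEq.sub_mem, smul_eq_mul, Ideal.mul_top]
        have h1 := maximalIdeal_pow_le_coeffIdeal _
          (hf' (Nat.add_le_add_right hab α.degree)) α
        rw [map_sub, Nat.add_sub_cancel] at h1
        exact h1)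
    obtain ⟨L, hL⟩ := hprec
    refine ⟨L, fun a => ?_⟩
    have := hL a
    rw [SModEq.sub_mem, smul_eq_mul, Ideal.mul_top] at this
    exact this
  choose L hL using hcoef
  refine ⟨(L : MvPowerSeries σ Λ), fun j => ?_⟩
  rw [SModEq.sub_mem, smul_eq_mul, Ideal.mul_top]
  apply mem_maximalIdeal_pow_of_coeff
  intro α hα
  have h1 := hL α (j - α.degree)
  have h2 : j - α.degree + α.degree = j := by omega
  rw [h2] at h1
  rw [map_sub]
  exact h1

theorem ps_isAdicComplete [IsNoetherianRing Λ] [IsAdicComplete (maximalIdeal Λ) Λ] :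
    IsAdicComplete (maximalIdeal (MvPowerSeries σ Λ)) (MvPowerSeries σ Λ) :=
  { toIsHausdorff := inferInstance
    toIsPrecomplete := ps_isPrecomplete }

end Local

end Groth.Agent.Helper18
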