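import Groth.Agent.Lib.Helper18.Schl.PSComplete

/-!
Evaluation of power series at nilpotent elements.
-/

set_option autoImplicit false

namespace Groth.Agent.Helper18

open MvPowerSeries

variable {σ : Type*} [Finite σ] {Λ : Type*} [CommRing Λ]
variable {A : Type*} [CommRing A] [Algebra Λ A]

theorem aeval_eq_zero_of_mem_pow (a : σ → A) (I : Ideal A) (N : ℕ) (hI : I ^ N = ⊥)
    (ha : ∀ i, a i ∈ I) (p : MvPolynomial σ Λ) (hp : p ∈ MvPolynomial.idealOfVars σ Λ ^ N) :
    MvPolynomial.aeval a p = 0 := by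
  have h1 : Ideal.map (MvPolynomial.aeval a : MvPolynomial σ Λ →ₐ[Λ] A)
      (MvPolynomial.idealOfVars σ Λ) ≤ I := by
    rw [Ideal.map_le_iff_le_comap, MvPolynomial.idealOfVars, Ideal.span_le]
    rintro _ ⟨i, rfl⟩
    rw [SetLike.mem_coe, Ideal.mem_comap, MvPolynomial.aeval_X]
    exact ha i
  have h2 : MvPolynomial.aeval a p ∈ Ideal.map (MvPolynomial.aeval a : MvPolynomial σ Λ →ₐ[Λ] A)
      (MvPolynomial.idealOfVars σ Λ ^ N) := Ideal.mem_map_of_mem _ hp
  rw [Ideal.map_pow] at h2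
  have h3 := Ideal.pow_right_mono h1 N h2
  rw [hI] at h3
  exact h3

/-- evaluation of power series at a family of elements of a nilpotent ideal -/
noncomputable def psEvalHom (a : σ → A) (I : Ideal A) (N : ℕ) (hI : I ^ N = ⊥)
    (ha : ∀ i, a i ∈ I) : MvPowerSeries σ Λ →ₐ[Λ] A :=
  (Ideal.Quotient.liftₐ (MvPolynomial.idealOfVars σ Λ ^ N) (MvPolynomial.aeval a)
    (aeval_eq_zero_of_mem_pow a I N hI ha)).comp
    ((MvPowerSeries.truncTotalAlgHom σ Λ N).restrictScalars Λ)

theorem psEvalHom_apply (a : σ → A) (I : Ideal A) (N : ℕ) (hI : I ^ N = ⊥)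
    (ha : ∀ i, a i ∈ I) (f : MvPowerSeries σ Λ) :
    psEvalHom a I N hI ha f = MvPolynomial.aeval a (truncTotal N f) := rfl

theorem psEvalHom_coe (a : σ → A) (I : Ideal A) (N : ℕ) (hI : I ^ N = ⊥)
    (ha : ∀ i, a i ∈ I) (p : MvPolynomial σ Λ) :
    psEvalHom a I N hI ha (p : MvPowerSeries σ Λ) = MvPolynomial.aeval a p := by
  have h1 : (MvPowerSeries.truncTotalAlgHom σ Λ N) (algebraMap (MvPolynomial σ Λ) (MvPowerSeries σ Λ) p)
      = algebraMap _ _ p := (MvPowerSeries.truncTotalAlgHom σ Λ N).commutes p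
  have h2 : algebraMap (MvPolynomial σ Λ) (MvPowerSeries σ Λ) p = (p : MvPowerSeries σ Λ) := by
    rw [MvPowerSeries.algebraMap_apply', Algebra.algebraMap_self, MvPowerSeries.map_id, RingHom.id_apply]
  rw [h2] at h1
  change (Ideal.Quotient.liftₐ (MvPolynomial.idealOfVars σ Λ ^ N) (MvPolynomial.aeval a)
    (aeval_eq_zero_of_mem_pow a I N hI ha))
    ((MvPowerSeries.truncTotalAlgHom σ Λ N) (p : MvPowerSeries σ Λ)) = _
  rw [h1]
  rfl

theorem psEvalHom_X (a : σ → A) (I : Ideal A) (N : ℕ) (hI : I ^ N = ⊥)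
    (ha : ∀ i, a i ∈ I) (i : σ) :
    psEvalHom a I N hI ha (X i : MvPowerSeries σ Λ) = a i := by
  rw [← MvPolynomial.coe_X, psEvalHom_coe, MvPolynomial.aeval_X]

/-- every algebra map out of the power series ring sending the variables into a nilpotent ideal
is given by truncation and polynomial evaluation -/
theorem ps_algHom_apply (φ : MvPowerSeries σ Λ →ₐ[Λ] A) (I : Ideal A) (N : ℕ) (hI : I ^ N = ⊥)
    (hφ : ∀ i, φ (X i) ∈ I) (f : MvPowerSeries σ Λ) :
    φ f = MvPolynomial.aeval (fun i => φ (X i)) (truncTotal N f) := by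
  classical
  have hsplit : f = ((truncTotal N f : MvPolynomial σ Λ) : MvPowerSeries σ Λ) +
      (f - ((truncTotal N f : MvPolynomial σ Λ) : MvPowerSeries σ Λ)) := by ring
  have htail : φ (f - ((truncTotal N f : MvPolynomial σ Λ) : MvPowerSeries σ Λ)) = 0 := by
    have h1 := mem_map_idealOfVars_pow N (f - ((truncTotal N f : MvPolynomial σ Λ) : MvPowerSeries σ Λ))
      (by
        intro β hβ
        rw [map_sub, MvPolynomial.coeff_coe, coeff_truncTotal f hβ, sub_self])
    have h2 := Ideal.mem_map_of_mem (φ : MvPowerSeries σ Λ →+* A) h1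
    rw [Ideal.map_pow, Ideal.map_map] at h2
    have h3 : Ideal.map ((φ : MvPowerSeries σ Λ →+* A).comp
        (algebraMap (MvPolynomial σ Λ) (MvPowerSeries σ Λ))) (MvPolynomial.idealOfVars σ Λ) ≤ I := by
      rw [Ideal.map_le_iff_le_comap, MvPolynomial.idealOfVars, Ideal.span_le]
      rintro _ ⟨i, rfl⟩
      rw [SetLike.mem_coe, Ideal.mem_comap, RingHom.comp_apply, MvPowerSeries.algebraMap_apply',
        Algebra.algebraMap_self, MvPowerSeries.map_id, RingHom.id_apply, MvPolynomial.coe_X]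
      exact hφ i
    have h4 := Ideal.pow_right_mono h3 N h2
    rw [hI] at h4
    exact h4
  have hpoly : ∀ p : MvPolynomial σ Λ, φ (p : MvPowerSeries σ Λ) =
      MvPolynomial.aeval (fun i => φ (X i)) p := by
    intro p
    have h5 : φ.comp (MvPolynomial.coeToMvPowerSeries.algHom Λ) =
        MvPolynomial.aeval (fun i => φ (X i)) := by
      apply MvPolynomial.algHom_ext
      intro i
      simp
    have h6 := congrArg (fun ψ : MvPolynomial σ Λ →ₐ[Λ] A => ψ p) h5
    simpa using h6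
  conv_lhs => rw [hsplit]
  rw [map_add, htail, add_zero, hpoly]

theorem ps_algHom_ext (φ ψ : MvPowerSeries σ Λ →ₐ[Λ] A) (I : Ideal A) (N : ℕ) (hI : I ^ N = ⊥)
    (hφ : ∀ i, φ (X i) ∈ I) (h : ∀ i, φ (X i) = ψ (X i)) : φ = ψ := by
  apply AlgHom.ext
  intro f
  rw [ps_algHom_apply φ I N hI hφ f, ps_algHom_apply ψ I N hI (fun i => h i ▸ hφ i) f]
  congr 2
  funext i
  exact h i

end Groth.Agent.Helper18
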