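import Groth.Agent.Lib.Helper18.Schl.QuotCRing
import Groth.Agent.Lib.Helper18.ArtFunFormal

/-!
Artinian quotients of a coefficient ring.
-/

set_option autoImplicit false
universe u v
open CategoryTheory

namespace Groth.Agent.Helper18

open ArtFun ArtFun.Art IsLocalRing

variable {Λ k : Type u} [CommRing Λ] [Field k] [Algebra Λ k]

theorem isArtinianRing_cquot (S : CRing Λ k) (J : Ideal S.carrier)
    (hJ : J ≤ maximalIdeal S.carrier) (N : ℕ) (hN : maximalIdeal S.carrier ^ N ≤ J) :
    IsArtinianRing (quotCRing S J hJ).carrier := by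
  rw [isArtinianRing_iff_isNilpotent_maximalIdeal]
  refine ⟨N, ?_⟩
  haveI : Nontrivial (S.carrier ⧸ J) := Ideal.Quotient.nontrivial_iff.2
    (fun h => (IsLocalRing.maximalIdeal.isMaximal S.carrier).ne_top (top_le_iff.1 (h ▸ hJ)))
  haveI hloc : IsLocalRing (S.carrier ⧸ J) :=
    IsLocalRing.of_surjective' (Ideal.Quotient.mk J) Ideal.Quotient.mk_surjective
  have h1 : maximalIdeal (S.carrier ⧸ J) ^ N = ⊥ := by
    rw [← map_mk_maximalIdeal J, ← Ideal.map_pow, eq_bot_iff]
    rw [Ideal.map_le_iff_le_comap]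
    intro x hx
    rw [Ideal.mem_comap, Ideal.mem_bot, Ideal.Quotient.eq_zero_iff_mem]
    exact hN hx
  exact h1

/-- the quotient `S/J` as an object of `Art`, when `J` contains a power of the maximal ideal -/
noncomputable def cquotArt (S : CRing Λ k) (J : Ideal S.carrier)
    (hJ : J ≤ maximalIdeal S.carrier) (N : ℕ) (hN : maximalIdeal S.carrier ^ N ≤ J) : Art Λ k :=
  { carrier := (quotCRing S J hJ).carrier
    isArtinianRing := isArtinianRing_cquot S J hJ N hN
    res := (quotCRing S J hJ).res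
    res_surjective := (quotCRing S J hJ).res_surjective }

/-- the quotient map -/
noncomputable def cquotArtMk (S : CRing Λ k) (J : Ideal S.carrier)
    (hJ : J ≤ maximalIdeal S.carrier) (N : ℕ) (hN : maximalIdeal S.carrier ^ N ≤ J) :
    HomSet S.carrier S.res (cquotArt S J hJ N hN) :=
  ⟨quotCRingMk S J hJ, quotCRingMk_res S J hJ⟩

theorem cquotArtMk_surjective (S : CRing Λ k) (J : Ideal S.carrier)
    (hJ : J ≤ maximalIdeal S.carrier) (N : ℕ) (hN : maximalIdeal S.carrier ^ N ≤ J) :
    Function.Surjective (cquotArtMk S J hJ N hN).1 :=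
  quotCRingMk_surjective S J hJ

theorem cquotArtMk_ker (S : CRing Λ k) (J : Ideal S.carrier)
    (hJ : J ≤ maximalIdeal S.carrier) (N : ℕ) (hN : maximalIdeal S.carrier ^ N ≤ J) :
    RingHom.ker ((cquotArtMk S J hJ N hN).1 : S.carrier →+* (cquotArt S J hJ N hN)) = J := by
  ext s
  rw [RingHom.mem_ker]
  exact quotCRingMk_eq_zero_iff S J hJ s

/-- kernels of augmented maps to Artinian objects lie in the maximal ideal -/
theorem homSet_ker_le_maximalIdeal (S : CRing Λ k) {A : Art Λ k} (φ : HomSet S.carrier S.res A) :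
    RingHom.ker (φ.1 : S.carrier →+* A) ≤ maximalIdeal S.carrier := by
  intro s hs
  rw [RingHom.mem_ker] at hs
  rw [CRing.mem_maximalIdeal_iff]
  have h1 : A.res (φ.1 s) = S.res s := AlgHom.congr_fun φ.2 s
  have h2 : φ.1 s = 0 := hs
  rw [← h1, h2, map_zero]

/-- kernels of augmented maps to Artinian objects contain a power of the maximal ideal -/
theorem homSet_exists_pow_le_ker (S : CRing Λ k) {A : Art Λ k} (φ : HomSet S.carrier S.res A) :
    ∃ N : ℕ, maximalIdeal S.carrier ^ N ≤ RingHom.ker (φ.1 : S.carrier →+* A) := by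
  obtain ⟨N, hN⟩ := exists_mpow_le_ker S φ
  exact ⟨N + 1, hN N le_rfl⟩

end Groth.Agent.Helper18
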