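import Mathlib
import Groth.Prelude.Def_ArtFun5

/-!
Chevalley's lemma: in a complete Noetherian local ring, a decreasing sequence of ideals is
eventually contained in `(⋂ J_q) + m^N`.
-/

set_option autoImplicit false
universe u v

namespace Groth.Agent.Helper18

open ArtFun IsLocalRing

variable {Λ k : Type u} [CommRing Λ] [Field k] [Algebra Λ k]

/-- ideals of a Noetherian local ring are closed in the adic topology -/
theorem mem_of_forall_mem_sup_pow {T : Type*} [CommRing T] [IsLocalRing T] [IsNoetherianRing T]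
    (J : Ideal T) (x : T) (h : ∀ n, x ∈ J ⊔ maximalIdeal T ^ n) : x ∈ J := by
  have h1 : (Ideal.Quotient.mk J x : T ⧸ J) = 0 := by
    apply IsHausdorff.haus (inferInstance : IsHausdorff (maximalIdeal T) (T ⧸ J))
    intro n
    rw [SModEq.zero]
    obtain ⟨j, hj, z, hz, hjz⟩ := Submodule.mem_sup.1 (h n)
    have h2 : (Ideal.Quotient.mk J x : T ⧸ J) = z • (Ideal.Quotient.mk J 1 : T ⧸ J) := by
      rw [← hjz, map_add, Ideal.Quotient.eq_zero_iff_mem.2 hj, zero_add]
      change _ = Ideal.Quotient.mk J (z • (1 : T))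
      rw [smul_eq_mul, mul_one]
    rw [h2]
    exact Submodule.smul_mem_smul hz Submodule.mem_top
  exact Ideal.Quotient.eq_zero_iff_mem.1 h1

theorem chevalley (T : CRing Λ k) (J : ℕ → Ideal T.carrier) (hJ : Antitone J) (n : ℕ) :
    ∃ q, J q ≤ (⨅ q, J q) ⊔ maximalIdeal T.carrier ^ (n + 1) := by
  classical
  set m := maximalIdeal T.carrier with hm
  -- stabilisation modulo each power of the maximal ideal
  have hstab : ∀ M : ℕ, ∃ q₀, ∀ q, q₀ ≤ q → J q₀ ⊔ m ^ (M + 1) = J q ⊔ m ^ (M + 1) := by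
    intro M
    haveI : IsArtinianRing (T.carrier ⧸ CRing.mpow T M) := CRing.isArtinianRing_quot_mpow T M
    let f : ℕ →o (Ideal (T.carrier ⧸ CRing.mpow T M))ᵒᵈ :=
      { toFun := fun q => OrderDual.toDual ((J q).map (Ideal.Quotient.mk (CRing.mpow T M)))
        monotone' := fun a b hab => Ideal.map_mono (hJ hab) }
    obtain ⟨q₀, hq₀⟩ := IsArtinian.monotone_stabilizes f
    refine ⟨q₀, fun q hq => ?_⟩
    have h1 : (J q₀).map (Ideal.Quotient.mk (CRing.mpow T M)) =
        (J q).map (Ideal.Quotient.mk (CRing.mpow T M)) := hq₀ q hq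
    have h2 := congrArg (Ideal.comap (Ideal.Quotient.mk (CRing.mpow T M))) h1
    rw [Ideal.comap_map_of_surjective _ Ideal.Quotient.mk_surjective,
      Ideal.comap_map_of_surjective _ Ideal.Quotient.mk_surjective, ← RingHom.ker_eq_comap_bot,
      Ideal.mk_ker] at h2
    exact h2
  choose q₀ hq₀ using hstab
  -- a monotone cofinal choice of indices
  let Q : ℕ → ℕ := fun M => Nat.rec (q₀ 0) (fun M p => max (max p (q₀ (M + 1))) (M + 1)) M
  have hQsucc : ∀ M, Q (M + 1) = max (max (Q M) (q₀ (M + 1))) (M + 1) := fun M => rfl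
  have hQmono : ∀ M, Q M ≤ Q (M + 1) := fun M => by
    rw [hQsucc]; exact le_trans (le_max_left _ _) (le_max_left _ _)
  have hQq : ∀ M, q₀ M ≤ Q M := by
    intro M
    cases M with
    | zero => exact le_rfl
    | succ M => rw [hQsucc]; exact le_trans (le_max_right _ _) (le_max_left _ _)
  have hQM : ∀ M, M ≤ Q M := by
    intro M
    cases M with
    | zero => exact Nat.zero_le _
    | succ M => rw [hQsucc]; exact le_max_right _ _
  have hQstab : ∀ M, J (Q M) ⊔ m ^ (M + 1) = J (Q (M + 1)) ⊔ m ^ (M + 1) := by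
    intro M
    rw [← hq₀ M (Q M) (hQq M), ← hq₀ M (Q (M + 1)) ((hQq M).trans (hQmono M))]
  refine ⟨Q n, ?_⟩
  intro x₀ hx₀
  -- build a Cauchy sequence
  have step : ∀ (i : ℕ) (x : T.carrier), x ∈ J (Q (n + i)) →
      ∃ y ∈ J (Q (n + i + 1)), x - y ∈ m ^ (n + i + 1) := by
    intro i x hx
    have h1 : x ∈ J (Q (n + i + 1)) ⊔ m ^ (n + i + 1) := by
      rw [← hQstab]
      exact Ideal.mem_sup_left hx
    obtain ⟨y, hy, z, hz, hyz⟩ := Submodule.mem_sup.1 h1
    refine ⟨y, hy, ?_⟩
    rw [← hyz, add_sub_cancel_left]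
    exact hz
  let s : ∀ i, {x : T.carrier // x ∈ J (Q (n + i))} := fun i =>
    Nat.rec ⟨x₀, hx₀⟩ (fun i p => ⟨(step i p.1 p.2).choose, (step i p.1 p.2).choose_spec.1⟩) i
  have hs : ∀ i, (s i).1 - (s (i + 1)).1 ∈ m ^ (n + i + 1) :=
    fun i => (step i (s i).1 (s i).2).choose_spec.2
  have hs0 : (s 0).1 = x₀ := rfl
  have htel : ∀ a b, a ≤ b → (s a).1 - (s b).1 ∈ m ^ (n + a + 1) := by
    intro a b hab
    induction b, hab using Nat.le_induction with
    | base => rw [sub_self]; exact zero_mem _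
    | succ b hab ih =>
      have : (s a).1 - (s (b + 1)).1 = ((s a).1 - (s b).1) + ((s b).1 - (s (b + 1)).1) := by ring
      rw [this]
      exact Ideal.add_mem _ ih (Ideal.pow_le_pow_right (by omega) (hs b))
  haveI : IsPrecomplete m T.carrier := T.isAdicComplete.toIsPrecomplete
  obtain ⟨L, hL⟩ := IsPrecomplete.prec' (I := m) (fun a => (s (a - n)).1) (by
    intro a b hab
    rw [SModEq.sub_mem, smul_eq_mul, Ideal.mul_top]
    exact Ideal.pow_le_pow_right (by omega) (htel (a - n) (b - n) (Nat.sub_le_sub_right hab n)))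
  have hL' : ∀ a, (s (a - n)).1 - L ∈ m ^ a := by
    intro a
    have := hL a
    rw [SModEq.sub_mem, smul_eq_mul, Ideal.mul_top] at this
    exact this
  -- the limit lies in every `J q`
  have hLJ : ∀ q, L ∈ J q := by
    intro q
    apply mem_of_forall_mem_sup_pow
    intro M
    set a := max (max M q) n + n with ha
    have h1 : (s (a - n)).1 ∈ J q := by
      apply hJ _ (s (a - n)).2
      have : q ≤ n + (a - n) := by omega
      exact this.trans (hQM _)
    have h2 : L = (s (a - n)).1 - ((s (a - n)).1 - L) := by ring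
    rw [h2]
    apply Ideal.sub_mem
    · exact Ideal.mem_sup_left h1
    · exact Ideal.mem_sup_right (Ideal.pow_le_pow_right (by omega) (hL' a))
  have hLinf : L ∈ ⨅ q, J q := by
    rw [Ideal.mem_iInf]
    exact hLJ
  have h3 : x₀ - L ∈ m ^ (n + 1) := by
    have h4 : x₀ - L = ((s 0).1 - (s 1).1) + ((s (n + 1 - n)).1 - L) := by
      have : n + 1 - n = 1 := by omega
      rw [this, hs0]; ring
    rw [h4]
    exact Ideal.add_mem _ (by simpa using hs 0) (hL' (n + 1))
  have h5 : x₀ = L + (x₀ - L) := by ring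
  rw [h5]
  exact Ideal.add_mem _ (Ideal.mem_sup_left hLinf) (Ideal.mem_sup_right h3)

end Groth.Agent.Helper18
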