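import Mathlib
import Groth.Agent.Lib.Helper18.Schl.QuotArt
import Groth.Agent.Lib.Helper18.ArtFunLeast
import Groth.Agent.Lib.Helper18.ArtFunTorsor

/-!
The tower step in Schlessinger's construction of a hull.
-/

set_option autoImplicit false
universe u v
open CategoryTheory

namespace Groth.Agent.Helper18

open ArtFun ArtFun.Art IsLocalRing

variable {Λ k : Type u} [CommRing Λ] [Field k] [Algebra Λ k]

/-- if `g ≫ f` is surjective, `f` is small and `g` is not surjective then the image of `g` meets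
the kernel of `f` trivially -/
theorem small_image_inter {C B A : Art Λ k} (g : C ⟶ B) (f : B ⟶ A) (hf : IsSmallExt f)
    (hgf : Function.Surjective (g ≫ f)) (hg : ¬ Function.Surjective g) :
    ∀ c : C, g c ∈ RingHom.ker f.toAlgHom → g c = 0 := by
  obtain ⟨hfs, hne, hprin, hann⟩ := hf
  have hgf' : ∀ b : B, ∃ c : C, b - g c ∈ RingHom.ker f.toAlgHom := by
    intro b
    obtain ⟨c, hc⟩ := hgf (f b)
    refine ⟨c, ?_⟩
    rw [RingHom.mem_ker, map_sub, sub_eq_zero]
    exact hc.symm
  have hmk : ∀ (m : B) (x : B), m ∈ IsLocalRing.maximalIdeal B → x ∈ RingHom.ker f.toAlgHom → m * x = 0 := by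
    intro m x hm hx
    have : m * x ∈ IsLocalRing.maximalIdeal B * RingHom.ker f.toAlgHom := Ideal.mul_mem_mul hm hx
    rw [hann] at this
    exact this
  have hresC : ∀ b : B, ∃ c : C, b - g c ∈ IsLocalRing.maximalIdeal B := by
    intro b
    obtain ⟨c, hc⟩ := C.res_surjective (B.res b)
    refine ⟨c, ?_⟩
    rw [ArtFun.Art.mem_maximalIdeal_iff, map_sub, sub_eq_zero]
    change B.res b = B.res (g c)
    rw [ArtFun.Art.res_app, hc]
  intro c hc
  by_contra hx
  apply hg
  obtain ⟨t, ht⟩ := hprin.principal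
  have hxt : g c ∈ Ideal.span {t} := by
    have : g c ∈ Submodule.span B {t} := by rw [← ht]; exact hc
    exact this
  obtain ⟨u, hu⟩ := Ideal.mem_span_singleton'.1 hxt
  have htk : t ∈ RingHom.ker f.toAlgHom := by
    rw [ht]; exact Submodule.mem_span_singleton_self t
  have huu : IsUnit u := by
    by_contra hnu
    have : u ∈ IsLocalRing.maximalIdeal B := (IsLocalRing.mem_maximalIdeal u).2 hnu
    apply hx
    rw [← hu]
    exact hmk u t this htk
  obtain ⟨v, hv⟩ := huu.exists_left_inv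
  obtain ⟨c₁, hc₁⟩ := hresC v
  have htC : t = g (c₁ * c) := by
    have h1 : t = v * g c := by rw [← hu, ← mul_assoc, hv, one_mul]
    have h2 : (v - g c₁) * g c = 0 := hmk _ _ hc₁ hc
    have h3 : g (c₁ * c) = g c₁ * g c := map_mul g.toAlgHom c₁ c
    rw [h3, h1]
    linear_combination h2
  intro b
  obtain ⟨c₂, hc₂⟩ := hgf' b
  have hb : b - g c₂ ∈ Ideal.span {t} := by
    have : b - g c₂ ∈ Submodule.span B {t} := by rw [← ht]; exact hc₂
    exact this
  obtain ⟨w, hw⟩ := Ideal.mem_span_singleton'.1 hb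
  obtain ⟨c₃, hc₃⟩ := hresC w
  have h4 : (w - g c₃) * t = 0 := hmk _ _ hc₃ htk
  refine ⟨c₂ + c₃ * (c₁ * c), ?_⟩
  have h5 : g (c₂ + c₃ * (c₁ * c)) = g c₂ + g c₃ * g (c₁ * c) := by
    change g.toAlgHom _ = _
    rw [map_add, map_mul]
  rw [h5, ← htC]
  linear_combination hw - h4

variable (S : CRing Λ k) (F : Art Λ k ⥤ Type v)

/-- a stage of the tower: an Artinian quotient of `S` with an element of `F` over it -/
structure Stage where
  T : Art Λ k
  π : HomSet S.carrier S.res T
  hπ : Function.Surjective π.1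
  η : F.obj T

variable {S F}

/-- `Y` is a minimal refinement of `X` -/
def Stage.Next (X Y : Stage S F) : Prop :=
  ∃ τ : Y.T ⟶ X.T, HomSet.map τ Y.π = X.π ∧ F.map τ Y.η = X.η ∧
    ∀ (P : Art Λ k) (p₁ : P ⟶ X.T), IsSmallExt p₁ → ∀ e : F.obj P, F.map p₁ e = X.η →
      ∃ v : Y.T ⟶ P, v ≫ p₁ = τ

/-- `h_S` is smooth -/
def HomSmooth (S : CRing Λ k) : Prop :=
  ∀ ⦃B A : Art Λ k⦄ (μ : B ⟶ A), Function.Surjective μ →
    ∀ φ : HomSet S.carrier S.res A, ∃ ψ : HomSet S.carrier S.res B, HomSet.map μ ψ = φ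

theorem Stage.exists_next_strong [IsNoetherianRing Λ] [Module.Finite Λ k] (hS : HomSmooth S)
    (h1 : S1 F) (X : Stage S F) : ∃ Y : Stage S F, X.Next Y ∧
      maximalIdeal S.carrier * RingHom.ker (X.π.1 : S.carrier →+* X.T) ≤
        RingHom.ker (Y.π.1 : S.carrier →+* Y.T) := by
  set J : Ideal S.carrier := RingHom.ker (X.π.1 : S.carrier →+* X.T) with hJdef
  have hJm : J ≤ maximalIdeal S.carrier := homSet_ker_le_maximalIdeal S X.π
  obtain ⟨N, hN⟩ := homSet_exists_pow_le_ker S X.π
  set K : Ideal S.carrier := maximalIdeal S.carrier * J with hKdef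
  have hKJ : K ≤ J := Ideal.mul_le_right
  have hKm : K ≤ maximalIdeal S.carrier := hKJ.trans hJm
  have hKN : maximalIdeal S.carrier ^ (N + 1) ≤ K := by
    rw [pow_succ']
    exact Ideal.mul_mono_right hN
  let B : Art Λ k := cquotArt S K hKm (N + 1) hKN
  let β : HomSet S.carrier S.res B := cquotArtMk S K hKm (N + 1) hKN
  have hβs : Function.Surjective β.1 := cquotArtMk_surjective S K hKm (N + 1) hKN
  have hβk : RingHom.ker (β.1 : S.carrier →+* B) = K := cquotArtMk_ker S K hKm (N + 1) hKN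
  obtain ⟨p, hp⟩ := exists_descend β hβs X.π (by rw [hβk]; exact hKJ)
  have hpβ : ∀ s, p (β.1 s) = X.π.1 s := fun s => congrArg (fun φ : HomSet S.carrier S.res X.T => φ.1 s) hp
  have hps : Function.Surjective p := by
    intro t
    obtain ⟨s, rfl⟩ := X.hπ t
    exact ⟨β.1 s, hpβ s⟩
  have hpsemi : IsSemismallExt p := by
    refine ⟨hps, ?_⟩
    rw [eq_bot_iff, Ideal.mul_le]
    intro b hb c hc
    obtain ⟨s, rfl⟩ := hβs b
    obtain ⟨j, rfl⟩ := hβs c
    have hs : s ∈ maximalIdeal S.carrier := by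
      rw [CRing.mem_maximalIdeal_iff]
      rw [Art.mem_maximalIdeal_iff] at hb
      rw [← hb]
      exact (AlgHom.congr_fun β.2 s).symm
    have hj : j ∈ J := by
      rw [RingHom.mem_ker] at hc ⊢
      have h := hpβ j
      change X.π.1 j = 0
      rw [← h]
      exact hc
    have h2 : s * j ∈ K := Ideal.mul_mem_mul hs hj
    rw [← hβk, RingHom.mem_ker] at h2
    rw [Ideal.mem_bot]
    have h3 : β.1 (s * j) = β.1 s * β.1 j := map_mul β.1 s j
    rw [← h3]
    exact h2
  obtain ⟨J₀, hJ₀, hleast⟩ := exists_least_lifts h1 hpsemi X.η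
  obtain ⟨hJ₀ker, hJ₀m, y, hy⟩ := hJ₀
  let Y : Stage S F :=
    { T := quot B J₀ hJ₀m
      π := HomSet.map (quotMk B J₀ hJ₀m) β
      hπ := (quotMk_surjective B J₀ hJ₀m).comp hβs
      η := y }
  refine ⟨Y, ⟨quotFactor hJ₀m p hJ₀ker, ?_, hy, ?_⟩, ?_⟩
  rotate_left 2
  · intro s hs
    have hs' : s ∈ K := hs
    rw [← hβk, RingHom.mem_ker] at hs'
    rw [RingHom.mem_ker]
    change quotMk B J₀ hJ₀m (β.1 s) = 0
    have h0 : β.1 s = 0 := hs'
    rw [h0]
    exact map_zero (quotMk B J₀ hJ₀m).toAlgHom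
  · change HomSet.map (quotFactor hJ₀m p hJ₀ker) (HomSet.map (quotMk B J₀ hJ₀m) β) = X.π
    rw [homSet_map_map, quotMk_quotFactor, hp]
  · intro P p₁ hp₁ e he
    obtain ⟨u, hu⟩ := hS p₁ hp₁.1 X.π
    have hup : ∀ s, p₁ (u.1 s) = X.π.1 s := fun s =>
      congrArg (fun φ : HomSet S.carrier S.res X.T => φ.1 s) hu
    have hKu : RingHom.ker (β.1 : S.carrier →+* B) ≤ RingHom.ker (u.1 : S.carrier →+* P) := by
      rw [hβk, hKdef, Ideal.mul_le]
      intro s hs j hj
      rw [RingHom.mem_ker]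
      have h3 : u.1 (s * j) = u.1 s * u.1 j := map_mul u.1 s j
      have h4 : u.1 s * u.1 j ∈ maximalIdeal P * RingHom.ker p₁.toAlgHom := by
        apply Ideal.mul_mem_mul
        · exact homSet_maps_maximalIdeal S u s hs
        · rw [RingHom.mem_ker]
          rw [RingHom.mem_ker] at hj
          change p₁ (u.1 j) = 0
          rw [hup]
          exact hj
      rw [hp₁.2.2.2] at h4
      change u.1 (s * j) = 0
      rw [h3]
      exact h4
    obtain ⟨ū, hū⟩ := exists_descend β hβs u hKu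
    have hūp : ū ≫ p₁ = p := by
      apply descend_unique β hβs
      rw [← homSet_map_map, hū, hu, hp]
    have hūp' : ∀ b, p₁ (ū b) = p b := fun b => congrArg (fun t : B ⟶ X.T => t b) hūp
    have hJ₀ū : J₀ ≤ RingHom.ker ū.toAlgHom := by
      by_cases hsurj : Function.Surjective ū
      · apply hleast
        have hkp : RingHom.ker ū.toAlgHom ≤ RingHom.ker p.toAlgHom := by
          intro b hb
          rw [RingHom.mem_ker] at hb ⊢
          change p b = 0
          rw [← hūp']
          have : ū b = 0 := hb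
          rw [this]
          exact map_zero p₁.toAlgHom
        haveI : IsIso (quotFactor (ker_le_maximalIdeal ū) ū le_rfl) :=
          isIso_of_bijective _ (quotFactor_ker_bijective ū hsurj)
        refine ⟨hkp, ker_le_maximalIdeal ū,
          F.map (inv (quotFactor (ker_le_maximalIdeal ū) ū le_rfl)) e, ?_⟩
        have hfac : quotFactor (ker_le_maximalIdeal ū) p hkp =
            quotFactor (ker_le_maximalIdeal ū) ū le_rfl ≫ p₁ := by
          apply Art.hom_ext
          apply AlgHom.ext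
          intro x
          obtain ⟨b, rfl⟩ := quotMk_surjective B _ (ker_le_maximalIdeal ū) x
          exact (hūp' b).symm
        rw [hfac, Functor.map_comp_apply, map_inv_map, he]
      · have hsurj' : Function.Surjective (ū ≫ p₁) := by rw [hūp]; exact hps
        intro b hb
        rw [RingHom.mem_ker]
        apply small_image_inter ū p₁ hp₁ hsurj' hsurj b
        rw [RingHom.mem_ker]
        change p₁ (ū b) = 0
        rw [hūp']
        exact hJ₀ker hb
    refine ⟨quotFactor hJ₀m ū hJ₀ū, ?_⟩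
    apply Art.hom_ext
    apply AlgHom.ext
    intro x
    obtain ⟨b, rfl⟩ := quotMk_surjective B _ hJ₀m x
    exact hūp' b

theorem Stage.exists_next [IsNoetherianRing Λ] [Module.Finite Λ k] (hS : HomSmooth S) (h1 : S1 F)
    (X : Stage S F) : ∃ Y : Stage S F, X.Next Y := by
  obtain ⟨Y, hY, -⟩ := Stage.exists_next_strong hS h1 X
  exact ⟨Y, hY⟩

end Groth.Agent.Helper18
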