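import Mathlib
import Groth.Agent.Lib.Helper18.Schl.Tower
import Groth.Agent.Lib.Helper18.Schl.Chevalley
import Groth.Agent.S12711

/-!
Towers of stages and the family on the limit ring.
-/

set_option autoImplicit false
universe u v
open CategoryTheory

namespace Groth.Agent.Helper18

open ArtFun ArtFun.Art IsLocalRing

variable {Λ k : Type u} [CommRing Λ] [Field k] [Algebra Λ k]

/-- a tower of stages, each a minimal refinement of the previous one -/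
structure Tower (S : CRing Λ k) (F : Art Λ k ⥤ Type v) where
  X : ℕ → Stage S F
  next : ∀ q, (X q).Next (X (q + 1))

variable {S : CRing Λ k} {F : Art Λ k ⥤ Type v}

theorem exists_tower [IsNoetherianRing Λ] [Module.Finite Λ k] (hS : HomSmooth S) (h1 : S1 F)
    (X₀ : Stage S F) : ∃ 𝒯 : Tower S F, 𝒯.X 0 = X₀ := by
  choose nxt hnxt using fun X : Stage S F => Stage.exists_next hS h1 X
  exact ⟨⟨fun q => Nat.rec X₀ (fun _ X => nxt X) q, fun q => hnxt _⟩, rfl⟩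

namespace Tower

variable (𝒯 : Tower S F)

/-- the kernel of the `q`-th quotient map -/
def J (q : ℕ) : Ideal S.carrier := RingHom.ker ((𝒯.X q).π.1 : S.carrier →+* (𝒯.X q).T)

theorem exists_trans (q q' : ℕ) (h : q ≤ q') :
    ∃ g : (𝒯.X q').T ⟶ (𝒯.X q).T, HomSet.map g (𝒯.X q').π = (𝒯.X q).π ∧
      F.map g (𝒯.X q').η = (𝒯.X q).η := by
  induction q', h using Nat.le_induction with
  | base => exact ⟨𝟙 _, homSet_map_id _, Functor.map_id_apply _ _ _⟩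
  | succ q' hq ih =>
    obtain ⟨g, hg1, hg2⟩ := ih
    obtain ⟨τ, hτ1, hτ2, -⟩ := 𝒯.next q'
    exact ⟨τ ≫ g, by rw [← homSet_map_map, hτ1, hg1], by rw [Functor.map_comp_apply, hτ2, hg2]⟩

theorem J_antitone : Antitone 𝒯.J := by
  intro q q' h
  obtain ⟨g, hg, -⟩ := 𝒯.exists_trans q q' h
  intro s hs
  change s ∈ RingHom.ker _ at hs
  change s ∈ RingHom.ker _
  rw [RingHom.mem_ker] at hs ⊢
  have h1 : (𝒯.X q).π.1 s = g ((𝒯.X q').π.1 s) :=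
    (congrArg (fun φ : HomSet S.carrier S.res (𝒯.X q).T => φ.1 s) hg).symm
  have h2 : (𝒯.X q').π.1 s = 0 := hs
  change (𝒯.X q).π.1 s = 0
  rw [h1, h2]
  exact map_zero g.toAlgHom

theorem indep_of_le {A : Art Λ k} {q q' : ℕ} (hqq : q ≤ q') (g : (𝒯.X q).T ⟶ A)
    (g' : (𝒯.X q').T ⟶ A) (h : HomSet.map g (𝒯.X q).π = HomSet.map g' (𝒯.X q').π) :
    F.map g (𝒯.X q).η = F.map g' (𝒯.X q').η := by
  obtain ⟨t, ht1, ht2⟩ := 𝒯.exists_trans q q' hqq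
  have h1 : t ≫ g = g' := by
    apply descend_unique (𝒯.X q').π (𝒯.X q').hπ
    rw [← homSet_map_map, ht1, h]
  rw [← h1, Functor.map_comp_apply, ht2]

theorem indep {A : Art Λ k} {q q' : ℕ} (g : (𝒯.X q).T ⟶ A)
    (g' : (𝒯.X q').T ⟶ A) (h : HomSet.map g (𝒯.X q).π = HomSet.map g' (𝒯.X q').π) :
    F.map g (𝒯.X q).η = F.map g' (𝒯.X q').η := by
  rcases le_total q q' with hqq | hqq
  · exact 𝒯.indep_of_le hqq g g' h
  · exact (𝒯.indep_of_le hqq g' g h.symm).symm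

/-- the intersection of the kernels -/
def Jinf : Ideal S.carrier := ⨅ q, 𝒯.J q

theorem Jinf_le_J (q : ℕ) : 𝒯.Jinf ≤ 𝒯.J q := iInf_le _ q

theorem Jinf_le : 𝒯.Jinf ≤ maximalIdeal S.carrier :=
  (𝒯.Jinf_le_J 0).trans (homSet_ker_le_maximalIdeal S _)

/-- the limit ring -/
noncomputable def ring : CRing Λ k := quotCRing S 𝒯.Jinf 𝒯.Jinf_le

/-- the quotient map to the limit ring -/
noncomputable def qmk : S.carrier →ₐ[Λ] 𝒯.ring.carrier := quotCRingMk S 𝒯.Jinf 𝒯.Jinf_le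

theorem qmk_surjective : Function.Surjective 𝒯.qmk := quotCRingMk_surjective S 𝒯.Jinf 𝒯.Jinf_le

theorem qmk_eq_zero_iff (s : S.carrier) : 𝒯.qmk s = 0 ↔ s ∈ 𝒯.Jinf :=
  quotCRingMk_eq_zero_iff S 𝒯.Jinf 𝒯.Jinf_le s

/-- restriction of a map on the limit ring to `S` -/
noncomputable def pre {A : Art Λ k} (w : HomSet 𝒯.ring.carrier 𝒯.ring.res A) :
    HomSet S.carrier S.res A :=
  ⟨w.1.comp 𝒯.qmk, by
    rw [← AlgHom.comp_assoc, w.2]
    exact quotCRingMk_res S 𝒯.Jinf 𝒯.Jinf_le⟩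

theorem pre_apply {A : Art Λ k} (w : HomSet 𝒯.ring.carrier 𝒯.ring.res A) (s : S.carrier) :
    (𝒯.pre w).1 s = w.1 (𝒯.qmk s) := rfl

theorem pre_map {A B : Art Λ k} (f : A ⟶ B) (w : HomSet 𝒯.ring.carrier 𝒯.ring.res A) :
    𝒯.pre (HomSet.map f w) = HomSet.map f (𝒯.pre w) :=
  Subtype.ext (AlgHom.ext fun _ => rfl)

theorem pre_injective {A : Art Λ k} : Function.Injective (𝒯.pre (A := A)) := by
  intro w w' h
  apply Subtype.ext
  apply AlgHom.ext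
  intro x
  obtain ⟨s, rfl⟩ := 𝒯.qmk_surjective x
  exact congrArg (fun φ : HomSet S.carrier S.res A => φ.1 s) h

theorem Jinf_le_ker_pre {A : Art Λ k} (w : HomSet 𝒯.ring.carrier 𝒯.ring.res A) :
    𝒯.Jinf ≤ RingHom.ker ((𝒯.pre w).1 : S.carrier →+* A) := by
  intro s hs
  rw [RingHom.mem_ker]
  change w.1 (𝒯.qmk s) = 0
  rw [(𝒯.qmk_eq_zero_iff s).2 hs, map_zero]

theorem exists_of_pre {A : Art Λ k} (ψ₀ : HomSet S.carrier S.res A)
    (h : 𝒯.Jinf ≤ RingHom.ker (ψ₀.1 : S.carrier →+* A)) :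
    ∃ ψ : HomSet 𝒯.ring.carrier 𝒯.ring.res A, 𝒯.pre ψ = ψ₀ := by
  let ψ : S.carrier ⧸ 𝒯.Jinf →ₐ[Λ] A := Ideal.Quotient.liftₐ 𝒯.Jinf ψ₀.1 (fun a ha => h ha)
  have hψ : ∀ s, ψ (Ideal.Quotient.mk _ s) = ψ₀.1 s := fun s => rfl
  refine ⟨⟨ψ, ?_⟩, ?_⟩
  · apply AlgHom.ext
    intro x
    obtain ⟨s, rfl⟩ := Ideal.Quotient.mk_surjective x
    change A.res (ψ (Ideal.Quotient.mk _ s)) = S.res s
    rw [hψ]
    exact AlgHom.congr_fun ψ₀.2 s
  · apply Subtype.ext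
    apply AlgHom.ext
    intro s
    rfl

theorem exists_stage {A : Art Λ k} (w : HomSet 𝒯.ring.carrier 𝒯.ring.res A) :
    ∃ (q : ℕ) (g : (𝒯.X q).T ⟶ A), HomSet.map g (𝒯.X q).π = 𝒯.pre w := by
  obtain ⟨N, hN⟩ := homSet_exists_pow_le_ker S (𝒯.pre w)
  obtain ⟨q, hq⟩ := chevalley S 𝒯.J 𝒯.J_antitone N
  refine ⟨q, ?_⟩
  apply exists_descend (𝒯.X q).π (𝒯.X q).hπ (𝒯.pre w)
  refine le_trans hq (sup_le (𝒯.Jinf_le_ker_pre w) ?_)
  exact le_trans (Ideal.pow_le_pow_right (Nat.le_succ N)) hN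

/-- the value of the family -/
noncomputable def famApp (A : Art Λ k) (w : HomSet 𝒯.ring.carrier 𝒯.ring.res A) : F.obj A :=
  F.map (𝒯.exists_stage w).choose_spec.choose (𝒯.X (𝒯.exists_stage w).choose).η

theorem famApp_eq {A : Art Λ k} (w : HomSet 𝒯.ring.carrier 𝒯.ring.res A) (q : ℕ)
    (g : (𝒯.X q).T ⟶ A) (h : HomSet.map g (𝒯.X q).π = 𝒯.pre w) :
    𝒯.famApp A w = F.map g (𝒯.X q).η :=
  𝒯.indep _ g ((𝒯.exists_stage w).choose_spec.choose_spec.trans h.symm)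

/-- the family on the limit ring -/
noncomputable def family : Family 𝒯.ring.carrier 𝒯.ring.res F where
  app := 𝒯.famApp
  natural := by
    intro A B f w
    obtain ⟨q, g, hg⟩ := 𝒯.exists_stage w
    rw [𝒯.famApp_eq w q g hg, 𝒯.famApp_eq (HomSet.map f w) q (g ≫ f) (by
      rw [← homSet_map_map, hg, pre_map]), Functor.map_comp_apply]

theorem family_app {A : Art Λ k} (w : HomSet 𝒯.ring.carrier 𝒯.ring.res A) (q : ℕ)
    (g : (𝒯.X q).T ⟶ A) (h : HomSet.map g (𝒯.X q).π = 𝒯.pre w) :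
    𝒯.family.app A w = F.map g (𝒯.X q).η := 𝒯.famApp_eq w q g h

theorem family_lift [IsNoetherianRing Λ] [Module.Finite Λ k] (hbar : Hbar F)
    ⦃B A : Art Λ k⦄ (μ : B ⟶ A) (hμ : IsSmallExt μ)
    (φ : HomSet 𝒯.ring.carrier 𝒯.ring.res A) (y : F.obj B)
    (hy : F.map μ y = 𝒯.family.app A φ) :
    ∃ ψ : HomSet 𝒯.ring.carrier 𝒯.ring.res B, HomSet.map μ ψ = φ := by
  obtain ⟨q, g, hg⟩ := 𝒯.exists_stage φ
  rw [𝒯.family_app φ q g hg] at hy
  have hsq := isFibreProd_fibreProd g μ hμ.1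
  have hp₁ : IsSmallExt (fibreProd.fst g μ hμ.1) := Groth.Agent.S12711.result hsq hμ
  obtain ⟨e, he⟩ := hbar _ _ _ _ hsq hμ ⟨((𝒯.X q).η, y), hy.symm⟩
  rw [cmp_eq_iff] at he
  obtain ⟨he1, he2⟩ := he
  dsimp only at he1 he2
  obtain ⟨τ, hτ1, hτ2, hmin⟩ := 𝒯.next q
  obtain ⟨v, hv⟩ := hmin _ _ hp₁ e he1
  obtain ⟨ψ, hψ⟩ := 𝒯.exists_of_pre (HomSet.map (v ≫ fibreProd.snd g μ hμ.1) (𝒯.X (q + 1)).π) (by
    refine le_trans (𝒯.Jinf_le_J (q + 1)) ?_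
    intro s hs
    change s ∈ RingHom.ker _ at hs
    rw [RingHom.mem_ker] at hs ⊢
    have h2 : (𝒯.X (q + 1)).π.1 s = 0 := hs
    change (v ≫ fibreProd.snd g μ hμ.1) ((𝒯.X (q + 1)).π.1 s) = 0
    rw [h2]
    exact map_zero (v ≫ fibreProd.snd g μ hμ.1).toAlgHom)
  refine ⟨ψ, ?_⟩
  apply 𝒯.pre_injective
  rw [pre_map, hψ, homSet_map_map, Category.assoc, ← hsq.w, ← Category.assoc, hv,
    ← homSet_map_map, hτ1, hg]

theorem family_tangent_bijective (X₀ : Stage S F) (h : 𝒯.X 0 = X₀)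
    (hfac : ∀ w : HomSet S.carrier S.res (dual Λ k),
      ∃ g : X₀.T ⟶ dual Λ k, HomSet.map g X₀.π = w)
    (hinj : ∀ g g' : X₀.T ⟶ dual Λ k, F.map g X₀.η = F.map g' X₀.η → g = g')
    (hsurj : ∀ t : F.obj (dual Λ k), ∃ g : X₀.T ⟶ dual Λ k, F.map g X₀.η = t) :
    Function.Bijective (𝒯.family.app (dual Λ k)) := by
  subst h
  constructor
  · intro w w' hww
    obtain ⟨g, hg⟩ := hfac (𝒯.pre w)
    obtain ⟨g', hg'⟩ := hfac (𝒯.pre w')
    rw [𝒯.family_app w 0 g hg, 𝒯.family_app w' 0 g' hg'] at hww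
    have := hinj g g' hww
    subst this
    apply 𝒯.pre_injective
    rw [← hg, ← hg']
  · intro t
    obtain ⟨g, hg⟩ := hsurj t
    obtain ⟨w, hw⟩ := 𝒯.exists_of_pre (HomSet.map g (𝒯.X 0).π) (by
      refine le_trans (𝒯.Jinf_le_J 0) ?_
      intro s hs
      change s ∈ RingHom.ker _ at hs
      rw [RingHom.mem_ker] at hs ⊢
      have h2 : (𝒯.X 0).π.1 s = 0 := hs
      change g ((𝒯.X 0).π.1 s) = 0
      rw [h2]
      exact map_zero g.toAlgHom)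
    refine ⟨w, ?_⟩
    rw [𝒯.family_app w 0 g hw.symm, hg]

end Tower

end Groth.Agent.Helper18
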