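import Mathlib
import Groth.Agent.Lib.Helper18.ArtFunRS

/-!
The objects `k ⊕ k^r`, and first-order deformations: `F(k ⊕ k^r) ≅ t_F^r`.
-/

set_option autoImplicit false
universe u v
open CategoryTheory

namespace Groth.Agent.Helper18

open ArtFun ArtFun.Art

variable {Λ : Type u} {k : Type u} [CommRing Λ] [Field k] [Algebra Λ k]

variable (Λ k) in
/-- the object `k ⊕ k^r` -/
noncomputable def kV (r : ℕ) : Art Λ k :=
  { carrier := TrivSqZeroExt k (Fin r → k)
    isLocalRing := isLocalRing_tsze k (Fin r → k)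
    isArtinianRing := isArtinianRing_tsze k (Fin r → k)
    res := TrivSqZeroExt.fstHom Λ k (Fin r → k)
    res_surjective := fun a => ⟨TrivSqZeroExt.inl a, rfl⟩ }

/-- the map `k ⊕ k^r → k[ε]` induced by a functional -/
noncomputable def kVtoDual {r : ℕ} (l : (Fin r → k) →ₗ[k] k) : kV Λ k r ⟶ dual Λ k :=
  ⟨tszeMap l, AlgHom.ext fun _ => rfl⟩

/-- the map `k ⊕ k^r → k[ε₁, ε₂]` induced by a pair of functionals -/
noncomputable def kVtoDual2 {r : ℕ} (l l' : (Fin r → k) →ₗ[k] k) : kV Λ k r ⟶ dual2 Λ k :=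
  ⟨tszeMap (l.prod l'), AlgHom.ext fun _ => rfl⟩

/-- the map `k ⊕ k^(r+1) → k ⊕ k^r` forgetting the last coordinate -/
noncomputable def kVinit (r : ℕ) : kV Λ k (r + 1) ⟶ kV Λ k r :=
  ⟨tszeMap (LinearMap.funLeft k k Fin.castSucc), AlgHom.ext fun _ => rfl⟩

/-- the inclusion `k → k ⊕ k^r` -/
noncomputable def baseToKV (r : ℕ) : base Λ k ⟶ kV Λ k r :=
  ⟨(Algebra.ofId k (TrivSqZeroExt k (Fin r → k))).restrictScalars Λ, AlgHom.ext fun _ => rfl⟩

theorem kVtoDual2_pr₁ {r : ℕ} (l l' : (Fin r → k) →ₗ[k] k) :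
    kVtoDual2 (Λ := Λ) l l' ≫ pr₁ = kVtoDual l :=
  Art.hom_ext (AlgHom.ext fun _ => rfl)

theorem kVtoDual2_pr₂ {r : ℕ} (l l' : (Fin r → k) →ₗ[k] k) :
    kVtoDual2 (Λ := Λ) l l' ≫ pr₂ = kVtoDual l' :=
  Art.hom_ext (AlgHom.ext fun _ => rfl)

theorem kVtoDual2_plus {r : ℕ} (l l' : (Fin r → k) →ₗ[k] k) :
    kVtoDual2 (Λ := Λ) l l' ≫ plus = kVtoDual (l + l') :=
  Art.hom_ext (AlgHom.ext fun _ => rfl)

theorem kVtoDual_scale {r : ℕ} (c : k) (l : (Fin r → k) →ₗ[k] k) :
    kVtoDual (Λ := Λ) l ≫ scale c = kVtoDual (c • l) :=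
  Art.hom_ext (AlgHom.ext fun _ => rfl)

theorem kVinit_kVtoDual {r : ℕ} (j : Fin r) :
    kVinit (Λ := Λ) (k := k) r ≫ kVtoDual (LinearMap.proj j) = kVtoDual (LinearMap.proj (Fin.castSucc j)) :=
  Art.hom_ext (AlgHom.ext fun _ => rfl)

theorem isFibreProd_kV_succ (r : ℕ) :
    IsFibreProd (kVinit (Λ := Λ) (k := k) r) (kVtoDual (LinearMap.proj (Fin.last r)))
      (toBase (kV Λ k r)) (toBase (dual Λ k)) where
  w := by rw [eq_toBase (kVinit r ≫ toBase _), eq_toBase (kVtoDual _ ≫ toBase _)]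
  inj b₁ b₂ h₁ h₂ := by
    have e₁ : TrivSqZeroExt.fst (R := k) (M := Fin (r + 1) → k) b₁ = TrivSqZeroExt.fst (R := k) b₂ := by
      have e := congrArg (TrivSqZeroExt.fst (R := k) (M := Fin r → k)) h₁; exact e
    have e₂ : ∀ j : Fin r, TrivSqZeroExt.snd (R := k) (M := Fin (r + 1) → k) b₁ (Fin.castSucc j) =
        TrivSqZeroExt.snd (R := k) (M := Fin (r + 1) → k) b₂ (Fin.castSucc j) := by
      intro j
      have e := congrArg (fun t => TrivSqZeroExt.snd (R := k) (M := Fin r → k) t j) h₁; exact e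
    have e₃ : TrivSqZeroExt.snd (R := k) (M := Fin (r + 1) → k) b₁ (Fin.last r) =
        TrivSqZeroExt.snd (R := k) (M := Fin (r + 1) → k) b₂ (Fin.last r) := by
      have e := congrArg (TrivSqZeroExt.snd (R := k) (M := k)) h₂; exact e
    refine TrivSqZeroExt.ext e₁ ?_
    funext i
    refine Fin.lastCases e₃ (fun j => e₂ j) i
  surj a' a'' h := by
    refine ⟨((TrivSqZeroExt.fst (R := k) (M := Fin r → k) a',
      Fin.snoc (α := fun _ => k) (TrivSqZeroExt.snd (R := k) (M := Fin r → k) a')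
        (TrivSqZeroExt.snd (R := k) (M := k) a'')) : TrivSqZeroExt k (Fin (r + 1) → k)), ?_, ?_⟩
    · refine TrivSqZeroExt.ext rfl ?_
      funext j
      change Fin.snoc (α := fun _ => k) _ _ (Fin.castSucc j) = _
      rw [Fin.snoc_castSucc]
    · refine TrivSqZeroExt.ext ?_ ?_
      · exact h
      · change Fin.snoc (α := fun _ => k) _ _ (Fin.last r) = _
        rw [Fin.snoc_last]

variable {F : Art Λ k ⥤ Type v}

/-- first order elements with prescribed components -/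
theorem exists_firstOrder (h0 : H0 F) (heps : Heps F) :
    ∀ (r : ℕ) (v : Fin r → F.obj (dual Λ k)),
      ∃ ξ : F.obj (kV Λ k r), ∀ i, F.map (kVtoDual (LinearMap.proj i)) ξ = v i := by
  intro r
  induction r with
  | zero =>
    intro v
    obtain ⟨x₀⟩ := h0.1
    exact ⟨F.map (baseToKV 0) x₀, fun i => i.elim0⟩
  | succ r ih =>
    intro v
    obtain ⟨ξ', hξ'⟩ := ih (fun j => v (Fin.castSucc j))
    have hs := h0.2
    obtain ⟨ξ, hξ⟩ := (heps _ _ (isFibreProd_kV_succ (Λ := Λ) (k := k) r)).2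
      ⟨(ξ', v (Fin.last r)), Subsingleton.elim _ _⟩
    rw [cmp_eq_iff] at hξ
    obtain ⟨hξ₁, hξ₂⟩ := hξ
    dsimp only at hξ₁ hξ₂
    refine ⟨ξ, fun i => ?_⟩
    refine Fin.lastCases hξ₂ (fun j => ?_) i
    rw [← kVinit_kVtoDual, Functor.map_comp_apply, hξ₁, hξ' j]

section Linear

variable [TangentStr F] {r : ℕ} (ξ : F.obj (kV Λ k r))

/-- the first order characteristic map `(k^r)^* → t_F` -/
noncomputable def firstOrderMap : ((Fin r → k) →ₗ[k] k) →ₗ[k] TangentSpace F where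
  toFun l := F.map (kVtoDual l) ξ
  map_add' l l' := by
    have h := TangentStr.add_eq (F.map (kVtoDual2 l l') ξ)
    rw [← Functor.map_comp_apply, ← Functor.map_comp_apply, ← Functor.map_comp_apply,
      kVtoDual2_pr₁, kVtoDual2_pr₂, kVtoDual2_plus] at h
    exact h.symm
  map_smul' c l := by
    have h := TangentStr.smul_eq c (F.map (kVtoDual l) ξ)
    rw [← Functor.map_comp_apply, kVtoDual_scale] at h
    exact h.symm

theorem firstOrderMap_apply (l : (Fin r → k) →ₗ[k] k) :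
    firstOrderMap ξ l = F.map (kVtoDual l) ξ := rfl

theorem firstOrderMap_bijective (b : Module.Basis (Fin r) k (TangentSpace F))
    (hξ : ∀ i, F.map (kVtoDual (LinearMap.proj i)) ξ = b i) :
    Function.Bijective (firstOrderMap ξ) := by
  let b' : Module.Basis (Fin r) k ((Fin r → k) →ₗ[k] k) := (Pi.basisFun k (Fin r)).dualBasis
  have hb' : ∀ i, b' i = LinearMap.proj i := by
    intro i
    apply LinearMap.ext
    intro w
    simp [b', Module.Basis.dualBasis_apply]
  have h1 : firstOrderMap ξ = (b'.equiv b (Equiv.refl _)).toLinearMap := by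
    apply b'.ext
    intro i
    rw [LinearEquiv.coe_coe, Module.Basis.equiv_apply, Equiv.refl_apply, hb', firstOrderMap_apply, hξ]
  rw [h1]
  exact (b'.equiv b (Equiv.refl _)).bijective

end Linear

end Groth.Agent.Helper18
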