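import Groth.Agent.Lib.Helper18.Schl.PSRing
import Groth.Agent.Lib.Helper18.Schl.FirstOrder

/-!
The first order quotient `Λ[[x]] → k ⊕ k^r` of the power series ring.
-/

set_option autoImplicit false
universe u v
open CategoryTheory

namespace Groth.Agent.Helper18

open ArtFun ArtFun.Art IsLocalRing

variable {Λ k : Type u} [CommRing Λ] [Field k] [Algebra Λ k]

/-- the element `ε_i` of `k ⊕ k^r` -/
noncomputable def kVeps {r : ℕ} (i : Fin r) : kV Λ k r :=
  (TrivSqZeroExt.inr (Pi.single i 1) : TrivSqZeroExt k (Fin r → k))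

theorem kVeps_mem {r : ℕ} (i : Fin r) : kVeps (Λ := Λ) (k := k) i ∈ IsLocalRing.maximalIdeal (kV Λ k r) := by
  rw [Art.mem_maximalIdeal_iff]
  rfl

theorem kVtoDual_kVeps {r : ℕ} (l : (Fin r → k) →ₗ[k] k) (i : Fin r) :
    kVtoDual (Λ := Λ) l (kVeps i) = (TrivSqZeroExt.inr (l (Pi.single i 1)) : TrivSqZeroExt k k) :=
  rfl

variable [IsLocalRing Λ] [IsNoetherianRing Λ] [IsAdicComplete (maximalIdeal Λ) Λ]
variable (hk : Function.Surjective (algebraMap Λ k)) (r : ℕ)

/-- the first-order quotient map -/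
noncomputable def psPi1 : HomSet (psCRing r hk).carrier (psCRing r hk).res (kV Λ k r) :=
  (ps_exists_homSet hk r (fun i => kVeps i) (fun i => kVeps_mem i)).choose

theorem psPi1_X (i : Fin r) : (psPi1 hk r).1 (MvPowerSeries.X i) = kVeps i :=
  (ps_exists_homSet hk r (fun i => kVeps i) (fun i => kVeps_mem i)).choose_spec i

theorem tsze_decomp {r : ℕ} (y : TrivSqZeroExt k (Fin r → k)) (c₀ : Λ) (c : Fin r → Λ)
    (h₀ : algebraMap Λ k c₀ = y.fst) (h : ∀ i, algebraMap Λ k (c i) = y.snd i) :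
    algebraMap Λ (TrivSqZeroExt k (Fin r → k)) c₀ +
      ∑ i, algebraMap Λ (TrivSqZeroExt k (Fin r → k)) (c i) * TrivSqZeroExt.inr (Pi.single i 1) = y := by
  simp only [TrivSqZeroExt.algebraMap_eq_inl']
  refine TrivSqZeroExt.ext ?_ ?_
  · rw [TrivSqZeroExt.fst_add, TrivSqZeroExt.fst_sum, TrivSqZeroExt.fst_inl, h₀]
    simp
  · rw [TrivSqZeroExt.snd_add, TrivSqZeroExt.snd_sum, TrivSqZeroExt.snd_inl, zero_add]
    simp only [TrivSqZeroExt.inl_mul_inr, TrivSqZeroExt.snd_inr, h]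
    funext j
    simp [Finset.sum_apply, Pi.single_apply]

theorem psPi1_surjective : Function.Surjective (psPi1 hk r).1 := by
  intro y
  obtain ⟨l₀, hl₀⟩ := hk (TrivSqZeroExt.fst (R := k) (M := Fin r → k) y)
  choose l hl using fun i => hk (TrivSqZeroExt.snd (R := k) (M := Fin r → k) y i)
  obtain ⟨φ, hφ⟩ : ∃ φ : MvPowerSeries (Fin r) Λ →ₐ[Λ] (TrivSqZeroExt k (Fin r → k)),
      φ = (psPi1 hk r).1 := ⟨_, rfl⟩
  have hX : ∀ i, φ (MvPowerSeries.X i) = TrivSqZeroExt.inr (Pi.single i 1) := fun i => by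
    rw [hφ]; exact psPi1_X hk r i
  have h1 : φ (algebraMap Λ (MvPowerSeries (Fin r) Λ) l₀ +
        ∑ i, algebraMap Λ (MvPowerSeries (Fin r) Λ) (l i) * MvPowerSeries.X i) =
      algebraMap Λ (TrivSqZeroExt k (Fin r → k)) l₀ +
        ∑ i, algebraMap Λ (TrivSqZeroExt k (Fin r → k)) (l i) *
          TrivSqZeroExt.inr (Pi.single i 1) := by
    rw [map_add, map_sum, AlgHom.commutes]
    congr 1
    apply Finset.sum_congr rfl
    intro i _
    rw [map_mul, AlgHom.commutes, hX]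
  refine ⟨(algebraMap Λ (MvPowerSeries (Fin r) Λ) l₀ +
        ∑ i, algebraMap Λ (MvPowerSeries (Fin r) Λ) (l i) * MvPowerSeries.X i :
          MvPowerSeries (Fin r) Λ), ?_⟩
  have h2 := h1.trans (tsze_decomp (Λ := Λ) (k := k) y l₀ l hl₀ hl)
  rw [hφ] at h2
  exact h2

/-- every tangent vector of the power series ring factors through the first order quotient -/
theorem ps_tangent_factor (w : HomSet (psCRing r hk).carrier (psCRing r hk).res (dual Λ k)) :
    ∃ l : (Fin r → k) →ₗ[k] k, HomSet.map (kVtoDual l) (psPi1 hk r) = w := by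
  let c : Fin r → k := fun i => TrivSqZeroExt.snd (R := k) (M := k) (w.1 (MvPowerSeries.X i))
  let l : (Fin r → k) →ₗ[k] k := ∑ i, c i • LinearMap.proj i
  refine ⟨l, ?_⟩
  apply ps_homSet_ext hk r
  intro i
  change kVtoDual l ((psPi1 hk r).1 (MvPowerSeries.X i)) = w.1 (MvPowerSeries.X i)
  rw [psPi1_X, kVtoDual_kVeps]
  have hm := ps_homSet_X_mem hk r w i
  rw [Art.mem_maximalIdeal_iff] at hm
  refine TrivSqZeroExt.ext ?_ ?_
  · rw [TrivSqZeroExt.fst_inr]
    exact hm.symm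
  · rw [TrivSqZeroExt.snd_inr]
    simp [l, c, LinearMap.sum_apply, Pi.single_apply]

end Groth.Agent.Helper18
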