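import Mathlib
import Groth.Agent.Lib.Helper18.Schl.Hull
import Groth.Agent.Lib.Helper18.Schl.PSFirstOrder

/-!
Schlessinger's theorem: existence of a hull.
-/

set_option autoImplicit false
universe u v
open CategoryTheory

namespace Groth.Agent.Helper18

open ArtFun ArtFun.Art IsLocalRing

variable {Λ k : Type u} [CommRing Λ] [Field k] [Algebra Λ k]
variable [IsLocalRing Λ] [IsNoetherianRing Λ] [IsAdicComplete (maximalIdeal Λ) Λ]
variable {F : Art Λ k ⥤ Type v}

theorem homSmooth_ps (hk : Function.Surjective (algebraMap Λ k)) (r : ℕ) :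
    HomSmooth (psCRing r hk) := fun _ _ μ hμ φ => ps_lift hk r μ hμ φ

theorem moduleFinite_of_surjective (hk : Function.Surjective (algebraMap Λ k)) :
    Module.Finite Λ k :=
  Module.Finite.of_surjective (Algebra.linearMap Λ k) hk

/-- every map `k ⊕ k^r → k[ε]` is induced by a functional -/
theorem kV_hom_eq (hk : Function.Surjective (algebraMap Λ k)) (r : ℕ)
    (g : kV Λ k r ⟶ dual Λ k) : ∃ l : (Fin r → k) →ₗ[k] k, g = kVtoDual l := by
  obtain ⟨l, hl⟩ := ps_tangent_factor hk r (HomSet.map g (psPi1 hk r))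
  refine ⟨l, ?_⟩
  apply descend_unique (psPi1 hk r) (psPi1_surjective hk r)
  exact hl.symm

theorem exists_hull [TangentStr F] (hk : Function.Surjective (algebraMap Λ k))
    (h0 : H0 F) (hbar : Hbar F) (heps : Heps F) (hfin : Hfin F) :
    ∃ (R : CRing Λ k) (ξ : Family R.carrier R.res F),
      IsVersal ξ ∧ Function.Bijective (ξ.app (dual Λ k)) := by
  haveI : Module.Finite Λ k := moduleFinite_of_surjective hk
  haveI : Module.Finite k (TangentSpace F) := hfin
  set r := Module.finrank k (TangentSpace F) with hr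
  let b : Module.Basis (Fin r) k (TangentSpace F) := Module.finBasis k (TangentSpace F)
  obtain ⟨ξ₁, hξ₁⟩ := exists_firstOrder h0 heps r (fun i => (b i : F.obj (dual Λ k)))
  have hbij := firstOrderMap_bijective ξ₁ b hξ₁
  let X₀ : Stage (psCRing r hk) F :=
    { T := kV Λ k r
      π := psPi1 hk r
      hπ := psPi1_surjective hk r
      η := ξ₁ }
  obtain ⟨𝒯, h𝒯⟩ := exists_tower (homSmooth_ps hk r) (s1_of_hbar hbar) X₀
  refine ⟨𝒯.ring, 𝒯.family, ?_, ?_⟩
  · have htan : Function.Bijective (𝒯.family.app (dual Λ k)) := by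
      apply 𝒯.family_tangent_bijective X₀ h𝒯
      · intro w
        obtain ⟨l, hl⟩ := ps_tangent_factor hk r w
        exact ⟨kVtoDual l, hl⟩
      · intro g g' hgg
        obtain ⟨l, rfl⟩ := kV_hom_eq hk r g
        obtain ⟨l', rfl⟩ := kV_hom_eq hk r g'
        have : l = l' := hbij.1 hgg
        rw [this]
      · intro t
        obtain ⟨l, hl⟩ := hbij.2 t
        exact ⟨kVtoDual l, hl⟩
    exact isVersal_of_tangent_surjective hbar heps 𝒯.family htan.2
      (fun B A μ hμ φ y hy => 𝒯.family_lift hbar μ hμ φ y hy)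
  · apply 𝒯.family_tangent_bijective X₀ h𝒯
    · intro w
      obtain ⟨l, hl⟩ := ps_tangent_factor hk r w
      exact ⟨kVtoDual l, hl⟩
    · intro g g' hgg
      obtain ⟨l, rfl⟩ := kV_hom_eq hk r g
      obtain ⟨l', rfl⟩ := kV_hom_eq hk r g'
      have : l = l' := hbij.1 hgg
      rw [this]
    · intro t
      obtain ⟨l, hl⟩ := hbij.2 t
      exact ⟨kVtoDual l, hl⟩

end Groth.Agent.Helper18
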