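import Mathlib
import Groth.Agent.Lib.Helper18.Schl.HullExists
import Groth.Agent.Lib.Helper18.ArtFunComplete
import Groth.Agent.Lib.Helper18.ArtFunRS

/-!
A family over a power series ring which is bijective on tangent spaces is miniversal as soon as
a hull exists.
-/

set_option autoImplicit false
universe u v
open CategoryTheory

namespace Groth.Agent.Helper18

open ArtFun ArtFun.Art IsLocalRing

variable {Λ k : Type u} [CommRing Λ] [Field k] [Algebra Λ k]

section General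

variable {F : Art Λ k ⥤ Type v}
variable {R : Type u} [CommRing R] [Algebra Λ R] {resR : R →ₐ[Λ] k}

theorem baseToDual_toBase : (baseToDual : base Λ k ⟶ dual Λ k) ≫ toBase (dual Λ k) = 𝟙 (base Λ k) := by
  rw [eq_toBase (baseToDual ≫ toBase (dual Λ k)), eq_toBase (𝟙 (base Λ k))]

theorem h0_of_tangent_surjective (ξ : Family R resR F)
    (hs : Function.Surjective (ξ.app (dual Λ k))) : H0 F := by
  refine ⟨⟨ξ.app _ homSetBase⟩, ⟨?_⟩⟩
  have key : ∀ x : F.obj (base Λ k), x = ξ.app _ homSetBase := by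
    intro x
    obtain ⟨w, hw⟩ := hs (F.map baseToDual x)
    have h1 : F.map (toBase (dual Λ k)) (F.map baseToDual x) = x := by
      rw [← Functor.map_comp_apply, baseToDual_toBase, Functor.map_id_apply]
    rw [← h1, ← hw, ← ξ.natural]
    congr 1
    exact homSet_base_eq _ _
  intro x y
  rw [key x, key y]

/-- precomposition with a map of augmented algebras -/
def HomSet.pre {R₀ : Type u} [CommRing R₀] [Algebra Λ R₀] {resR₀ : R₀ →ₐ[Λ] k}
    (u : R₀ →ₐ[Λ] R) (hu : resR.comp u = resR₀) {A : Art Λ k} (ψ : HomSet R resR A) :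
    HomSet R₀ resR₀ A :=
  ⟨ψ.1.comp u, by rw [← AlgHom.comp_assoc, ψ.2, hu]⟩

theorem HomSet.pre_map {R₀ : Type u} [CommRing R₀] [Algebra Λ R₀] {resR₀ : R₀ →ₐ[Λ] k}
    (u : R₀ →ₐ[Λ] R) (hu : resR.comp u = resR₀) {A B : Art Λ k} (f : A ⟶ B) (ψ : HomSet R resR A) :
    HomSet.pre u hu (HomSet.map f ψ) = HomSet.map f (HomSet.pre u hu ψ) :=
  Subtype.ext (AlgHom.ext fun _ => rfl)

theorem along_app {R₀ : Type u} [CommRing R₀] [Algebra Λ R₀] {resR₀ : R₀ →ₐ[Λ] k}
    (ξ₀ : Family R₀ resR₀ F) (u : R₀ →ₐ[Λ] R) (hu : resR.comp u = resR₀) {A : Art Λ k}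
    (ψ : HomSet R resR A) : (ξ₀.along u hu).app A ψ = ξ₀.app A (HomSet.pre u hu ψ) := rfl

/-- if `R` is smooth and `u : R₀ → R` is bijective on tangent spaces, a versal family over `R₀`
pulls back to a versal family over `R` -/
theorem isVersal_along_of_smooth {R₀ : Type u} [CommRing R₀] [Algebra Λ R₀] {resR₀ : R₀ →ₐ[Λ] k}
    (ξ₀ : Family R₀ resR₀ F) (hξ₀ : IsVersal ξ₀) (u : R₀ →ₐ[Λ] R) (hu : resR.comp u = resR₀)
    (hsm : ∀ ⦃B A : Art Λ k⦄ (μ : B ⟶ A), Function.Surjective μ →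
      ∀ φ : HomSet R resR A, ∃ ψ : HomSet R resR B, HomSet.map μ ψ = φ)
    (htan : Function.Surjective (fun w : HomSet R resR (dual Λ k) => HomSet.pre u hu w)) :
    IsVersal (ξ₀.along u hu) := by
  apply isVersal_of_small_lifts
  intro B A μ hμ φ y hy
  rw [along_app] at hy
  obtain ⟨ψ₀, hψ₀1, hψ₀2⟩ := hξ₀ μ hμ.1 _ y hy
  obtain ⟨ψ₁, hψ₁⟩ := hsm μ hμ.1 φ
  obtain ⟨t, ht, htm, ht0, hker⟩ := IsSmallExt.exists_generator hμ
  have hsh := isFibreProd_shift μ (Deps.isFibreProd B) ht htm ht0 hker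
  have hcomp : HomSet.map μ (HomSet.pre u hu ψ₁) = HomSet.map μ ψ₀ := by
    rw [← HomSet.pre_map, hψ₁, hψ₀1]
  obtain ⟨z, hz₁, hz₂⟩ := exists_homSet_lift_of_isFibreProd hsh _ _ hcomp
  obtain ⟨w, hw⟩ := htan (HomSet.map (Deps.q₂ B) z)
  dsimp only at hw
  obtain ⟨z', hz'₁, hz'₂⟩ := exists_homSet_lift_of_isFibreProd (Deps.isFibreProd B) ψ₁ w
    (homSet_base_eq _ _)
  have hzz : HomSet.pre u hu z' = z := by
    apply homSet_ext_of_isFibreProd (Deps.isFibreProd B)
    · rw [← HomSet.pre_map, hz'₁, hz₁]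
    · rw [← HomSet.pre_map, hz'₂, hw]
  refine ⟨HomSet.map (shift (Deps.q₁ B) (Deps.q₂ B) ht htm) z', ?_, ?_⟩
  · rw [homSet_map_map, ← hsh.w, ← homSet_map_map, hz'₁, hψ₁]
  · rw [along_app, HomSet.pre_map, hzz, hz₂, hψ₀2]

end General

section PS

variable [IsLocalRing Λ] [IsNoetherianRing Λ] [IsAdicComplete (maximalIdeal Λ) Λ]
variable (hk : Function.Surjective (algebraMap Λ k)) (n : ℕ)

include hk

/-- every `Λ`-algebra map from the power series ring to `k` is the standard augmentation -/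
theorem ps_res_unique (ρ : MvPowerSeries (Fin n) Λ →ₐ[Λ] k) : ρ = psRes n := by
  have hρ : ∀ i, ρ (MvPowerSeries.X i) = 0 := by
    intro i
    by_contra ha
    obtain ⟨l, hl⟩ := hk (-(ρ (MvPowerSeries.X i))⁻¹)
    have hu : IsUnit (1 + MvPowerSeries.C l * MvPowerSeries.X i : MvPowerSeries (Fin n) Λ) := by
      rw [MvPowerSeries.isUnit_iff_constantCoeff, map_add, map_one, map_mul,
        MvPowerSeries.constantCoeff_X, mul_zero, add_zero]
      exact isUnit_one
    have h1 : ρ (1 + MvPowerSeries.C l * MvPowerSeries.X i) = 0 := by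
      rw [map_add, map_one, map_mul, MvPowerSeries.c_eq_algebraMap, AlgHom.commutes, hl,
        neg_mul, inv_mul_cancel₀ ha, add_neg_cancel]
    have h2 := hu.map ρ
    rw [h1] at h2
    exact not_isUnit_zero h2
  apply ps_algHom_ext ρ (psRes n) ⊥ 1 (pow_one _)
  · intro i
    rw [hρ i]
    exact Ideal.zero_mem _
  · intro i
    rw [hρ i, psRes_X]

theorem homSmooth_of_equiv (R : CRing Λ k) (e : R.carrier ≃ₐ[Λ] MvPowerSeries (Fin n) Λ) :
    HomSmooth R := by
  have hres : R.res.comp (e.symm : MvPowerSeries (Fin n) Λ →ₐ[Λ] R.carrier) = psRes n :=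
    ps_res_unique hk n _
  have hres' : (psRes n : MvPowerSeries (Fin n) Λ →ₐ[Λ] k).comp (e : R.carrier →ₐ[Λ] _) = R.res := by
    rw [← hres]
    apply AlgHom.ext
    intro a
    simp
  intro B A μ hμ φ
  let φ' : HomSet (psCRing n hk).carrier (psCRing n hk).res A :=
    ⟨φ.1.comp (e.symm : MvPowerSeries (Fin n) Λ →ₐ[Λ] R.carrier), by
      rw [← AlgHom.comp_assoc, φ.2]
      exact hres⟩
  obtain ⟨ψ', hψ'⟩ := ps_lift hk n μ hμ φ'
  refine ⟨⟨ψ'.1.comp (e : R.carrier →ₐ[Λ] MvPowerSeries (Fin n) Λ), ?_⟩, ?_⟩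
  · rw [← AlgHom.comp_assoc, ψ'.2]
    exact hres'
  · apply Subtype.ext
    apply AlgHom.ext
    intro a
    have h1 := congrArg (fun t : HomSet (psCRing n hk).carrier (psCRing n hk).res A => t.1 (e a)) hψ'
    change μ (ψ'.1 (e a)) = φ.1 a
    refine h1.trans ?_
    change φ.1 (e.symm (e a)) = φ.1 a
    rw [AlgEquiv.symm_apply_apply]

end PS

end Groth.Agent.Helper18
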