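import Groth.Agent.Lib.Helper18.Schl.PSEval
import Groth.Prelude.Def_ArtFun5
import Groth.Agent.Lib.Helper18.ArtFunBasic

/-!
The power series ring `Λ[[x₁, …, x_r]]` as a coefficient ring, its universal property with respect
to Artinian rings, and smoothness of the functor it represents.
-/

set_option autoImplicit false
universe u v
open CategoryTheory

namespace Groth.Agent.Helper18

open ArtFun ArtFun.Art IsLocalRing

variable {Λ k : Type u} [CommRing Λ] [Field k] [Algebra Λ k]

/-- the augmentation of the power series ring -/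
noncomputable def psRes (r : ℕ) : MvPowerSeries (Fin r) Λ →ₐ[Λ] k :=
  { toRingHom := (algebraMap Λ k).comp MvPowerSeries.constantCoeff
    commutes' := fun l => by
      change algebraMap Λ k (MvPowerSeries.constantCoeff (algebraMap Λ (MvPowerSeries (Fin r) Λ) l)) = _
      rw [MvPowerSeries.algebraMap_apply, Algebra.algebraMap_self, RingHom.id_apply,
        MvPowerSeries.constantCoeff_C] }

theorem psRes_apply (r : ℕ) (f : MvPowerSeries (Fin r) Λ) :
    psRes (k := k) r f = algebraMap Λ k (MvPowerSeries.constantCoeff f) := rfl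

theorem psRes_X (r : ℕ) (i : Fin r) : psRes (Λ := Λ) (k := k) r (MvPowerSeries.X i) = 0 := by
  rw [psRes_apply, MvPowerSeries.constantCoeff_X, map_zero]

variable [IsLocalRing Λ] [IsNoetherianRing Λ] [IsAdicComplete (maximalIdeal Λ) Λ]

/-- the power series ring as a coefficient ring -/
noncomputable def psCRing (r : ℕ) (hk : Function.Surjective (algebraMap Λ k)) : CRing Λ k :=
  { carrier := MvPowerSeries (Fin r) Λ
    res := psRes r
    res_surjective := fun c => by
      obtain ⟨l, rfl⟩ := hk c
      refine ⟨MvPowerSeries.C l, ?_⟩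
      rw [psRes_apply, MvPowerSeries.constantCoeff_C]
    isAdicComplete := ps_isAdicComplete }

variable (hk : Function.Surjective (algebraMap Λ k)) (r : ℕ)

theorem exists_pow_maximalIdeal_eq_bot (A : Art Λ k) :
    ∃ N : ℕ, 0 < N ∧ IsLocalRing.maximalIdeal A ^ N = ⊥ := by
  obtain ⟨n, hn⟩ := (isArtinianRing_iff_isNilpotent_maximalIdeal A).mp inferInstance
  refine ⟨n + 1, Nat.succ_pos n, ?_⟩
  rw [pow_succ, hn, Ideal.zero_eq_bot, Ideal.bot_mul]

/-- every augmented algebra map out of the power series ring sends the variables into the maximal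
ideal -/
theorem ps_homSet_X_mem {A : Art Λ k} (φ : HomSet (psCRing r hk).carrier (psCRing r hk).res A)
    (i : Fin r) : φ.1 (MvPowerSeries.X i) ∈ IsLocalRing.maximalIdeal A := by
  rw [Art.mem_maximalIdeal_iff]
  have h1 : A.res (φ.1 (MvPowerSeries.X i)) = (psCRing r hk).res (MvPowerSeries.X i) :=
    congrArg (fun t : (psCRing r hk).carrier →ₐ[Λ] k => t (MvPowerSeries.X i)) φ.2
  rw [h1]
  exact psRes_X r i

/-- uniqueness: maps out of the power series ring are determined by the images of the variables -/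
theorem ps_homSet_ext {A : Art Λ k} (φ ψ : HomSet (psCRing r hk).carrier (psCRing r hk).res A)
    (h : ∀ i, φ.1 (MvPowerSeries.X i) = ψ.1 (MvPowerSeries.X i)) : φ = ψ := by
  obtain ⟨N, -, hN⟩ := exists_pow_maximalIdeal_eq_bot A
  apply Subtype.ext
  exact ps_algHom_ext φ.1 ψ.1 (IsLocalRing.maximalIdeal A) N hN (ps_homSet_X_mem hk r φ) h

/-- existence: the variables may be sent to arbitrary elements of the maximal ideal -/
theorem ps_exists_homSet {A : Art Λ k} (a : Fin r → A) (ha : ∀ i, a i ∈ IsLocalRing.maximalIdeal A) :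
    ∃ φ : HomSet (psCRing r hk).carrier (psCRing r hk).res A, ∀ i, φ.1 (MvPowerSeries.X i) = a i := by
  obtain ⟨N, hN0, hN⟩ := exists_pow_maximalIdeal_eq_bot A
  refine ⟨⟨psEvalHom a (IsLocalRing.maximalIdeal A) N hN ha, ?_⟩, fun i => psEvalHom_X a _ N hN ha i⟩
  apply AlgHom.ext
  intro f
  change A.res (psEvalHom a (IsLocalRing.maximalIdeal A) N hN ha f) = psRes r f
  rw [psEvalHom_apply]
  have h1 : A.res.comp (MvPolynomial.aeval a) = MvPolynomial.aeval (fun i => A.res (a i)) :=
    MvPolynomial.comp_aeval a A.res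
  have h2 : (fun i => A.res (a i)) = (0 : Fin r → k) := by
    funext i
    exact (Art.mem_maximalIdeal_iff A (a i)).1 (ha i)
  have h3 : A.res (MvPolynomial.aeval a (MvPowerSeries.truncTotal N f)) =
      MvPolynomial.aeval (fun i => A.res (a i)) (MvPowerSeries.truncTotal N f) :=
    congrArg (fun t : MvPolynomial (Fin r) Λ →ₐ[Λ] k => t (MvPowerSeries.truncTotal N f)) h1
  rw [h3, h2, MvPolynomial.aeval_zero, MvPowerSeries.constantCoeff_truncTotal_eq_ite, if_pos hN0,
    psRes_apply]

/-- the functor represented by a power series ring is smooth -/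
theorem ps_lift {B A : Art Λ k} (μ : B ⟶ A) (hμ : Function.Surjective μ)
    (φ : HomSet (psCRing r hk).carrier (psCRing r hk).res A) :
    ∃ ψ : HomSet (psCRing r hk).carrier (psCRing r hk).res B, HomSet.map μ ψ = φ := by
  choose b hb using fun i => hμ (φ.1 (MvPowerSeries.X i))
  have hbm : ∀ i, b i ∈ IsLocalRing.maximalIdeal B := by
    intro i
    rw [Art.mem_maximalIdeal_iff, ← Art.res_app μ, hb, ← Art.mem_maximalIdeal_iff]
    exact ps_homSet_X_mem hk r φ i
  obtain ⟨ψ, hψ⟩ := ps_exists_homSet hk r b hbm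
  refine ⟨ψ, ?_⟩
  apply ps_homSet_ext hk r
  intro i
  change μ (ψ.1 (MvPowerSeries.X i)) = _
  rw [hψ, hb]

end Groth.Agent.Helper18
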