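import Mathlib
import Groth.Agent.Lib.Helper18.Schl.PSRing
import Groth.Agent.Lib.Helper18.Schl.QuotArt
import Groth.Agent.Lib.Helper18.CotangentSurj

/-!
Minimal smooth covers of Artinian objects by power series rings.
-/

set_option autoImplicit false
universe u v
open CategoryTheory

namespace Groth.Agent.Helper18

open ArtFun ArtFun.Art IsLocalRing

/-- a minimal generating set of the maximal ideal modulo an ideal -/
theorem exists_min_gens {A : Type*} [CommRing A] [IsLocalRing A] [IsNoetherianRing A]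
    (I₀ : Ideal A) (hI₀ : I₀ ≤ maximalIdeal A) :
    ∃ s : Finset A, (∀ x ∈ s, x ∈ maximalIdeal A) ∧
      Ideal.span (s : Set A) ⊔ I₀ = maximalIdeal A ∧
      ∀ c : A → A, (∑ x ∈ s, c x * x) ∈ I₀ → ∀ x ∈ s, c x ∈ maximalIdeal A := by
  classical
  let P : ℕ → Prop := fun n => ∃ s : Finset A, s.card = n ∧ (∀ x ∈ s, x ∈ maximalIdeal A) ∧
    Ideal.span (s : Set A) ⊔ I₀ = maximalIdeal A
  have hex : ∃ n, P n := by
    obtain ⟨t, ht⟩ := (IsNoetherian.noetherian (maximalIdeal A) : (maximalIdeal A).FG)
    have ht' : Ideal.span (t : Set A) = maximalIdeal A := ht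
    refine ⟨t.card, t, rfl, ?_, ?_⟩
    · intro x hx
      rw [← ht']
      exact Ideal.subset_span hx
    · rw [ht']
      exact sup_eq_left.2 hI₀
  obtain ⟨s, hcard, hsm, hspan⟩ := Nat.find_spec hex
  refine ⟨s, hsm, hspan, ?_⟩
  intro c hc x₀ hx₀
  by_contra hnm
  have hu : IsUnit (c x₀) := by
    by_contra h
    exact hnm ((mem_maximalIdeal _).2 h)
  obtain ⟨u, hu⟩ := hu
  have hlt : (s.erase x₀).card < Nat.find hex := by
    rw [← hcard]
    exact Finset.card_erase_lt_of_mem hx₀
  apply Nat.find_min hex hlt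
  refine ⟨s.erase x₀, rfl, fun x hx => hsm x (Finset.mem_of_mem_erase hx), ?_⟩
  apply le_antisymm
  · exact sup_le (Ideal.span_le.2 fun x hx => hsm x (Finset.mem_of_mem_erase hx)) hI₀
  · rw [← hspan]
    apply sup_le _ le_sup_right
    rw [Ideal.span_le]
    intro x hx
    by_cases hxx : x = x₀
    · subst hxx
      have h1 : c x * x = (∑ y ∈ s, c y * y) - ∑ y ∈ s.erase x, c y * y := by
        rw [← Finset.add_sum_erase s _ hx₀]
        ring
      have h2 : c x * x ∈ Ideal.span ((s.erase x : Finset A) : Set A) ⊔ I₀ := by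
        rw [h1]
        apply Ideal.sub_mem _ (Ideal.mem_sup_right hc) (Ideal.mem_sup_left ?_)
        apply Ideal.sum_mem
        intro y hy
        exact Ideal.mul_mem_left _ _ (Ideal.subset_span hy)
      have h3 : x = ↑u⁻¹ * (c x * x) := by
        rw [← hu, ← mul_assoc, Units.inv_mul, one_mul]
      have h4 : ↑u⁻¹ * (c x * x) ∈ Ideal.span ((s.erase x : Finset A) : Set A) ⊔ I₀ :=
        Ideal.mul_mem_left _ _ h2
      rw [← h3] at h4
      exact h4
    · exact Ideal.mem_sup_left (Ideal.subset_span (Finset.mem_erase.2 ⟨hxx, hx⟩))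

variable {Λ k : Type u} [CommRing Λ] [Field k] [Algebra Λ k]

/-- the ideal `m_A² + m_Λ A` -/
def relI (Λ : Type*) [CommRing Λ] [IsLocalRing Λ] (A : Type*) [CommRing A] [IsLocalRing A]
    [Algebra Λ A] : Ideal A :=
  maximalIdeal A ^ 2 ⊔ (maximalIdeal Λ).map (algebraMap Λ A)

variable [IsLocalRing Λ]

theorem ker_algebraMap_eq (hk : Function.Surjective (algebraMap Λ k)) :
    RingHom.ker (algebraMap Λ k) = maximalIdeal Λ :=
  IsLocalRing.eq_maximalIdeal (RingHom.ker_isMaximal_of_surjective _ hk)

theorem art_algebraMap_mem (hk : Function.Surjective (algebraMap Λ k)) (A : Art Λ k) {l : Λ}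
    (hl : l ∈ maximalIdeal Λ) : algebraMap Λ A l ∈ maximalIdeal A := by
  rw [Art.mem_maximalIdeal_iff, AlgHom.commutes]
  rw [← ker_algebraMap_eq hk, RingHom.mem_ker] at hl
  exact hl

theorem art_algebraMap_mem_iff (hk : Function.Surjective (algebraMap Λ k)) (A : Art Λ k) (l : Λ) :
    algebraMap Λ A l ∈ maximalIdeal A ↔ l ∈ maximalIdeal Λ := by
  rw [Art.mem_maximalIdeal_iff, AlgHom.commutes, ← ker_algebraMap_eq hk, RingHom.mem_ker]

theorem relI_le_art (hk : Function.Surjective (algebraMap Λ k)) (A : Art Λ k) :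
    relI Λ A ≤ maximalIdeal A := by
  refine sup_le (Ideal.pow_le_self two_ne_zero) ?_
  rw [Ideal.map_le_iff_le_comap]
  intro l hl
  exact art_algebraMap_mem hk A hl

/-- a minimal family of generators of the relative cotangent space -/
theorem exists_min_family (hk : Function.Surjective (algebraMap Λ k)) (R : Art Λ k) :
    ∃ (r : ℕ) (x : Fin r → R), (∀ i, x i ∈ maximalIdeal R) ∧
      Ideal.span (Set.range x) ⊔ relI Λ R = maximalIdeal R ∧
      ∀ l : Fin r → Λ, (∑ i, algebraMap Λ R (l i) * x i) ∈ relI Λ R → ∀ i, l i ∈ maximalIdeal Λ := by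
  classical
  obtain ⟨s, hsm, hspan, hmin⟩ := exists_min_gens (relI Λ R) (relI_le_art hk R)
  let e := s.equivFin
  refine ⟨s.card, fun i => (e.symm i : R), fun i => hsm _ (e.symm i).2, ?_, ?_⟩
  · have hr : Set.range (fun i => ((e.symm i : s) : R)) = (s : Set R) := by
      ext y
      constructor
      · rintro ⟨i, rfl⟩
        exact (e.symm i).2
      · intro hy
        exact ⟨e ⟨y, hy⟩, by simp⟩
    rw [hr]
    exact hspan
  · intro l hl i
    let c : R → R := fun y => if h : y ∈ s then algebraMap Λ R (l (e ⟨y, h⟩)) else 0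
    have hsum : (∑ y ∈ s, c y * y) = ∑ i, algebraMap Λ R (l i) * (e.symm i : R) := by
      rw [← Finset.sum_coe_sort s (fun y => c y * y)]
      rw [← Equiv.sum_comp e.symm]
      apply Finset.sum_congr rfl
      intro j _
      have hj : ((e.symm j : s) : R) ∈ s := (e.symm j).2
      simp only [c, dif_pos hj]
      congr 3
      exact e.apply_symm_apply j
    have h1 := hmin c (by rw [hsum]; exact hl) (e.symm i) (e.symm i).2
    have hi : ((e.symm i : s) : R) ∈ s := (e.symm i).2
    simp only [c, dif_pos hi] at h1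
    rw [art_algebraMap_mem_iff hk] at h1
    have h2 : e ⟨(e.symm i : R), hi⟩ = i := e.apply_symm_apply i
    rw [h2] at h1
    exact h1

theorem finsupp_degree_eq_one {σ : Type*} (α : σ →₀ ℕ) (h : α.degree = 1) :
    ∃ j, α = Finsupp.single j 1 := by
  classical
  have hne : α ≠ 0 := by
    rintro rfl
    simp at h
  obtain ⟨j, hj⟩ : ∃ j, α j ≠ 0 := by
    by_contra hh
    push_neg at hh
    exact hne (Finsupp.ext hh)
  refine ⟨j, ?_⟩
  have h1 : Finsupp.single j (α j) + α.erase j = α := Finsupp.single_add_erase j α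
  have h2 : α.degree = α j + (α.erase j).degree := by
    conv_lhs => rw [← h1]
    rw [map_add, Finsupp.degree_single]
  have h3 : (α.erase j).degree = 0 := by omega
  have h4 : α j = 1 := by omega
  rw [Finsupp.degree_eq_zero_iff] at h3
  rw [h3, add_zero, h4] at h1
  exact h1.symm

section General

variable (S : CRing Λ k)

theorem cring_algebraMap_mem (hk : Function.Surjective (algebraMap Λ k)) {l : Λ}
    (hl : l ∈ maximalIdeal Λ) : algebraMap Λ S.carrier l ∈ maximalIdeal S.carrier := by
  rw [CRing.mem_maximalIdeal_iff, AlgHom.commutes]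
  rw [← ker_algebraMap_eq hk, RingHom.mem_ker] at hl
  exact hl

/-- a map from a coefficient ring to an Artinian object which is surjective on relative cotangent
spaces is surjective -/
theorem homSet_surjective_of_cotangent (hk : Function.Surjective (algebraMap Λ k)) {R : Art Λ k}
    (π : HomSet S.carrier S.res R)
    (h : maximalIdeal R ≤ Ideal.map π.1 (maximalIdeal S.carrier) ⊔ relI Λ R) :
    Function.Surjective π.1 := by
  haveI : IsPrecomplete (maximalIdeal S.carrier) S.carrier := S.isAdicComplete.toIsPrecomplete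
  have hmap : Ideal.map π.1 (maximalIdeal S.carrier) ≤ maximalIdeal R := by
    rw [Ideal.map_le_iff_le_comap]
    intro a ha
    exact homSet_maps_maximalIdeal S π a ha
  have hΛ : (maximalIdeal Λ).map (algebraMap Λ R) ≤ Ideal.map π.1 (maximalIdeal S.carrier) := by
    rw [Ideal.map_le_iff_le_comap]
    intro l hl
    rw [Ideal.mem_comap]
    have h1 : algebraMap Λ R l = π.1 (algebraMap Λ S.carrier l) := (π.1.commutes l).symm
    rw [h1]
    exact Ideal.mem_map_of_mem _ (cring_algebraMap_mem S hk hl)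
  have key := surjective_of_map_maximalIdeal_sup_sq (π.1 : S.carrier →+* R) ?_ ?_
  · exact key
  · intro s
    obtain ⟨l, hl⟩ := hk (R.res s)
    refine ⟨algebraMap Λ S.carrier l, ?_⟩
    rw [Art.mem_maximalIdeal_iff, map_sub, sub_eq_zero]
    have h1 : (π.1 : S.carrier →+* R) (algebraMap Λ S.carrier l) = algebraMap Λ R l := π.1.commutes l
    rw [h1, AlgHom.commutes, hl]
  · apply le_antisymm
    · exact sup_le hmap (Ideal.pow_le_self two_ne_zero)
    · refine h.trans ?_
      refine sup_le le_sup_left ?_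
      exact sup_le le_sup_right (hΛ.trans le_sup_left)

theorem map_relI_le {A : Art Λ k} (φ : HomSet S.carrier S.res A) :
    Ideal.map φ.1 (relI Λ S.carrier) ≤ relI Λ A := by
  unfold relI
  rw [Ideal.map_sup]
  apply sup_le_sup
  · rw [Ideal.map_pow]
    apply Ideal.pow_right_mono
    rw [Ideal.map_le_iff_le_comap]
    intro a ha
    exact homSet_maps_maximalIdeal S φ a ha
  · rw [Ideal.map_le_iff_le_comap, Ideal.map_le_iff_le_comap]
    intro l hl
    rw [Ideal.mem_comap, Ideal.mem_comap, AlgHom.commutes]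
    exact Ideal.mem_map_of_mem _ hl

theorem relI_le_map {A : Art Λ k} (φ : HomSet S.carrier S.res A) (hφ : Function.Surjective φ.1) :
    relI Λ A ≤ Ideal.map φ.1 (relI Λ S.carrier) := by
  have hm : maximalIdeal A ≤ Ideal.map φ.1 (maximalIdeal S.carrier) := by
    intro y hy
    obtain ⟨a, rfl⟩ := hφ y
    apply Ideal.mem_map_of_mem
    rw [CRing.mem_maximalIdeal_iff]
    rw [Art.mem_maximalIdeal_iff] at hy
    rw [← hy]
    exact (AlgHom.congr_fun φ.2 a).symm
  unfold relI
  rw [Ideal.map_sup]
  apply sup_le_sup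
  · rw [Ideal.map_pow]
    exact Ideal.pow_right_mono hm 2
  · rw [Ideal.map_le_iff_le_comap]
    intro l hl
    rw [Ideal.mem_comap, ← φ.1.commutes l]
    exact Ideal.mem_map_of_mem _ (Ideal.mem_map_of_mem _ hl)

/-- injectivity on relative cotangent spaces -/
theorem cotangent_injective_of_ker_le {R R' : Art Λ k} (π : HomSet S.carrier S.res R)
    (hπ : Function.Surjective π.1)
    (π' : HomSet S.carrier S.res R') (hπ' : Function.Surjective π'.1) (q : R' ⟶ R)
    (hq : HomSet.map q π' = π)
    (hker : RingHom.ker (π.1 : S.carrier →+* R) ≤ relI Λ S.carrier)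
    (x' : R') (hx' : q x' ∈ relI Λ R) : x' ∈ relI Λ R' := by
  obtain ⟨s, rfl⟩ := hπ' x'
  have h1 : q (π'.1 s) = π.1 s := congrArg (fun φ : HomSet S.carrier S.res R => φ.1 s) hq
  rw [h1] at hx'
  have h2 := relI_le_map S π hπ hx'
  rw [Ideal.mem_map_iff_of_surjective _ hπ] at h2
  obtain ⟨s₀, hs₀, hs₀'⟩ := h2
  have h3 : s - s₀ ∈ RingHom.ker (π.1 : S.carrier →+* R) := by
    rw [RingHom.mem_ker, map_sub, sub_eq_zero]
    exact hs₀'.symm
  have h4 : s ∈ relI Λ S.carrier := by
    have : s = (s - s₀) + s₀ := by ring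
    rw [this]
    exact Ideal.add_mem _ (hker h3) hs₀
  exact map_relI_le S π' (Ideal.mem_map_of_mem _ h4)

end General

end Groth.Agent.Helper18
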