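import Mathlib
import Groth.Agent.Lib.Helper18.Schl.MinCover

/-!
Minimal smooth covers of Artinian objects by power series rings: the kernel lies in `m² + m_Λ S`.
-/

set_option autoImplicit false
universe u v
open CategoryTheory

namespace Groth.Agent.Helper18

open ArtFun ArtFun.Art IsLocalRing MvPowerSeries

section Decomp

variable {Λ : Type u} [CommRing Λ] [IsLocalRing Λ] {r : ℕ}

theorem ps_decomp (s : MvPowerSeries (Fin r) Λ) :
    s - (C (constantCoeff s) + ∑ i, C (coeff (Finsupp.single i 1) s) * X i) ∈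
      maximalIdeal (MvPowerSeries (Fin r) Λ) ^ 2 := by
  classical
  apply mem_maximalIdeal_pow_of_coeff 2
  intro α hα
  have h0 : coeff α (s - (C (constantCoeff s) + ∑ i, C (coeff (Finsupp.single i 1) s) * X i)) = 0 := by
    rw [map_sub, map_add, map_sum]
    have hd : α.degree = 0 ∨ α.degree = 1 := by omega
    rcases hd with hd | hd
    · rw [Finsupp.degree_eq_zero_iff] at hd
      subst hd
      rw [coeff_zero_C, coeff_zero_eq_constantCoeff_apply]
      have : ∀ i : Fin r, coeff (0 : Fin r →₀ ℕ) (C (coeff (Finsupp.single i 1) s) * X i) = 0 := by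
        intro i
        rw [coeff_C_mul, coeff_zero_X, mul_zero]
      rw [Finset.sum_eq_zero (fun i _ => this i)]
      ring
    · obtain ⟨j, rfl⟩ := finsupp_degree_eq_one α hd
      have h1 : coeff (Finsupp.single j 1) (C (constantCoeff s) : MvPowerSeries (Fin r) Λ) = 0 := by
        rw [coeff_C, if_neg]
        intro h
        have := congrArg (fun f => f j) h
        simp at this
      have h2 : ∀ i : Fin r, coeff (Finsupp.single j 1) (C (coeff (Finsupp.single i 1) s) * X i) =
          if j = i then coeff (Finsupp.single i 1) s else 0 := by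
        intro i
        rw [coeff_C_mul, coeff_index_single_X]
        split_ifs <;> simp
      rw [h1, Finset.sum_congr rfl (fun i _ => h2 i), Finset.sum_ite_eq Finset.univ j]
      simp
  rw [h0]
  exact zero_mem _

end Decomp

variable {Λ k : Type u} [CommRing Λ] [Field k] [Algebra Λ k]
variable [IsLocalRing Λ] [IsNoetherianRing Λ] [IsAdicComplete (maximalIdeal Λ) Λ]
variable (hk : Function.Surjective (algebraMap Λ k)) (r : ℕ)

theorem ps_ker_le_relI {R : Art Λ k}
    (π : HomSet (psCRing r hk).carrier (psCRing r hk).res R)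
    (hmin : ∀ l : Fin r → Λ, (∑ i, algebraMap Λ R (l i) * π.1 (X i)) ∈ relI Λ R →
      ∀ i, l i ∈ maximalIdeal Λ) :
    RingHom.ker (π.1 : (psCRing r hk).carrier →+* R) ≤ relI Λ (psCRing r hk).carrier := by
  intro s hs
  rw [RingHom.mem_ker] at hs
  have hs' : π.1 s = 0 := hs
  have hsm : s ∈ maximalIdeal (psCRing r hk).carrier := by
    rw [CRing.mem_maximalIdeal_iff]
    have h1 : R.res (π.1 s) = (psCRing r hk).res s := AlgHom.congr_fun π.2 s
    rw [← h1, hs', map_zero]
  obtain ⟨φ, hφ⟩ : ∃ φ : MvPowerSeries (Fin r) Λ →ₐ[Λ] R, φ = π.1 := ⟨_, rfl⟩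
  obtain ⟨s', hs'eq⟩ : ∃ s' : MvPowerSeries (Fin r) Λ, s' = s := ⟨_, rfl⟩
  have hc₀ : constantCoeff s' ∈ maximalIdeal Λ := by
    rw [← ps_mem_maximalIdeal_iff, hs'eq]
    exact hsm
  have hg := ps_decomp s'
  set c₀ := constantCoeff s' with hc₀def
  set l : Fin r → Λ := fun i => coeff (Finsupp.single i 1) s' with hldef
  set g := s' - (C c₀ + ∑ i, C (l i) * X i) with hgdef
  have hsplit : s' = C c₀ + ∑ i, C (l i) * X i + g := by rw [hgdef]; ring
  have hφC : ∀ c : Λ, φ (C c) = algebraMap Λ R c := by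
    intro c
    rw [c_eq_algebraMap]
    exact φ.commutes c
  have hφs : φ s' = algebraMap Λ R c₀ + ∑ i, algebraMap Λ R (l i) * φ (X i) + φ g := by
    conv_lhs => rw [hsplit]
    rw [map_add, map_add, map_sum, hφC]
    congr 2
    apply Finset.sum_congr rfl
    intro i _
    rw [map_mul, hφC]
  have hφg : φ g ∈ maximalIdeal R ^ 2 := by
    have h1 := homSet_map_pow_le (psCRing r hk) π 2 (Ideal.mem_map_of_mem _ hg)
    rw [hφ]
    exact h1
  have hφs0 : φ s' = 0 := by rw [hφ, hs'eq]; exact hs'
  have hsum : (∑ i, algebraMap Λ R (l i) * φ (X i)) ∈ relI Λ R := by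
    have h1 : (∑ i, algebraMap Λ R (l i) * φ (X i)) = -(algebraMap Λ R c₀) - φ g := by
      rw [hφs] at hφs0
      linear_combination hφs0
    rw [h1]
    apply Ideal.sub_mem
    · exact Submodule.neg_mem _ (Ideal.mem_sup_right (Ideal.mem_map_of_mem _ hc₀))
    · exact Ideal.mem_sup_left hφg
  have hl : ∀ i, l i ∈ maximalIdeal Λ := by
    apply hmin l
    rw [← hφ]
    exact hsum
  have hfinal : s' ∈ relI Λ (MvPowerSeries (Fin r) Λ) := by
    rw [hsplit]
    apply Ideal.add_mem
    · apply Ideal.add_mem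
      · rw [c_eq_algebraMap]
        exact Ideal.mem_sup_right (Ideal.mem_map_of_mem _ hc₀)
      · apply Ideal.sum_mem
        intro i _
        apply Ideal.mul_mem_right
        rw [c_eq_algebraMap]
        exact Ideal.mem_sup_right (Ideal.mem_map_of_mem _ (hl i))
    · exact Ideal.mem_sup_left hg
  rw [hs'eq] at hfinal
  exact hfinal

/-- a minimal smooth cover -/
theorem exists_min_cover (R : Art Λ k) :
    ∃ (r : ℕ) (π : HomSet (psCRing r hk).carrier (psCRing r hk).res R),
      Function.Surjective π.1 ∧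
        RingHom.ker (π.1 : (psCRing r hk).carrier →+* R) ≤ relI Λ (psCRing r hk).carrier := by
  obtain ⟨r, x, hxm, hspan, hmin⟩ := exists_min_family hk R
  obtain ⟨π, hπ⟩ := ps_exists_homSet hk r x hxm
  refine ⟨r, π, ?_, ?_⟩
  · apply homSet_surjective_of_cotangent (psCRing r hk) hk π
    rw [← hspan]
    apply sup_le_sup_right
    rw [Ideal.span_le]
    rintro _ ⟨i, rfl⟩
    rw [← hπ i]
    exact Ideal.mem_map_of_mem _ (ps_X_mem_maximalIdeal i)
  · apply ps_ker_le_relI hk r π
    intro l hl
    apply hmin l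
    have : (∑ i, algebraMap Λ R (l i) * π.1 (X i)) = ∑ i, algebraMap Λ R (l i) * x i := by
      apply Finset.sum_congr rfl
      intro i _
      rw [hπ i]
    rw [← this]
    exact hl

end Groth.Agent.Helper18
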