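import Mathlib
import Groth.Agent.Lib.Helper18.Schl.MinCover2
import Groth.Agent.Lib.Helper18.ArtFunComplete
import Groth.Prelude.Def_W4sfdMinVersal

/-!
Presentations of coefficient rings as quotients of power series rings with kernel in
`m² + m_Λ S`.
-/

set_option autoImplicit false
universe u v
open CategoryTheory

namespace Groth.Agent.Helper18

open ArtFun ArtFun.Art IsLocalRing

variable {Λ k : Type u} [CommRing Λ] [Field k] [Algebra Λ k]

/-- elements of a coefficient ring with the same truncations are equal -/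
theorem cring_eq_of_truncHom_eq (R : CRing Λ k) (x y : R.carrier)
    (h : ∀ n, (R.truncHom n).1 x = (R.truncHom n).1 y) : x = y := by
  haveI := R.isAdicComplete
  haveI : IsHausdorff (maximalIdeal R.carrier) R.carrier := inferInstance
  rw [← sub_eq_zero]
  apply IsHausdorff.haus' (I := maximalIdeal R.carrier)
  intro n
  rw [SModEq.zero, smul_eq_mul, Ideal.mul_top]
  have h1 : (R.truncHom n).1 (x - y) = 0 := by
    rw [map_sub, h n, sub_self]
  have h2 : x - y ∈ R.mpow n := Ideal.Quotient.eq_zero_iff_mem.1 h1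
  exact Ideal.pow_le_pow_right (Nat.le_succ n) h2

variable [IsLocalRing Λ] [IsNoetherianRing Λ] [IsAdicComplete (maximalIdeal Λ) Λ]
variable (hk : Function.Surjective (algebraMap Λ k)) (r : ℕ)

/-- maps from the power series ring to a coefficient ring with prescribed values on the variables -/
theorem ps_exists_algHom_cring (R : CRing Λ k) (a : Fin r → R.carrier)
    (ha : ∀ i, a i ∈ maximalIdeal R.carrier) :
    ∃ π : (psCRing r hk).carrier →ₐ[Λ] R.carrier, R.res.comp π = (psCRing r hk).res ∧
      ∀ i, π (MvPowerSeries.X i) = a i := by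
  have ham : ∀ n i, (R.truncHom n).1 (a i) ∈ maximalIdeal (R.trunc n) := by
    intro n i
    exact homSet_maps_maximalIdeal R (R.truncHom n) (a i) (ha i)
  choose ψ hψ using fun n => ps_exists_homSet hk r (fun i => (R.truncHom n).1 (a i)) (ham n)
  have hcompat : ∀ n, HomSet.map (R.truncMap n) (ψ (n + 1)) = ψ n := by
    intro n
    apply ps_homSet_ext hk r
    intro i
    change R.truncMap n ((ψ (n + 1)).1 (MvPowerSeries.X i)) = (ψ n).1 (MvPowerSeries.X i)
    rw [hψ, hψ]
    rfl
  obtain ⟨φ, hφres, hφn⟩ := exists_algHom_of_compatible R ψ hcompat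
  refine ⟨φ, hφres, ?_⟩
  intro i
  apply cring_eq_of_truncHom_eq R
  intro n
  have h1 : (R.truncHom n).1 (φ (MvPowerSeries.X i)) = (ψ n).1 (MvPowerSeries.X i) :=
    AlgHom.congr_fun (hφn n) (MvPowerSeries.X i)
  rw [h1, hψ]

theorem cring_truncHom_eq_iff (R : CRing Λ k) (n : ℕ) (x y : R.carrier) :
    (R.truncHom n).1 x = (R.truncHom n).1 y ↔ x - y ∈ R.mpow n := by
  rw [← sub_eq_zero, ← map_sub]
  exact Ideal.Quotient.eq_zero_iff_mem

/-- every coefficient ring is a quotient of a power series ring by an ideal contained in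
`m² + m_Λ S` -/
theorem exists_presentation (R : CRing Λ k) :
    ∃ (r : ℕ) (π : (psCRing r hk).carrier →ₐ[Λ] R.carrier),
      R.res.comp π = (psCRing r hk).res ∧ Function.Surjective π ∧
        RingHom.ker (π : (psCRing r hk).carrier →+* R.carrier) ≤ relI Λ (psCRing r hk).carrier := by
  obtain ⟨r, π₁, hπ₁s, hπ₁k⟩ := exists_min_cover hk (R.trunc 1)
  have hts : Function.Surjective (R.truncHom 1).1 := Ideal.Quotient.mk_surjective
  choose a ha using fun i => hts (π₁.1 (MvPowerSeries.X i))
  have ham : ∀ i, a i ∈ maximalIdeal R.carrier := by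
    intro i
    rw [CRing.mem_maximalIdeal_iff]
    have h1 : (R.trunc 1).res ((R.truncHom 1).1 (a i)) = R.res (a i) :=
      AlgHom.congr_fun (R.truncHom 1).2 (a i)
    rw [← h1, ha i, ← Art.mem_maximalIdeal_iff]
    exact ps_homSet_X_mem hk r π₁ i
  obtain ⟨π, hπres, hπX⟩ := ps_exists_algHom_cring hk r R a ham
  have hπ₁ : (⟨(R.truncHom 1).1.comp π, by
      rw [← AlgHom.comp_assoc, (R.truncHom 1).2, hπres]⟩ :
      HomSet (psCRing r hk).carrier (psCRing r hk).res (R.trunc 1)) = π₁ := by
    apply ps_homSet_ext hk r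
    intro i
    change (R.truncHom 1).1 (π (MvPowerSeries.X i)) = π₁.1 (MvPowerSeries.X i)
    rw [hπX, ha]
  have hπ₁' : ∀ s, (R.truncHom 1).1 (π s) = π₁.1 s := fun s =>
    congrArg (fun t : HomSet (psCRing r hk).carrier (psCRing r hk).res (R.trunc 1) => t.1 s) hπ₁
  refine ⟨r, π, hπres, ?_, ?_⟩
  · haveI : IsPrecomplete (maximalIdeal (psCRing r hk).carrier) (psCRing r hk).carrier :=
      (psCRing r hk).isAdicComplete.toIsPrecomplete
    have hmap : Ideal.map π (maximalIdeal (psCRing r hk).carrier) ≤ maximalIdeal R.carrier := by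
      rw [Ideal.map_le_iff_le_comap]
      exact CRing.maximalIdeal_le_comap π hπres
    have key := surjective_of_map_maximalIdeal_sup_sq
      (π : (psCRing r hk).carrier →+* R.carrier) ?_ ?_
    · exact key
    · intro y
      obtain ⟨l, hl⟩ := hk (R.res y)
      refine ⟨algebraMap Λ (psCRing r hk).carrier l, ?_⟩
      rw [CRing.mem_maximalIdeal_iff, map_sub, sub_eq_zero]
      have h1 : (π : (psCRing r hk).carrier →+* R.carrier) (algebraMap Λ (psCRing r hk).carrier l) =
          algebraMap Λ R.carrier l := π.commutes l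
      rw [h1, AlgHom.commutes, hl]
    · apply le_antisymm
      · exact sup_le hmap (Ideal.pow_le_self two_ne_zero)
      · intro y hy
        obtain ⟨s, hs⟩ := hπ₁s ((R.truncHom 1).1 y)
        have hsm : s ∈ maximalIdeal (psCRing r hk).carrier := by
          rw [CRing.mem_maximalIdeal_iff]
          have h1 : (R.trunc 1).res (π₁.1 s) = (psCRing r hk).res s := AlgHom.congr_fun π₁.2 s
          rw [← h1, hs]
          have h2 : (R.trunc 1).res ((R.truncHom 1).1 y) = R.res y :=
            AlgHom.congr_fun (R.truncHom 1).2 y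
          rw [h2, ← CRing.mem_maximalIdeal_iff]
          exact hy
        have h3 : (R.truncHom 1).1 y = (R.truncHom 1).1 (π s) := by rw [hπ₁', hs]
        rw [cring_truncHom_eq_iff] at h3
        have h4 : y = π s + (y - π s) := by ring
        rw [h4]
        exact Ideal.add_mem _ (Ideal.mem_sup_left (Ideal.mem_map_of_mem _ hsm))
          (Ideal.mem_sup_right h3)
  · refine le_trans ?_ hπ₁k
    intro s hs
    rw [RingHom.mem_ker] at hs ⊢
    have h0 : π s = 0 := hs
    change π₁.1 s = 0
    rw [← hπ₁', h0, map_zero]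

end Groth.Agent.Helper18
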