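import Mathlib
import Groth.Prelude.Def_ArtFun5
import Groth.Agent.Lib.Helper18.ArtFunBasic

/-!
Quotients of coefficient rings are coefficient rings; descent of maps along surjections.
-/

set_option autoImplicit false
universe u v
open CategoryTheory

namespace Groth.Agent.Helper18

open ArtFun ArtFun.Art IsLocalRing

/-- precompleteness passes to quotient rings -/
theorem isPrecomplete_quotient {T : Type*} [CommRing T] (I J : Ideal T) [IsPrecomplete I T] :
    IsPrecomplete (I.map (Ideal.Quotient.mk J)) (T ⧸ J) := by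
  refine ⟨fun f hf => ?_⟩
  have hpow : ∀ n, (I.map (Ideal.Quotient.mk J)) ^ n = (I ^ n).map (Ideal.Quotient.mk J) :=
    fun n => (Ideal.map_pow _ _ _).symm
  have hf' : ∀ n, ∃ d ∈ I ^ n, Ideal.Quotient.mk J d = f (n + 1) - f n := by
    intro n
    have h1 := hf (Nat.le_succ n)
    rw [SModEq.sub_mem, smul_eq_mul, Ideal.mul_top, hpow] at h1
    have h2 : f (n + 1) - f n ∈ (I ^ n).map (Ideal.Quotient.mk J) := by
      have := Ideal.neg_mem_iff _ |>.2 h1
      rwa [neg_sub] at this
    exact (Ideal.mem_map_iff_of_surjective _ Ideal.Quotient.mk_surjective).1 h2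
  choose d hd hdf using hf'
  obtain ⟨t0, ht0⟩ := Ideal.Quotient.mk_surjective (f 0)
  let t : ℕ → T := fun n => t0 + ∑ i ∈ Finset.range n, d i
  have htf : ∀ n, Ideal.Quotient.mk J (t n) = f n := by
    intro n
    induction n with
    | zero => simp [t, ht0]
    | succ n ih =>
      have : t (n + 1) = t n + d n := by
        simp only [t, Finset.sum_range_succ]
        ring
      rw [this, map_add, ih, hdf]
      ring
  have hcauchy : ∀ {m n : ℕ}, m ≤ n → t m ≡ t n [SMOD (I ^ m • ⊤ : Submodule T T)] := by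
    intro m n hmn
    rw [SModEq.sub_mem, smul_eq_mul, Ideal.mul_top]
    have h1 : t m - t n = -∑ i ∈ Finset.Ico m n, d i := by
      rw [Finset.sum_Ico_eq_sub _ hmn]
      simp only [t]
      ring
    rw [h1]
    apply Ideal.neg_mem_iff _ |>.2
    apply Ideal.sum_mem
    intro i hi
    rw [Finset.mem_Ico] at hi
    exact Ideal.pow_le_pow_right hi.1 (hd i)
  obtain ⟨L, hL⟩ := IsPrecomplete.prec' t (fun {m n} h => hcauchy h)
  refine ⟨Ideal.Quotient.mk J L, fun n => ?_⟩
  rw [SModEq.sub_mem, smul_eq_mul, Ideal.mul_top, hpow, ← htf n, ← map_sub]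
  apply Ideal.mem_map_of_mem
  have := hL n
  rw [SModEq.sub_mem, smul_eq_mul, Ideal.mul_top] at this
  exact this

theorem map_mk_maximalIdeal {T : Type*} [CommRing T] [IsLocalRing T] (J : Ideal T)
    [Nontrivial (T ⧸ J)] [IsLocalRing (T ⧸ J)] :
    (maximalIdeal T).map (Ideal.Quotient.mk J) = maximalIdeal (T ⧸ J) := by
  apply le_antisymm
  · rw [Ideal.map_le_iff_le_comap]
    intro x hx
    rw [Ideal.mem_comap, mem_maximalIdeal, mem_nonunits_iff]
    intro hu
    rw [mem_maximalIdeal, mem_nonunits_iff] at hx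
    apply hx
    haveI : IsLocalHom (Ideal.Quotient.mk J) :=
      IsLocalHom.of_surjective _ Ideal.Quotient.mk_surjective
    exact isUnit_of_map_unit (Ideal.Quotient.mk J) x hu
  · intro y hy
    obtain ⟨t, rfl⟩ := Ideal.Quotient.mk_surjective y
    apply Ideal.mem_map_of_mem
    rw [mem_maximalIdeal, mem_nonunits_iff] at hy ⊢
    exact fun hu => hy (hu.map _)

variable {Λ k : Type u} [CommRing Λ] [Field k] [Algebra Λ k]

/-- the quotient of a coefficient ring by an ideal contained in the maximal ideal -/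
noncomputable def quotCRing (S : CRing Λ k) (J : Ideal S.carrier)
    (hJ : J ≤ maximalIdeal S.carrier) : CRing Λ k :=
  haveI : Nontrivial (S.carrier ⧸ J) := Ideal.Quotient.nontrivial_iff.2
    (fun h => (IsLocalRing.maximalIdeal.isMaximal S.carrier).ne_top (top_le_iff.1 (h ▸ hJ)))
  haveI hloc : IsLocalRing (S.carrier ⧸ J) :=
    IsLocalRing.of_surjective' (Ideal.Quotient.mk J) Ideal.Quotient.mk_surjective
  { carrier := S.carrier ⧸ J
    isLocalRing := hloc
    res := Ideal.Quotient.liftₐ J S.res (fun a ha => (CRing.mem_maximalIdeal_iff S a).1 (hJ ha))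
    res_surjective := fun c => by
      obtain ⟨a, ha⟩ := S.res_surjective c
      exact ⟨Ideal.Quotient.mk _ a, ha⟩
    isAdicComplete := by
      haveI : IsPrecomplete (maximalIdeal S.carrier) S.carrier := S.isAdicComplete.toIsPrecomplete
      have h1 := isPrecomplete_quotient (maximalIdeal S.carrier) J
      rw [map_mk_maximalIdeal J] at h1
      exact { toIsHausdorff := inferInstance, toIsPrecomplete := h1 } }

/-- the quotient map, as an augmented algebra map -/
noncomputable def quotCRingMk (S : CRing Λ k) (J : Ideal S.carrier)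
    (hJ : J ≤ maximalIdeal S.carrier) : S.carrier →ₐ[Λ] (quotCRing S J hJ).carrier :=
  Ideal.Quotient.mkₐ Λ J

theorem quotCRingMk_res (S : CRing Λ k) (J : Ideal S.carrier)
    (hJ : J ≤ maximalIdeal S.carrier) :
    (quotCRing S J hJ).res.comp (quotCRingMk S J hJ) = S.res :=
  AlgHom.ext fun _ => rfl

theorem quotCRingMk_surjective (S : CRing Λ k) (J : Ideal S.carrier)
    (hJ : J ≤ maximalIdeal S.carrier) : Function.Surjective (quotCRingMk S J hJ) :=
  Ideal.Quotient.mk_surjective

theorem quotCRingMk_eq_zero_iff (S : CRing Λ k) (J : Ideal S.carrier)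
    (hJ : J ≤ maximalIdeal S.carrier) (s : S.carrier) : quotCRingMk S J hJ s = 0 ↔ s ∈ J :=
  Ideal.Quotient.eq_zero_iff_mem

section Descend

variable {R : Type u} [CommRing R] [Algebra Λ R] {resR : R →ₐ[Λ] k}

/-- maps out of a surjective image -/
theorem exists_descend {T A : Art Λ k} (π : HomSet R resR T) (hπ : Function.Surjective π.1)
    (w : HomSet R resR A)
    (h : RingHom.ker (π.1 : R →+* T) ≤ RingHom.ker (w.1 : R →+* A)) :
    ∃ g : T ⟶ A, HomSet.map g π = w := by
  let g₀ : T →ₐ[Λ] A := AlgHom.liftOfSurjective π.1 hπ w.1 h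
  have hg₀ : ∀ x, g₀ (π.1 x) = w.1 x := fun x => AlgHom.liftOfSurjective_apply π.1 hπ w.1 h x
  refine ⟨⟨g₀, ?_⟩, ?_⟩
  · apply AlgHom.ext
    intro t
    obtain ⟨x, rfl⟩ := hπ t
    change A.res (g₀ (π.1 x)) = T.res (π.1 x)
    rw [hg₀]
    have h1 : A.res (w.1 x) = resR x := congrArg (fun t : R →ₐ[Λ] k => t x) w.2
    have h2 : T.res (π.1 x) = resR x := congrArg (fun t : R →ₐ[Λ] k => t x) π.2
    rw [h1, h2]
  · apply Subtype.ext
    apply AlgHom.ext
    intro x
    exact hg₀ x

theorem descend_unique {T A : Art Λ k} (π : HomSet R resR T) (hπ : Function.Surjective π.1)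
    (g₁ g₂ : T ⟶ A) (h : HomSet.map g₁ π = HomSet.map g₂ π) : g₁ = g₂ := by
  apply Art.hom_ext
  apply AlgHom.ext
  intro t
  obtain ⟨x, rfl⟩ := hπ t
  exact congrArg (fun φ : HomSet R resR A => φ.1 x) h

end Descend

end Groth.Agent.Helper18
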