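import Mathlib
import Groth.Agent.Lib.Helper18.Schl.PSEval
import Groth.Agent.Lib.Helper18.Schl.QuotCRing
import Groth.Agent.Lib.Helper18.Schl.Tower

/-!
The completion of a polynomial ring `Λ[x_σ]` at the kernel of a surjection to `k`, realised as
`Λ[x_σ][[Y_1..Y_m]]/(Y_j - g_j)` for generators `g_j` of the kernel.  It is a coefficient ring whose
functor of points on Artinian objects is `A ↦ {t : σ → A // res ∘ t = a}`; in particular it is smooth.
-/

set_option autoImplicit false
universe u v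
open CategoryTheory

namespace Groth.Agent.Helper18

open ArtFun ArtFun.Art IsLocalRing

/-- the data of generators of `k` over `Λ` and of generators of the kernel of `Λ[x] → k` -/
structure SmDatum (Λ k : Type u) [CommRing Λ] [Field k] [Algebra Λ k] (σ : Type) where
  a : σ → k
  ha : Function.Surjective (MvPolynomial.aeval a : MvPolynomial σ Λ →ₐ[Λ] k)
  m : ℕ
  g : Fin m → MvPolynomial σ Λ
  hg : Ideal.span (Set.range g) = RingHom.ker (MvPolynomial.aeval a : MvPolynomial σ Λ →ₐ[Λ] k)

namespace SmDatum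

variable {Λ k : Type u} [CommRing Λ] [Field k] [Algebra Λ k] {σ : Type}

theorem exists_of_surjective [IsNoetherianRing Λ] [Finite σ] (a : σ → k)
    (ha : Function.Surjective (MvPolynomial.aeval a : MvPolynomial σ Λ →ₐ[Λ] k)) :
    ∃ D : SmDatum Λ k σ, D.a = a := by
  have hfg : (RingHom.ker (MvPolynomial.aeval a : MvPolynomial σ Λ →ₐ[Λ] k)).FG :=
    IsNoetherian.noetherian _
  obtain ⟨m, g, hg⟩ := Submodule.fg_iff_exists_fin_generating_family.1 hfg
  exact ⟨⟨a, ha, m, g, hg⟩, rfl⟩

variable (D : SmDatum Λ k σ)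

/-- the evaluation `Λ[x] → k` -/
noncomputable abbrev ev : MvPolynomial σ Λ →ₐ[Λ] k := MvPolynomial.aeval D.a

theorem ev_g (j : Fin D.m) : D.ev (D.g j) = 0 := by
  have h : D.g j ∈ RingHom.ker (D.ev : MvPolynomial σ Λ →ₐ[Λ] k) := by
    rw [← D.hg]
    exact Ideal.subset_span ⟨j, rfl⟩
  exact h

/-- the ideal `(Y_j - g_j)` -/
noncomputable def relIdeal : Ideal (MvPowerSeries (Fin D.m) (MvPolynomial σ Λ)) :=
  Ideal.span (Set.range fun j => MvPowerSeries.X j - MvPowerSeries.C (D.g j))

/-- the carrier ring -/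
abbrev Car : Type u := MvPowerSeries (Fin D.m) (MvPolynomial σ Λ) ⧸ D.relIdeal

/-- the constant coefficient as an algebra map -/
noncomputable def constCoeffAlg : MvPowerSeries (Fin D.m) (MvPolynomial σ Λ) →ₐ[Λ] MvPolynomial σ Λ :=
  { (MvPowerSeries.constantCoeff : MvPowerSeries (Fin D.m) (MvPolynomial σ Λ) →+* MvPolynomial σ Λ) with
    commutes' := fun l => by
      change MvPowerSeries.constantCoeff (algebraMap Λ (MvPowerSeries (Fin D.m) (MvPolynomial σ Λ)) l) = _
      rw [MvPowerSeries.algebraMap_apply, MvPowerSeries.constantCoeff_C] }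

theorem constCoeffAlg_apply (q : MvPowerSeries (Fin D.m) (MvPolynomial σ Λ)) :
    D.constCoeffAlg q = MvPowerSeries.constantCoeff q := rfl

/-- the augmentation of the power series ring -/
noncomputable def resQ : MvPowerSeries (Fin D.m) (MvPolynomial σ Λ) →ₐ[Λ] k :=
  D.ev.comp D.constCoeffAlg

theorem resQ_apply (q : MvPowerSeries (Fin D.m) (MvPolynomial σ Λ)) :
    D.resQ q = D.ev (MvPowerSeries.constantCoeff q) := rfl

theorem resQ_eq_zero_of_mem (q : MvPowerSeries (Fin D.m) (MvPolynomial σ Λ)) (hq : q ∈ D.relIdeal) :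
    D.resQ q = 0 := by
  have h : D.relIdeal ≤ RingHom.ker (D.resQ : MvPowerSeries (Fin D.m) (MvPolynomial σ Λ) →+* k) := by
    unfold relIdeal
    rw [Ideal.span_le]
    rintro _ ⟨j, rfl⟩
    rw [SetLike.mem_coe, RingHom.mem_ker]
    change D.resQ _ = 0
    rw [resQ_apply, map_sub, MvPowerSeries.constantCoeff_X, MvPowerSeries.constantCoeff_C, zero_sub,
      map_neg, ev_g, neg_zero]
  exact h hq

/-- the augmentation -/
noncomputable def res : D.Car →ₐ[Λ] k :=
  Ideal.Quotient.liftₐ D.relIdeal D.resQ D.resQ_eq_zero_of_mem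

theorem res_mk (q : MvPowerSeries (Fin D.m) (MvPolynomial σ Λ)) :
    D.res (Ideal.Quotient.mk D.relIdeal q) = D.ev (MvPowerSeries.constantCoeff q) := rfl

theorem res_surjective : Function.Surjective D.res := by
  intro c
  obtain ⟨p, hp⟩ := D.ha c
  refine ⟨Ideal.Quotient.mk _ (MvPowerSeries.C p), ?_⟩
  rw [res_mk, MvPowerSeries.constantCoeff_C]
  exact hp

/-- the coordinate elements -/
noncomputable def x (i : σ) : D.Car := Ideal.Quotient.mk _ (MvPowerSeries.C (MvPolynomial.X i))

theorem res_x (i : σ) : D.res (D.x i) = D.a i := by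
  unfold x
  rw [res_mk, MvPowerSeries.constantCoeff_C]
  exact MvPolynomial.aeval_X _ _

theorem mk_X (j : Fin D.m) :
    (Ideal.Quotient.mk D.relIdeal (MvPowerSeries.X j) : D.Car) =
      Ideal.Quotient.mk D.relIdeal (MvPowerSeries.C (D.g j)) := by
  rw [Ideal.Quotient.eq]
  exact Ideal.subset_span ⟨j, rfl⟩

/-- elements of the kernel of the augmentation are represented by power series without constant term -/
theorem exists_rep_of_res_eq_zero (s : D.Car) (hs : D.res s = 0) :
    ∃ q : MvPowerSeries (Fin D.m) (MvPolynomial σ Λ), MvPowerSeries.constantCoeff q = 0 ∧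
      Ideal.Quotient.mk D.relIdeal q = s := by
  obtain ⟨q, rfl⟩ := Ideal.Quotient.mk_surjective s
  rw [res_mk] at hs
  have h1 : MvPowerSeries.constantCoeff q ∈ Ideal.span (Set.range D.g) := by
    rw [D.hg]
    exact hs
  obtain ⟨c, hc⟩ := Ideal.mem_span_range_iff_exists_fun.1 h1
  refine ⟨q - MvPowerSeries.C (MvPowerSeries.constantCoeff q) +
    ∑ j, MvPowerSeries.C (c j) * MvPowerSeries.X j, ?_, ?_⟩
  · rw [map_add, map_sub, MvPowerSeries.constantCoeff_C, sub_self, zero_add, map_sum]
    apply Finset.sum_eq_zero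
    intro j _
    rw [map_mul, MvPowerSeries.constantCoeff_X, mul_zero]
  · rw [map_add, map_sub, map_sum]
    have h2 : ∑ j, Ideal.Quotient.mk D.relIdeal (MvPowerSeries.C (c j) * MvPowerSeries.X j) =
        Ideal.Quotient.mk D.relIdeal (MvPowerSeries.C (MvPowerSeries.constantCoeff q)) := by
      rw [← hc, map_sum, map_sum]
      apply Finset.sum_congr rfl
      intro j _
      rw [map_mul, map_mul, mk_X, map_mul]
    rw [h2]
    ring

theorem isUnit_one_add_of_res_eq_zero (s : D.Car) (hs : D.res s = 0) : IsUnit (1 + s) := by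
  obtain ⟨q, hq, rfl⟩ := D.exists_rep_of_res_eq_zero s hs
  have hu : IsUnit (1 + q) := by
    rw [MvPowerSeries.isUnit_iff_constantCoeff, map_add, map_one, hq, add_zero]
    exact isUnit_one
  have := hu.map (Ideal.Quotient.mk D.relIdeal)
  rwa [map_add, map_one] at this

instance nontrivial_car : Nontrivial D.Car :=
  RingHom.domain_nontrivial (D.res : D.Car →+* k)

theorem isUnit_of_res_ne_zero (s : D.Car) (hs : D.res s ≠ 0) : IsUnit s := by
  obtain ⟨b, hb⟩ := D.res_surjective (D.res s)⁻¹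
  have h1 : D.res (s * b - 1) = 0 := by
    rw [map_sub, map_mul, hb, mul_inv_cancel₀ hs, map_one, sub_self]
  have h2 := D.isUnit_one_add_of_res_eq_zero _ h1
  have h3 : 1 + (s * b - 1) = s * b := by ring
  rw [h3] at h2
  exact isUnit_of_mul_isUnit_left h2

instance isLocalRing_car : IsLocalRing D.Car := by
  apply IsLocalRing.of_isUnit_or_isUnit_one_sub_self
  intro s
  by_cases hs : D.res s = 0
  · right
    have h1 : D.res (-s) = 0 := by rw [map_neg, hs, neg_zero]
    have h2 := D.isUnit_one_add_of_res_eq_zero _ h1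
    have h3 : 1 + -s = 1 - s := by ring
    rwa [h3] at h2
  · left
    exact D.isUnit_of_res_ne_zero s hs

theorem mem_maximalIdeal_iff (s : D.Car) : s ∈ maximalIdeal D.Car ↔ D.res s = 0 := by
  rw [mem_maximalIdeal, mem_nonunits_iff]
  constructor
  · intro h
    by_contra hs
    exact h (D.isUnit_of_res_ne_zero s hs)
  · intro hs hu
    have := hu.map D.res
    rw [hs] at this
    exact not_isUnit_zero this

theorem span_X_eq_map :
    (Ideal.span (Set.range MvPowerSeries.X) : Ideal (MvPowerSeries (Fin D.m) (MvPolynomial σ Λ))) =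
      Ideal.map (algebraMap (MvPolynomial (Fin D.m) (MvPolynomial σ Λ))
        (MvPowerSeries (Fin D.m) (MvPolynomial σ Λ)))
        (MvPolynomial.idealOfVars (Fin D.m) (MvPolynomial σ Λ)) := by
  rw [MvPolynomial.idealOfVars, Ideal.map_span, ← Set.range_comp]
  congr 2
  funext j
  rw [Function.comp_apply, MvPowerSeries.algebraMap_apply', Algebra.algebraMap_self,
    MvPowerSeries.map_id, RingHom.id_apply, MvPolynomial.coe_X]

theorem maximalIdeal_eq_map :
    maximalIdeal D.Car = Ideal.map (Ideal.Quotient.mk D.relIdeal)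
      (Ideal.span (Set.range MvPowerSeries.X)) := by
  apply le_antisymm
  · intro s hs
    rw [mem_maximalIdeal_iff] at hs
    obtain ⟨q, hq, rfl⟩ := D.exists_rep_of_res_eq_zero s hs
    apply Ideal.mem_map_of_mem
    rw [span_X_eq_map]
    have := mem_map_idealOfVars_pow (σ := Fin D.m) (Λ := MvPolynomial σ Λ) 1 q (by
      intro β hβ
      have hβ0 : β = 0 := by
        rw [Nat.lt_one_iff, Finsupp.degree_eq_zero_iff] at hβ
        exact hβ
      rw [hβ0]
      exact hq)
    rwa [pow_one] at this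
  · rw [Ideal.map_le_iff_le_comap, Ideal.span_le]
    rintro _ ⟨j, rfl⟩
    rw [SetLike.mem_coe, Ideal.mem_comap, mem_maximalIdeal_iff, res_mk,
      MvPowerSeries.constantCoeff_X, map_zero]

section Lift

variable {A : Type u} [CommRing A] [Algebra Λ A] (I : Ideal A) (Nn : ℕ) (hI : I ^ Nn = ⊥)
  (t : σ → A) (ht : ∀ j, MvPolynomial.aeval t (D.g j) ∈ I)

/-- the map on the power series ring induced by a point -/
noncomputable def liftQ : MvPowerSeries (Fin D.m) (MvPolynomial σ Λ) →ₐ[Λ] A :=
  letI : Algebra (MvPolynomial σ Λ) A :=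
    (MvPolynomial.aeval t : MvPolynomial σ Λ →ₐ[Λ] A).toRingHom.toAlgebra
  haveI : IsScalarTower Λ (MvPolynomial σ Λ) A :=
    IsScalarTower.of_algebraMap_eq (fun l => ((MvPolynomial.aeval t).commutes l).symm)
  (psEvalHom (Λ := MvPolynomial σ Λ) (fun j => MvPolynomial.aeval t (D.g j)) I Nn hI
    ht).restrictScalars Λ

theorem liftQ_X (j : Fin D.m) :
    D.liftQ I Nn hI t ht (MvPowerSeries.X j) = MvPolynomial.aeval t (D.g j) := by
  letI : Algebra (MvPolynomial σ Λ) A :=
    (MvPolynomial.aeval t : MvPolynomial σ Λ →ₐ[Λ] A).toRingHom.toAlgebra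
  exact psEvalHom_X (Λ := MvPolynomial σ Λ) (fun j => MvPolynomial.aeval t (D.g j)) I Nn hI ht j

theorem liftQ_C (p : MvPolynomial σ Λ) :
    D.liftQ I Nn hI t ht (MvPowerSeries.C p) = MvPolynomial.aeval t p := by
  letI : Algebra (MvPolynomial σ Λ) A :=
    (MvPolynomial.aeval t : MvPolynomial σ Λ →ₐ[Λ] A).toRingHom.toAlgebra
  exact (psEvalHom (Λ := MvPolynomial σ Λ) (fun j => MvPolynomial.aeval t (D.g j)) I Nn hI
    ht).commutes p

theorem liftQ_eq_zero_of_mem (q : MvPowerSeries (Fin D.m) (MvPolynomial σ Λ))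
    (hq : q ∈ D.relIdeal) : D.liftQ I Nn hI t ht q = 0 := by
  have h : D.relIdeal ≤ RingHom.ker
      (D.liftQ I Nn hI t ht : MvPowerSeries (Fin D.m) (MvPolynomial σ Λ) →+* A) := by
    unfold relIdeal
    rw [Ideal.span_le]
    rintro _ ⟨j, rfl⟩
    rw [SetLike.mem_coe, RingHom.mem_ker]
    change D.liftQ I Nn hI t ht _ = 0
    rw [map_sub, liftQ_X, liftQ_C, sub_self]
  exact h hq

/-- the map induced by a point -/
noncomputable def lift : D.Car →ₐ[Λ] A :=
  Ideal.Quotient.liftₐ D.relIdeal (D.liftQ I Nn hI t ht) (D.liftQ_eq_zero_of_mem I Nn hI t ht)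

theorem lift_x (i : σ) : D.lift I Nn hI t ht (D.x i) = t i := by
  change D.liftQ I Nn hI t ht (MvPowerSeries.C (MvPolynomial.X i)) = t i
  rw [liftQ_C, MvPolynomial.aeval_X]

theorem lift_mk_X (j : Fin D.m) :
    D.lift I Nn hI t ht (Ideal.Quotient.mk D.relIdeal (MvPowerSeries.X j)) =
      MvPolynomial.aeval t (D.g j) := D.liftQ_X I Nn hI t ht j

end Lift

section Ext

variable {B : Type u} [CommRing B] [Algebra Λ B]

/-- a map out of the carrier is determined by the images of the coordinates -/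
theorem algHom_ext (φ φ' : D.Car →ₐ[Λ] B) (I : Ideal B) (Nn : ℕ) (hI : I ^ Nn = ⊥)
    (hφ : ∀ j, φ (Ideal.Quotient.mk D.relIdeal (MvPowerSeries.X j)) ∈ I)
    (h : ∀ i, φ (D.x i) = φ' (D.x i)) : φ = φ' := by
  let cAlg : MvPolynomial σ Λ →ₐ[Λ] MvPowerSeries (Fin D.m) (MvPolynomial σ Λ) :=
    IsScalarTower.toAlgHom Λ (MvPolynomial σ Λ) (MvPowerSeries (Fin D.m) (MvPolynomial σ Λ))
  have hcAlg : ∀ p, cAlg p = MvPowerSeries.C p := fun _ => rfl
  let evt : MvPolynomial σ Λ →ₐ[Λ] B := (φ.comp (Ideal.Quotient.mkₐ Λ D.relIdeal)).comp cAlg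
  let evt' : MvPolynomial σ Λ →ₐ[Λ] B := (φ'.comp (Ideal.Quotient.mkₐ Λ D.relIdeal)).comp cAlg
  have hevt : evt = evt' := by
    apply MvPolynomial.algHom_ext
    intro i
    exact h i
  have hevt_apply : ∀ p, φ (Ideal.Quotient.mk D.relIdeal (MvPowerSeries.C p)) = evt p :=
    fun _ => rfl
  have hevt'_apply : ∀ p, φ' (Ideal.Quotient.mk D.relIdeal (MvPowerSeries.C p)) = evt p := by
    intro p
    rw [hevt]
    rfl
  letI : Algebra (MvPolynomial σ Λ) B := evt.toRingHom.toAlgebra
  let φQ : MvPowerSeries (Fin D.m) (MvPolynomial σ Λ) →ₐ[MvPolynomial σ Λ] B :=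
    { ((φ : D.Car →+* B).comp (Ideal.Quotient.mk D.relIdeal)) with
      commutes' := fun p => hevt_apply p }
  let φQ' : MvPowerSeries (Fin D.m) (MvPolynomial σ Λ) →ₐ[MvPolynomial σ Λ] B :=
    { ((φ' : D.Car →+* B).comp (Ideal.Quotient.mk D.relIdeal)) with
      commutes' := fun p => hevt'_apply p }
  have key : φQ = φQ' := by
    apply ps_algHom_ext φQ φQ' I Nn hI
    · intro j
      exact hφ j
    · intro j
      change φ (Ideal.Quotient.mk D.relIdeal (MvPowerSeries.X j)) =
        φ' (Ideal.Quotient.mk D.relIdeal (MvPowerSeries.X j))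
      rw [mk_X, hevt_apply, hevt'_apply]
  apply AlgHom.ext
  intro s
  obtain ⟨q, rfl⟩ := Ideal.Quotient.mk_surjective s
  exact AlgHom.congr_fun key q

end Ext

variable [IsNoetherianRing Λ] [Finite σ]

instance isNoetherianRing_car : IsNoetherianRing D.Car :=
  inferInstanceAs (IsNoetherianRing (MvPowerSeries (Fin D.m) (MvPolynomial σ Λ) ⧸ D.relIdeal))

theorem isAdicComplete_car : IsAdicComplete (maximalIdeal D.Car) D.Car := by
  have h1 := isPrecomplete_quotient
    (Ideal.span (Set.range MvPowerSeries.X) : Ideal (MvPowerSeries (Fin D.m) (MvPolynomial σ Λ)))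
    D.relIdeal
  rw [← maximalIdeal_eq_map] at h1
  exact { toIsHausdorff := inferInstance, toIsPrecomplete := h1 }

/-- the coefficient ring -/
noncomputable def cring : CRing Λ k :=
  { carrier := D.Car
    res := D.res
    res_surjective := D.res_surjective
    isAdicComplete := D.isAdicComplete_car }

theorem cring_res_x (i : σ) : D.cring.res (D.x i) = D.a i := D.res_x i

/-- points of the smooth ring with values in an Artinian object: existence -/
theorem exists_homSet (A : Art Λ k) (t : σ → A) (ht : ∀ i, A.res (t i) = D.a i) :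
    ∃ φ : HomSet D.cring.carrier D.cring.res A, ∀ i, φ.1 (D.x i) = t i := by
  obtain ⟨n, hn⟩ := (isArtinianRing_iff_isNilpotent_maximalIdeal A).1 inferInstance
  have hn' : maximalIdeal A ^ n = ⊥ := hn
  have hres : A.res.comp (MvPolynomial.aeval t : MvPolynomial σ Λ →ₐ[Λ] A) = D.ev := by
    apply MvPolynomial.algHom_ext
    intro i
    change A.res (MvPolynomial.aeval t (MvPolynomial.X i)) = MvPolynomial.aeval D.a (MvPolynomial.X i)
    rw [MvPolynomial.aeval_X, MvPolynomial.aeval_X, ht]
  have htg : ∀ j, MvPolynomial.aeval t (D.g j) ∈ maximalIdeal A := by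
    intro j
    rw [Art.mem_maximalIdeal_iff]
    have := AlgHom.congr_fun hres (D.g j)
    change A.res (MvPolynomial.aeval t (D.g j)) = _ at this
    rw [this, ev_g]
  refine ⟨⟨D.lift (maximalIdeal A) n hn' t htg, ?_⟩, fun i => D.lift_x _ _ _ _ _ i⟩
  apply D.algHom_ext _ _ (⊥ : Ideal k) 1 (pow_one _)
  · intro j
    change A.res (D.lift (maximalIdeal A) n hn' t htg _) ∈ (⊥ : Ideal k)
    rw [lift_mk_X, Ideal.mem_bot, ← Art.mem_maximalIdeal_iff]
    exact htg j
  · intro i
    change A.res (D.lift (maximalIdeal A) n hn' t htg (D.x i)) = D.res (D.x i)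
    rw [lift_x, ht, res_x]

/-- points of the smooth ring with values in an Artinian object: uniqueness -/
theorem homSet_ext {A : Art Λ k} (φ φ' : HomSet D.cring.carrier D.cring.res A)
    (h : ∀ i, φ.1 (D.x i) = φ'.1 (D.x i)) : φ = φ' := by
  obtain ⟨n, hn⟩ := (isArtinianRing_iff_isNilpotent_maximalIdeal A).1 inferInstance
  have hn' : maximalIdeal A ^ n = ⊥ := hn
  apply Subtype.ext
  apply D.algHom_ext φ.1 φ'.1 (maximalIdeal A) n hn' _ h
  intro j
  rw [Art.mem_maximalIdeal_iff]
  have := AlgHom.congr_fun φ.2 (Ideal.Quotient.mk D.relIdeal (MvPowerSeries.X j))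
  refine this.trans ?_
  change D.res _ = 0
  rw [res_mk, MvPowerSeries.constantCoeff_X, map_zero]

theorem homSet_res_x {A : Art Λ k} (φ : HomSet D.cring.carrier D.cring.res A) (i : σ) :
    A.res (φ.1 (D.x i)) = D.a i := by
  have := AlgHom.congr_fun φ.2 (D.x i)
  refine this.trans ?_
  exact D.res_x i

/-- the functor of points of the smooth ring is smooth -/
theorem homSmooth : HomSmooth D.cring := by
  intro B A μ hμ φ
  choose t ht using fun i => hμ (φ.1 (D.x i))
  obtain ⟨ψ, hψ⟩ := D.exists_homSet B t (by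
    intro i
    rw [← Art.res_app μ, ht, homSet_res_x])
  refine ⟨ψ, ?_⟩
  apply D.homSet_ext
  intro i
  change μ (ψ.1 (D.x i)) = _
  rw [hψ, ht]

end SmDatum

end Groth.Agent.Helper18

namespace Groth.Agent.Helper18

namespace SmDatum

variable {Λ k : Type u} [CommRing Λ] [Field k] [Algebra Λ k]

/-- a finite field extension of a quotient of a Noetherian ring is generated by finitely many
elements -/
theorem exists_generators [IsNoetherianRing Λ] [Module.Finite Λ k] :
    ∃ (n : ℕ), Nonempty (SmDatum Λ k (Fin n)) := by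
  obtain ⟨n, f, hf⟩ := Algebra.FiniteType.iff_quotient_mvPolynomial''.1
    (inferInstance : Algebra.FiniteType Λ k)
  have hfa : f = MvPolynomial.aeval (fun i => f (MvPolynomial.X i)) := by
    apply MvPolynomial.algHom_ext
    intro i
    rw [MvPolynomial.aeval_X]
  rw [hfa] at hf
  obtain ⟨D, -⟩ := exists_of_surjective _ hf
  exact ⟨n, ⟨D⟩⟩

end SmDatum

end Groth.Agent.Helper18
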