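import Mathlib
import Groth.Agent.Lib.Helper18.Schl.SmoothRing2

/-!
Coproducts in the category of coefficient rings.
-/

set_option autoImplicit false
universe u v
open CategoryTheory

namespace Groth.Agent.Helper18

open ArtFun ArtFun.Art IsLocalRing

variable {Λ k : Type u} [CommRing Λ] [Field k] [Algebra Λ k]

theorem aeval_sum_elim_surjective' {σ₁ σ₂ : Type} (a₁ : σ₁ → k) (a₂ : σ₂ → k)
    (ha : Function.Surjective (MvPolynomial.aeval a₁ : MvPolynomial σ₁ Λ →ₐ[Λ] k)) :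
    Function.Surjective (MvPolynomial.aeval (Sum.elim a₁ a₂) :
      MvPolynomial (σ₁ ⊕ σ₂) Λ →ₐ[Λ] k) := by
  intro c
  obtain ⟨p, hp⟩ := ha c
  refine ⟨MvPolynomial.rename Sum.inl p, ?_⟩
  rw [MvPolynomial.aeval_rename]
  exact hp

/-- maps out of a quotient coefficient ring -/
theorem quotCRing_lift (S : CRing Λ k) (K : Ideal S.carrier) (hK : K ≤ maximalIdeal S.carrier)
    (T : CRing Λ k) (H : S.carrier →ₐ[Λ] T.carrier) (hH : T.res.comp H = S.res)
    (hkill : ∀ a ∈ K, H a = 0) :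
    ∃ h : (quotCRing S K hK).carrier →ₐ[Λ] T.carrier,
      T.res.comp h = (quotCRing S K hK).res ∧ h.comp (quotCRingMk S K hK) = H := by
  refine ⟨Ideal.Quotient.liftₐ K H hkill, ?_, ?_⟩
  · apply AlgHom.ext
    intro z
    obtain ⟨a, rfl⟩ := Ideal.Quotient.mk_surjective z
    exact AlgHom.congr_fun hH a
  · exact AlgHom.ext fun _ => rfl

theorem ker_le_maximalIdeal_of_res {S T : CRing Λ k} (π : S.carrier →ₐ[Λ] T.carrier)
    (hπ : T.res.comp π = S.res) :
    RingHom.ker (π : S.carrier →+* T.carrier) ≤ maximalIdeal S.carrier := by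
  intro x hx
  rw [RingHom.mem_ker] at hx
  rw [CRing.mem_maximalIdeal_iff, ← hπ]
  change T.res (π x) = 0
  have h1 : π x = 0 := hx
  rw [h1, map_zero]

variable [IsNoetherianRing Λ] [Module.Finite Λ k]

/-- coproducts of coefficient rings -/
theorem exists_coprod (R S : CRing Λ k) :
    ∃ (P : CRing Λ k) (i₁ : R.carrier →ₐ[Λ] P.carrier) (i₂ : S.carrier →ₐ[Λ] P.carrier),
      P.res.comp i₁ = R.res ∧ P.res.comp i₂ = S.res ∧
      ∀ (T : CRing Λ k) (g₁ : R.carrier →ₐ[Λ] T.carrier) (g₂ : S.carrier →ₐ[Λ] T.carrier),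
        T.res.comp g₁ = R.res → T.res.comp g₂ = S.res →
          ∃! h : P.carrier →ₐ[Λ] T.carrier, T.res.comp h = P.res ∧ h.comp i₁ = g₁ ∧ h.comp i₂ = g₂ := by
  obtain ⟨n₁, r₁, D₁, π₁, hπ₁res, hπ₁s⟩ := SmDatum.exists_cover R
  obtain ⟨n₂, r₂, D₂, π₂, hπ₂res, hπ₂s⟩ := SmDatum.exists_cover S
  obtain ⟨D, hD⟩ := SmDatum.exists_of_surjective (Λ := Λ) _
    (aeval_sum_elim_surjective' D₁.a D₂.a D₁.ha)
  -- the two inclusions of the smooth rings
  obtain ⟨j₁, hj₁res, hj₁x⟩ := D₁.exists_algHom_cring D.cring (fun i => D.x (Sum.inl i)) (by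
    intro i
    have h1 : D.cring.res (D.x (Sum.inl i)) = D.a (Sum.inl i) := D.res_x _
    rw [h1, hD]
    rfl)
  obtain ⟨j₂, hj₂res, hj₂x⟩ := D₂.exists_algHom_cring D.cring (fun i => D.x (Sum.inr i)) (by
    intro i
    have h1 : D.cring.res (D.x (Sum.inr i)) = D.a (Sum.inr i) := D.res_x _
    rw [h1, hD]
    rfl)
  set K : Ideal D.cring.carrier :=
    Ideal.map j₁ (RingHom.ker (π₁ : D₁.cring.carrier →+* R.carrier)) ⊔
      Ideal.map j₂ (RingHom.ker (π₂ : D₂.cring.carrier →+* S.carrier)) with hKdef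
  have hK : K ≤ maximalIdeal D.cring.carrier := by
    refine sup_le ?_ ?_
    · rw [Ideal.map_le_iff_le_comap]
      exact (ker_le_maximalIdeal_of_res π₁ hπ₁res).trans (CRing.maximalIdeal_le_comap j₁ hj₁res)
    · rw [Ideal.map_le_iff_le_comap]
      exact (ker_le_maximalIdeal_of_res π₂ hπ₂res).trans (CRing.maximalIdeal_le_comap j₂ hj₂res)
  let P : CRing Λ k := quotCRing D.cring K hK
  let q : D.cring.carrier →ₐ[Λ] P.carrier := quotCRingMk D.cring K hK
  have hq0 : ∀ a ∈ K, q a = 0 := fun a ha => (quotCRingMk_eq_zero_iff D.cring K hK a).2 ha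
  have hqres : P.res.comp q = D.cring.res := quotCRingMk_res D.cring K hK
  have hqs : Function.Surjective q := quotCRingMk_surjective D.cring K hK
  let i₁ : R.carrier →ₐ[Λ] P.carrier := AlgHom.liftOfSurjective π₁ hπ₁s (q.comp j₁) (by
    intro x hx
    rw [RingHom.mem_ker]
    change q (j₁ x) = 0
    exact hq0 _ (Ideal.mem_sup_left (Ideal.mem_map_of_mem _ hx)))
  let i₂ : S.carrier →ₐ[Λ] P.carrier := AlgHom.liftOfSurjective π₂ hπ₂s (q.comp j₂) (by
    intro x hx
    rw [RingHom.mem_ker]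
    change q (j₂ x) = 0
    exact hq0 _ (Ideal.mem_sup_right (Ideal.mem_map_of_mem _ hx)))
  have hi₁ : ∀ x, i₁ (π₁ x) = q (j₁ x) := fun x => AlgHom.liftOfSurjective_apply π₁ hπ₁s _ _ x
  have hi₂ : ∀ x, i₂ (π₂ x) = q (j₂ x) := fun x => AlgHom.liftOfSurjective_apply π₂ hπ₂s _ _ x
  refine ⟨P, i₁, i₂, ?_, ?_, ?_⟩
  · apply AlgHom.ext
    intro z
    obtain ⟨x, rfl⟩ := hπ₁s z
    change P.res (i₁ (π₁ x)) = R.res (π₁ x)
    rw [hi₁]
    have h1 : P.res (q (j₁ x)) = D.cring.res (j₁ x) := AlgHom.congr_fun hqres _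
    have h2 : D.cring.res (j₁ x) = D₁.cring.res x := AlgHom.congr_fun hj₁res x
    have h3 : R.res (π₁ x) = D₁.cring.res x := AlgHom.congr_fun hπ₁res x
    rw [h1, h2, h3]
  · apply AlgHom.ext
    intro z
    obtain ⟨x, rfl⟩ := hπ₂s z
    change P.res (i₂ (π₂ x)) = S.res (π₂ x)
    rw [hi₂]
    have h1 : P.res (q (j₂ x)) = D.cring.res (j₂ x) := AlgHom.congr_fun hqres _
    have h2 : D.cring.res (j₂ x) = D₂.cring.res x := AlgHom.congr_fun hj₂res x
    have h3 : S.res (π₂ x) = D₂.cring.res x := AlgHom.congr_fun hπ₂res x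
    rw [h1, h2, h3]
  · intro T g₁ g₂ hg₁ hg₂
    -- the map on the smooth ring
    obtain ⟨H, hHres, hHx⟩ := D.exists_algHom_cring T
      (Sum.elim (fun i => g₁ (π₁ (D₁.x i))) (fun i => g₂ (π₂ (D₂.x i)))) (by
        intro i
        rw [hD]
        cases i with
        | inl i =>
          change T.res (g₁ (π₁ (D₁.x i))) = D₁.a i
          have h1 : T.res (g₁ (π₁ (D₁.x i))) = R.res (π₁ (D₁.x i)) := AlgHom.congr_fun hg₁ _
          have h2 : R.res (π₁ (D₁.x i)) = D₁.cring.res (D₁.x i) := AlgHom.congr_fun hπ₁res _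
          rw [h1, h2]
          exact D₁.res_x i
        | inr i =>
          change T.res (g₂ (π₂ (D₂.x i))) = D₂.a i
          have h1 : T.res (g₂ (π₂ (D₂.x i))) = S.res (π₂ (D₂.x i)) := AlgHom.congr_fun hg₂ _
          have h2 : S.res (π₂ (D₂.x i)) = D₂.cring.res (D₂.x i) := AlgHom.congr_fun hπ₂res _
          rw [h1, h2]
          exact D₂.res_x i)
    have hHj₁ : H.comp j₁ = g₁.comp π₁ := by
      apply D₁.algHom_cring_ext T
      · rw [← AlgHom.comp_assoc, hHres, hj₁res]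
      · rw [← AlgHom.comp_assoc, hg₁, hπ₁res]
      · intro i
        change H (j₁ (D₁.x i)) = g₁ (π₁ (D₁.x i))
        rw [hj₁x, hHx]
        rfl
    have hHj₂ : H.comp j₂ = g₂.comp π₂ := by
      apply D₂.algHom_cring_ext T
      · rw [← AlgHom.comp_assoc, hHres, hj₂res]
      · rw [← AlgHom.comp_assoc, hg₂, hπ₂res]
      · intro i
        change H (j₂ (D₂.x i)) = g₂ (π₂ (D₂.x i))
        rw [hj₂x, hHx]
        rfl
    have hHkill : ∀ a ∈ K, H a = 0 := by
      have hle : K ≤ RingHom.ker (H : D.cring.carrier →+* T.carrier) := by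
        refine sup_le ?_ ?_
        · rw [Ideal.map_le_iff_le_comap]
          intro x hx
          rw [Ideal.mem_comap, RingHom.mem_ker]
          change H (j₁ x) = 0
          have h1 : H (j₁ x) = g₁ (π₁ x) := AlgHom.congr_fun hHj₁ x
          have h2 : π₁ x = 0 := hx
          rw [h1, h2, map_zero]
        · rw [Ideal.map_le_iff_le_comap]
          intro x hx
          rw [Ideal.mem_comap, RingHom.mem_ker]
          change H (j₂ x) = 0
          have h1 : H (j₂ x) = g₂ (π₂ x) := AlgHom.congr_fun hHj₂ x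
          have h2 : π₂ x = 0 := hx
          rw [h1, h2, map_zero]
      exact fun a ha => hle ha
    obtain ⟨h, hhres, hhq⟩ := quotCRing_lift D.cring K hK T H hHres hHkill
    have hhq' : ∀ a, h (q a) = H a := fun a => AlgHom.congr_fun hhq a
    refine ⟨h, ⟨hhres, ?_, ?_⟩, ?_⟩
    · apply AlgHom.ext
      intro z
      obtain ⟨x, rfl⟩ := hπ₁s z
      change h (i₁ (π₁ x)) = g₁ (π₁ x)
      rw [hi₁, hhq']
      exact AlgHom.congr_fun hHj₁ x
    · apply AlgHom.ext
      intro z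
      obtain ⟨x, rfl⟩ := hπ₂s z
      change h (i₂ (π₂ x)) = g₂ (π₂ x)
      rw [hi₂, hhq']
      exact AlgHom.congr_fun hHj₂ x
    · rintro h' ⟨hh'res, hh'1, hh'2⟩
      have hcomp : h'.comp q = H := by
        apply D.algHom_cring_ext T
        · rw [← AlgHom.comp_assoc, hh'res, hqres]
        · exact hHres
        · intro i
          rw [hHx]
          cases i with
          | inl i =>
            change h' (q (D.x (Sum.inl i))) = g₁ (π₁ (D₁.x i))
            rw [← hj₁x, ← hi₁]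
            exact AlgHom.congr_fun hh'1 _
          | inr i =>
            change h' (q (D.x (Sum.inr i))) = g₂ (π₂ (D₂.x i))
            rw [← hj₂x, ← hi₂]
            exact AlgHom.congr_fun hh'2 _
      apply AlgHom.ext
      intro z
      obtain ⟨a, rfl⟩ := hqs z
      rw [hhq']
      exact AlgHom.congr_fun hcomp a

/-- pushouts of coefficient rings -/
theorem exists_pushout (R S₁ S₂ : CRing Λ k)
    (f₁ : R.carrier →ₐ[Λ] S₁.carrier) (hf₁ : S₁.res.comp f₁ = R.res)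
    (f₂ : R.carrier →ₐ[Λ] S₂.carrier) (hf₂ : S₂.res.comp f₂ = R.res) :
    ∃ (P : CRing Λ k) (i₁ : S₁.carrier →ₐ[Λ] P.carrier) (i₂ : S₂.carrier →ₐ[Λ] P.carrier),
      P.res.comp i₁ = S₁.res ∧ P.res.comp i₂ = S₂.res ∧ i₁.comp f₁ = i₂.comp f₂ ∧
      ∀ (T : CRing Λ k) (g₁ : S₁.carrier →ₐ[Λ] T.carrier) (g₂ : S₂.carrier →ₐ[Λ] T.carrier),
        T.res.comp g₁ = S₁.res → T.res.comp g₂ = S₂.res → g₁.comp f₁ = g₂.comp f₂ →
          ∃! h : P.carrier →ₐ[Λ] T.carrier, T.res.comp h = P.res ∧ h.comp i₁ = g₁ ∧ h.comp i₂ = g₂ := by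
  obtain ⟨C, c₁, c₂, hc₁, hc₂, hC⟩ := exists_coprod S₁ S₂
  set K : Ideal C.carrier := Ideal.span (Set.range fun r : R.carrier => c₁ (f₁ r) - c₂ (f₂ r))
    with hKdef
  have hK : K ≤ maximalIdeal C.carrier := by
    rw [hKdef, Ideal.span_le]
    rintro _ ⟨r, rfl⟩
    rw [SetLike.mem_coe, CRing.mem_maximalIdeal_iff, map_sub, sub_eq_zero]
    have h1 : C.res (c₁ (f₁ r)) = S₁.res (f₁ r) := AlgHom.congr_fun hc₁ _
    have h2 : C.res (c₂ (f₂ r)) = S₂.res (f₂ r) := AlgHom.congr_fun hc₂ _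
    have h3 : S₁.res (f₁ r) = R.res r := AlgHom.congr_fun hf₁ r
    have h4 : S₂.res (f₂ r) = R.res r := AlgHom.congr_fun hf₂ r
    rw [h1, h2, h3, h4]
  let P : CRing Λ k := quotCRing C K hK
  let q : C.carrier →ₐ[Λ] P.carrier := quotCRingMk C K hK
  have hqres : P.res.comp q = C.res := quotCRingMk_res C K hK
  have hqs : Function.Surjective q := quotCRingMk_surjective C K hK
  refine ⟨P, q.comp c₁, q.comp c₂, ?_, ?_, ?_, ?_⟩
  · rw [← AlgHom.comp_assoc, hqres, hc₁]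
  · rw [← AlgHom.comp_assoc, hqres, hc₂]
  · apply AlgHom.ext
    intro r
    change q (c₁ (f₁ r)) = q (c₂ (f₂ r))
    rw [← sub_eq_zero, ← map_sub]
    exact (quotCRingMk_eq_zero_iff C K hK _).2 (Ideal.subset_span ⟨r, rfl⟩)
  · intro T g₁ g₂ hg₁ hg₂ hgg
    obtain ⟨H, ⟨hHres, hH1, hH2⟩, hHuniq⟩ := hC T g₁ g₂ hg₁ hg₂
    have hHkill : ∀ a ∈ K, H a = 0 := by
      have hle : K ≤ RingHom.ker (H : C.carrier →+* T.carrier) := by
        rw [hKdef, Ideal.span_le]
        rintro _ ⟨r, rfl⟩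
        rw [SetLike.mem_coe, RingHom.mem_ker]
        change H (c₁ (f₁ r) - c₂ (f₂ r)) = 0
        rw [map_sub, sub_eq_zero]
        have h1 : H (c₁ (f₁ r)) = g₁ (f₁ r) := AlgHom.congr_fun hH1 _
        have h2 : H (c₂ (f₂ r)) = g₂ (f₂ r) := AlgHom.congr_fun hH2 _
        rw [h1, h2]
        exact AlgHom.congr_fun hgg r
      exact fun a ha => hle ha
    obtain ⟨h, hhres, hhq⟩ := quotCRing_lift C K hK T H hHres hHkill
    refine ⟨h, ⟨hhres, ?_, ?_⟩, ?_⟩
    · rw [← AlgHom.comp_assoc, hhq, hH1]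
    · rw [← AlgHom.comp_assoc, hhq, hH2]
    · rintro h' ⟨hh'res, hh'1, hh'2⟩
      have h1 : h'.comp q = H := by
        apply hHuniq
        refine ⟨?_, ?_, ?_⟩
        · rw [← AlgHom.comp_assoc, hh'res, hqres]
        · rw [AlgHom.comp_assoc]
          exact hh'1
        · rw [AlgHom.comp_assoc]
          exact hh'2
      apply AlgHom.ext
      intro z
      obtain ⟨a, rfl⟩ := hqs z
      have h2 : h (q a) = H a := AlgHom.congr_fun hhq a
      have h3 : h' (q a) = H a := AlgHom.congr_fun h1 a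
      rw [h2, h3]

end Groth.Agent.Helper18
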