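import Mathlib
import Groth.Agent.Lib.Helper18.ArtFunTorsor
import Groth.Agent.Lib.Helper18.Schl.QuotCRing

/-!
Cutting down a versal family: if two tangent vectors of the coefficient ring have the same image in
`F(k[ε])` and differ on an element `r` of the maximal ideal, the family restricted to `R/(r)` is still
versal.
-/

set_option autoImplicit false
universe u v
open CategoryTheory

namespace Groth.Agent.Helper18

open ArtFun ArtFun.Art IsLocalRing

variable {Λ k : Type u} [CommRing Λ] [Field k] [Algebra Λ k]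
variable {F : Art Λ k ⥤ Type v}

section ShiftHom

variable {R : Type u} [CommRing R] [Algebra Λ R] {resR : R →ₐ[Λ] k}
variable {B : Art Λ k} {t : B} (ht : ∀ x ∈ maximalIdeal B, x * t = 0) (htm : t ∈ maximalIdeal B)

theorem exists_pairHom (ψ : HomSet R resR B) (v : HomSet R resR (dual Λ k)) :
    ∃ p : HomSet R resR (Deps B), HomSet.map (Deps.q₁ B) p = ψ ∧ HomSet.map (Deps.q₂ B) p = v :=
  exists_homSet_lift_of_isFibreProd (Deps.isFibreProd B) ψ v (homSet_base_eq _ _)

/-- the pair `(ψ, v)` as a point of `B ×_k k[ε]` -/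
noncomputable def pairHom (ψ : HomSet R resR B) (v : HomSet R resR (dual Λ k)) :
    HomSet R resR (Deps B) := (exists_pairHom ψ v).choose

theorem pairHom_q₁ (ψ : HomSet R resR B) (v : HomSet R resR (dual Λ k)) :
    HomSet.map (Deps.q₁ B) (pairHom ψ v) = ψ := (exists_pairHom ψ v).choose_spec.1

theorem pairHom_q₂ (ψ : HomSet R resR B) (v : HomSet R resR (dual Λ k)) :
    HomSet.map (Deps.q₂ B) (pairHom ψ v) = v := (exists_pairHom ψ v).choose_spec.2

/-- the translate `ψ + D_v t` of a point by a tangent vector -/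
noncomputable def shiftHom (ψ : HomSet R resR B) (v : HomSet R resR (dual Λ k)) : HomSet R resR B :=
  HomSet.map (shift (Deps.q₁ B) (Deps.q₂ B) ht htm) (pairHom ψ v)

theorem shiftHom_apply (ψ : HomSet R resR B) (v : HomSet R resR (dual Λ k)) (s : R) :
    (shiftHom ht htm ψ v).1 s = ψ.1 s + socleSMul t (dsnd (v.1 s)) := by
  change shift (Deps.q₁ B) (Deps.q₂ B) ht htm ((pairHom ψ v).1 s) = _
  rw [shift_apply]
  have h1 : Deps.q₁ B ((pairHom ψ v).1 s) = ψ.1 s :=
    congrArg (fun φ : HomSet R resR B => φ.1 s) (pairHom_q₁ ψ v)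
  have h2 : Deps.q₂ B ((pairHom ψ v).1 s) = v.1 s :=
    congrArg (fun φ : HomSet R resR (dual Λ k) => φ.1 s) (pairHom_q₂ ψ v)
  rw [h1, h2]

theorem app_shiftHom_congr (heps : Heps F) (ξ : Family R resR F) (ψ : HomSet R resR B)
    (v v' : HomSet R resR (dual Λ k)) (h : ξ.app _ v = ξ.app _ v') :
    ξ.app _ (shiftHom ht htm ψ v) = ξ.app _ (shiftHom ht htm ψ v') := by
  unfold shiftHom
  rw [ξ.natural, ξ.natural]
  congr 1
  apply (heps _ _ (Deps.isFibreProd B)).1
  apply FibProd.ext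
  · change F.map (Deps.q₁ B) (ξ.app _ (pairHom ψ v)) = F.map (Deps.q₁ B) (ξ.app _ (pairHom ψ v'))
    rw [← ξ.natural, ← ξ.natural, pairHom_q₁, pairHom_q₁]
  · change F.map (Deps.q₂ B) (ξ.app _ (pairHom ψ v)) = F.map (Deps.q₂ B) (ξ.app _ (pairHom ψ v'))
    rw [← ξ.natural, ← ξ.natural, pairHom_q₂, pairHom_q₂, h]

theorem homSet_ext_apply {A : Art Λ k} (φ φ' : HomSet R resR A) (h : ∀ s, φ.1 s = φ'.1 s) : φ = φ' :=
  Subtype.ext (AlgHom.ext h)

theorem dsnd_scale (c : k) (x : (dual Λ k : Art Λ k)) : dsnd (scale c x) = c * dsnd x := rfl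

end ShiftHom

theorem span_singleton_le_maximalIdeal {T : Type*} [CommRing T] [IsLocalRing T] {r : T}
    (hr : r ∈ maximalIdeal T) : Ideal.span {r} ≤ maximalIdeal T := by
  rw [Ideal.span_le, Set.singleton_subset_iff]
  exact hr

/-- cutting down a versal family by an element on which two tangent vectors with the same image
differ -/
theorem isVersal_cutDown (heps : Heps F) (R : CRing Λ k) (ξ : Family R.carrier R.res F)
    (hξ : IsVersal ξ) (w w' : HomSet R.carrier R.res (dual Λ k)) (hww : ξ.app _ w = ξ.app _ w')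
    (r : R.carrier) (hr : r ∈ maximalIdeal R.carrier) (hne : dsnd (w.1 r) ≠ dsnd (w'.1 r)) :
    IsVersal (ξ.along (quotCRingMk R (Ideal.span {r}) (span_singleton_le_maximalIdeal hr))
      (quotCRingMk_res R _ _)) := by
  set J : Ideal R.carrier := Ideal.span {r} with hJ
  have hJm : J ≤ maximalIdeal R.carrier := span_singleton_le_maximalIdeal hr
  apply isVersal_of_small_lifts
  intro B A μ hμ φ y hy
  obtain ⟨t, ht, htm, ht0, hker⟩ := IsSmallExt.exists_generator hμ
  -- the composite `R → R/J → A`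
  let φq : HomSet R.carrier R.res A :=
    ⟨φ.1.comp (quotCRingMk R J hJm), by rw [← AlgHom.comp_assoc, φ.2, quotCRingMk_res]⟩
  have hy' : F.map μ y = ξ.app A φq := hy
  obtain ⟨ψ, hψ1, hψ2⟩ := hξ μ hμ.1 φq y hy'
  -- `ψ r` lies in the kernel of `μ`
  have hψr : ψ.1 r ∈ RingHom.ker μ.toAlgHom := by
    rw [RingHom.mem_ker]
    have h1 : μ (ψ.1 r) = φq.1 r := congrArg (fun θ : HomSet R.carrier R.res A => θ.1 r) hψ1
    change μ (ψ.1 r) = 0
    rw [h1]
    change φ.1 (quotCRingMk R J hJm r) = 0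
    rw [(quotCRingMk_eq_zero_iff R J hJm r).2 (Ideal.subset_span rfl), map_zero]
  rw [hker, Ideal.mem_span_singleton'] at hψr
  obtain ⟨b, hb⟩ := hψr
  rw [mul_eq_socleSMul ht] at hb
  set c := B.res b with hc
  -- the correcting scalar
  set δ := dsnd (w'.1 r) - dsnd (w.1 r) with hδ
  have hδ0 : δ ≠ 0 := sub_ne_zero.2 (Ne.symm hne)
  set lam : k := -c / δ with hlam
  let wl : HomSet R.carrier R.res (dual Λ k) := HomSet.map (scale lam) w
  let wl' : HomSet R.carrier R.res (dual Λ k) := HomSet.map (scale lam) w'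
  let wn : HomSet R.carrier R.res (dual Λ k) := HomSet.map (scale (-lam)) w
  have hwl : ξ.app _ wl = ξ.app _ wl' := by
    change ξ.app _ (HomSet.map (scale lam) w) = ξ.app _ (HomSet.map (scale lam) w')
    rw [ξ.natural, ξ.natural, hww]
  let ψ₁ := shiftHom ht htm ψ wn
  let ψ' := shiftHom ht htm ψ₁ wl'
  have hback : shiftHom ht htm ψ₁ wl = ψ := by
    apply homSet_ext_apply
    intro s
    rw [shiftHom_apply, shiftHom_apply, add_assoc, ← socleSMul_add ht]
    have h1 : dsnd (wn.1 s) + dsnd (wl.1 s) = 0 := by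
      change dsnd (scale (-lam) (w.1 s)) + dsnd (scale lam (w.1 s)) = 0
      rw [dsnd_scale, dsnd_scale]
      ring
    rw [h1, socleSMul_zero ht, add_zero]
  have hψ'y : ξ.app _ ψ' = y := by
    change ξ.app _ (shiftHom ht htm ψ₁ wl') = y
    rw [← app_shiftHom_congr ht htm heps ξ ψ₁ wl wl' hwl, hback, hψ2]
  have hψ'apply : ∀ s, ψ'.1 s = ψ.1 s + socleSMul t (lam * (dsnd (w'.1 s) - dsnd (w.1 s))) := by
    intro s
    change (shiftHom ht htm ψ₁ wl').1 s = _
    rw [shiftHom_apply]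
    change (shiftHom ht htm ψ wn).1 s + _ = _
    rw [shiftHom_apply, add_assoc, ← socleSMul_add ht]
    congr 2
    change dsnd (scale (-lam) (w.1 s)) + dsnd (scale lam (w'.1 s)) = _
    rw [dsnd_scale, dsnd_scale]
    ring
  have hψ'r : ψ'.1 r = 0 := by
    rw [hψ'apply, ← hb, ← socleSMul_add ht]
    have h1 : c + lam * (dsnd (w'.1 r) - dsnd (w.1 r)) = 0 := by
      rw [← hδ, hlam]
      field_simp
      ring
    rw [h1, socleSMul_zero ht]
  have hμsocle : ∀ c' : k, μ (socleSMul t c') = 0 := by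
    intro c'
    have ht_ker : t ∈ RingHom.ker μ.toAlgHom := by
      rw [hker]
      exact Ideal.subset_span rfl
    have h1 : μ t = 0 := ht_ker
    change μ (resLift B c' * t) = 0
    have h2 : μ (resLift B c' * t) = μ (resLift B c') * μ t := map_mul μ.toAlgHom _ _
    rw [h2, h1, mul_zero]
  have hμψ' : ∀ s, μ (ψ'.1 s) = φ.1 (quotCRingMk R J hJm s) := by
    intro s
    rw [hψ'apply]
    have h1 : μ (ψ.1 s + socleSMul t (lam * (dsnd (w'.1 s) - dsnd (w.1 s)))) =
        μ (ψ.1 s) + μ (socleSMul t (lam * (dsnd (w'.1 s) - dsnd (w.1 s)))) :=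
      map_add μ.toAlgHom _ _
    rw [h1, hμsocle, add_zero]
    exact congrArg (fun θ : HomSet R.carrier R.res A => θ.1 s) hψ1
  -- descend `ψ'` to the quotient
  have hkill : ∀ a ∈ J, ψ'.1 a = 0 := by
    intro a ha
    rw [hJ, Ideal.mem_span_singleton'] at ha
    obtain ⟨x, rfl⟩ := ha
    rw [map_mul, hψ'r, mul_zero]
  let ψq : HomSet (quotCRing R J hJm).carrier (quotCRing R J hJm).res B :=
    ⟨Ideal.Quotient.liftₐ J ψ'.1 hkill, by
      apply AlgHom.ext
      intro z
      obtain ⟨a, rfl⟩ := Ideal.Quotient.mk_surjective z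
      exact AlgHom.congr_fun ψ'.2 a⟩
  have hψq : ∀ a, ψq.1 (quotCRingMk R J hJm a) = ψ'.1 a := fun _ => rfl
  refine ⟨ψq, ?_, ?_⟩
  · apply homSet_ext_apply
    intro z
    obtain ⟨a, rfl⟩ := quotCRingMk_surjective R J hJm z
    change μ (ψq.1 (quotCRingMk R J hJm a)) = _
    rw [hψq, hμψ']
  · change ξ.app B ⟨ψq.1.comp (quotCRingMk R J hJm), _⟩ = y
    rw [← hψ'y]
    congr 1

end Groth.Agent.Helper18
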