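import Mathlib
import Groth.Agent.Lib.Helper18.Schl.CutDown

/-!
Cutting down a versal family, relative to an ideal: all quotients are quotients of one fixed ring.
-/

set_option autoImplicit false
universe u v
open CategoryTheory

namespace Groth.Agent.Helper18

open ArtFun ArtFun.Art IsLocalRing

variable {Λ k : Type u} [CommRing Λ] [Field k] [Algebra Λ k]
variable {F : Art Λ k ⥤ Type v}
variable {R : Type u} [CommRing R] [Algebra Λ R] {resR : R →ₐ[Λ] k}

/-- the augmentation of a quotient -/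
noncomputable def quotRes (J : Ideal R) (hJ : ∀ a ∈ J, resR a = 0) : (R ⧸ J) →ₐ[Λ] k :=
  Ideal.Quotient.liftₐ J resR hJ

theorem quotRes_comp (J : Ideal R) (hJ : ∀ a ∈ J, resR a = 0) :
    (quotRes J hJ).comp (Ideal.Quotient.mkₐ Λ J) = resR :=
  AlgHom.ext fun _ => rfl

/-- the restriction of a family to a quotient -/
noncomputable def restrictFam (ξ : Family R resR F) (J : Ideal R) (hJ : ∀ a ∈ J, resR a = 0) :
    Family (R ⧸ J) (quotRes J hJ) F :=
  ξ.along (Ideal.Quotient.mkₐ Λ J) (quotRes_comp J hJ)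

/-- a point of `h_R` killing `J` descends to the quotient -/
noncomputable def homDescend {A : Art Λ k} (J : Ideal R) (hJ : ∀ a ∈ J, resR a = 0)
    (φ : HomSet R resR A) (hφ : ∀ a ∈ J, φ.1 a = 0) : HomSet (R ⧸ J) (quotRes J hJ) A :=
  ⟨Ideal.Quotient.liftₐ J φ.1 hφ, by
    apply AlgHom.ext
    intro z
    obtain ⟨a, rfl⟩ := Ideal.Quotient.mk_surjective z
    exact AlgHom.congr_fun φ.2 a⟩

/-- a point of the quotient as a point of `h_R` -/
noncomputable def homPull {A : Art Λ k} (J : Ideal R) (hJ : ∀ a ∈ J, resR a = 0)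
    (φ : HomSet (R ⧸ J) (quotRes J hJ) A) : HomSet R resR A :=
  ⟨φ.1.comp (Ideal.Quotient.mkₐ Λ J), by rw [← AlgHom.comp_assoc, φ.2, quotRes_comp]⟩

theorem homPull_apply {A : Art Λ k} (J : Ideal R) (hJ : ∀ a ∈ J, resR a = 0)
    (φ : HomSet (R ⧸ J) (quotRes J hJ) A) (a : R) :
    (homPull J hJ φ).1 a = φ.1 (Ideal.Quotient.mk J a) := rfl

theorem homPull_kills {A : Art Λ k} (J : Ideal R) (hJ : ∀ a ∈ J, resR a = 0)
    (φ : HomSet (R ⧸ J) (quotRes J hJ) A) (a : R) (ha : a ∈ J) : (homPull J hJ φ).1 a = 0 := by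
  rw [homPull_apply, Ideal.Quotient.eq_zero_iff_mem.2 ha, map_zero]

theorem homPull_homDescend {A : Art Λ k} (J : Ideal R) (hJ : ∀ a ∈ J, resR a = 0)
    (φ : HomSet R resR A) (hφ : ∀ a ∈ J, φ.1 a = 0) : homPull J hJ (homDescend J hJ φ hφ) = φ :=
  Subtype.ext (AlgHom.ext fun _ => rfl)

theorem homDescend_homPull {A : Art Λ k} (J : Ideal R) (hJ : ∀ a ∈ J, resR a = 0)
    (φ : HomSet (R ⧸ J) (quotRes J hJ) A) :
    homDescend J hJ (homPull J hJ φ) (homPull_kills J hJ φ) = φ := by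
  apply Subtype.ext
  apply AlgHom.ext
  intro z
  obtain ⟨a, rfl⟩ := Ideal.Quotient.mk_surjective z
  rfl

theorem restrictFam_app {A : Art Λ k} (ξ : Family R resR F) (J : Ideal R)
    (hJ : ∀ a ∈ J, resR a = 0) (φ : HomSet (R ⧸ J) (quotRes J hJ) A) :
    (restrictFam ξ J hJ).app A φ = ξ.app A (homPull J hJ φ) := rfl

theorem homPull_map {A B : Art Λ k} (μ : A ⟶ B) (J : Ideal R) (hJ : ∀ a ∈ J, resR a = 0)
    (φ : HomSet (R ⧸ J) (quotRes J hJ) A) :
    homPull J hJ (HomSet.map μ φ) = HomSet.map μ (homPull J hJ φ) :=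
  Subtype.ext (AlgHom.ext fun _ => rfl)

theorem homPull_injective {A : Art Λ k} (J : Ideal R) (hJ : ∀ a ∈ J, resR a = 0) :
    Function.Injective (homPull (A := A) J hJ) := by
  intro φ φ' h
  rw [← homDescend_homPull J hJ φ, ← homDescend_homPull J hJ φ']
  congr 1

/-- versality of the restriction to a quotient, in terms of points killing the ideal -/
theorem isVersal_restrictFam_iff (ξ : Family R resR F) (J : Ideal R) (hJ : ∀ a ∈ J, resR a = 0) :
    IsVersal (restrictFam ξ J hJ) ↔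
      ∀ ⦃B A : Art Λ k⦄ (μ : B ⟶ A), Function.Surjective μ →
        ∀ (φ : HomSet R resR A), (∀ a ∈ J, φ.1 a = 0) → ∀ y : F.obj B, F.map μ y = ξ.app A φ →
          ∃ ψ : HomSet R resR B, (∀ a ∈ J, ψ.1 a = 0) ∧ HomSet.map μ ψ = φ ∧ ξ.app B ψ = y := by
  constructor
  · intro h B A μ hμ φ hφ y hy
    obtain ⟨ψ, hψ1, hψ2⟩ := h μ hμ (homDescend J hJ φ hφ) y (by
      rw [restrictFam_app, homPull_homDescend]
      exact hy)
    refine ⟨homPull J hJ ψ, homPull_kills J hJ ψ, ?_, ?_⟩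
    · rw [← homPull_map, hψ1, homPull_homDescend]
    · exact hψ2
  · intro h B A μ hμ φ y hy
    obtain ⟨ψ, hψ0, hψ1, hψ2⟩ := h μ hμ (homPull J hJ φ) (homPull_kills J hJ φ) y hy
    refine ⟨homDescend J hJ ψ hψ0, ?_, ?_⟩
    · apply homPull_injective J hJ
      rw [homPull_map, homPull_homDescend, hψ1]
    · rw [restrictFam_app, homPull_homDescend]
      exact hψ2

/-- cutting down a versal family, relative to an ideal -/
theorem isVersal_cutDown' (heps : Heps F) (ξ : Family R resR F) (J₀ : Ideal R)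
    (hJ₀ : ∀ a ∈ J₀, resR a = 0) (hξ : IsVersal (restrictFam ξ J₀ hJ₀))
    (w w' : HomSet R resR (dual Λ k)) (hw : ∀ a ∈ J₀, w.1 a = 0) (hw' : ∀ a ∈ J₀, w'.1 a = 0)
    (hww : ξ.app _ w = ξ.app _ w') (r : R) (hne : dsnd (w.1 r) ≠ dsnd (w'.1 r))
    (hJ₁ : ∀ a ∈ J₀ ⊔ Ideal.span {r}, resR a = 0) :
    IsVersal (restrictFam ξ (J₀ ⊔ Ideal.span {r}) hJ₁) := by
  apply isVersal_of_small_lifts
  intro B A μ hμ φ y hy
  obtain ⟨t, ht, htm, ht0, hker⟩ := IsSmallExt.exists_generator hμ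
  set φq := homPull (J₀ ⊔ Ideal.span {r}) hJ₁ φ with hφq
  have hφqk : ∀ a ∈ J₀ ⊔ Ideal.span {r}, φq.1 a = 0 := homPull_kills _ hJ₁ φ
  have hy' : F.map μ y = ξ.app A φq := hy
  obtain ⟨ψ, hψ0, hψ1, hψ2⟩ := (isVersal_restrictFam_iff ξ J₀ hJ₀).1 hξ μ hμ.1 φq
    (fun a ha => hφqk a (Ideal.mem_sup_left ha)) y hy'
  -- `ψ r` lies in the kernel of `μ`
  have hψr : ψ.1 r ∈ RingHom.ker μ.toAlgHom := by
    rw [RingHom.mem_ker]
    have h1 : μ (ψ.1 r) = φq.1 r := congrArg (fun θ : HomSet R resR A => θ.1 r) hψ1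
    change μ (ψ.1 r) = 0
    rw [h1]
    exact hφqk r (Ideal.mem_sup_right (Ideal.subset_span (Set.mem_singleton r)))
  rw [hker, Ideal.mem_span_singleton'] at hψr
  obtain ⟨b, hb⟩ := hψr
  rw [mul_eq_socleSMul ht] at hb
  set c := B.res b with hc
  set δ := dsnd (w'.1 r) - dsnd (w.1 r) with hδ
  have hδ0 : δ ≠ 0 := sub_ne_zero.2 (Ne.symm hne)
  set lam : k := -c / δ with hlam
  let wl : HomSet R resR (dual Λ k) := HomSet.map (scale lam) w
  let wl' : HomSet R resR (dual Λ k) := HomSet.map (scale lam) w'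
  let wn : HomSet R resR (dual Λ k) := HomSet.map (scale (-lam)) w
  have hwl : ξ.app _ wl = ξ.app _ wl' := by
    change ξ.app _ (HomSet.map (scale lam) w) = ξ.app _ (HomSet.map (scale lam) w')
    rw [ξ.natural, ξ.natural, hww]
  let ψ₁ := shiftHom ht htm ψ wn
  let ψ' := shiftHom ht htm ψ₁ wl'
  have hback : shiftHom ht htm ψ₁ wl = ψ := by
    apply homSet_ext_apply
    intro s
    rw [shiftHom_apply, shiftHom_apply, add_assoc, ← socleSMul_add ht]
    have h1 : dsnd (wn.1 s) + dsnd (wl.1 s) = 0 := by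
      change dsnd (scale (-lam) (w.1 s)) + dsnd (scale lam (w.1 s)) = 0
      rw [dsnd_scale, dsnd_scale]
      ring
    rw [h1, socleSMul_zero ht, add_zero]
  have hψ'y : ξ.app _ ψ' = y := by
    change ξ.app _ (shiftHom ht htm ψ₁ wl') = y
    rw [← app_shiftHom_congr ht htm heps ξ ψ₁ wl wl' hwl, hback, hψ2]
  have hψ'apply : ∀ s, ψ'.1 s = ψ.1 s + socleSMul t (lam * (dsnd (w'.1 s) - dsnd (w.1 s))) := by
    intro s
    change (shiftHom ht htm ψ₁ wl').1 s = _
    rw [shiftHom_apply]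
    change (shiftHom ht htm ψ wn).1 s + _ = _
    rw [shiftHom_apply, add_assoc, ← socleSMul_add ht]
    congr 2
    change dsnd (scale (-lam) (w.1 s)) + dsnd (scale lam (w'.1 s)) = _
    rw [dsnd_scale, dsnd_scale]
    ring
  have hψ'r : ψ'.1 r = 0 := by
    rw [hψ'apply, ← hb, ← socleSMul_add ht]
    have h1 : c + lam * (dsnd (w'.1 r) - dsnd (w.1 r)) = 0 := by
      rw [← hδ, hlam]
      field_simp
      ring
    rw [h1, socleSMul_zero ht]
  have hψ'J₀ : ∀ a ∈ J₀, ψ'.1 a = 0 := by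
    intro a ha
    rw [hψ'apply, hψ0 a ha, hw a ha, hw' a ha, dsnd_zero, sub_zero, mul_zero, socleSMul_zero ht,
      add_zero]
  have hμsocle : ∀ c' : k, μ (socleSMul t c') = 0 := by
    intro c'
    have ht_ker : t ∈ RingHom.ker μ.toAlgHom := by
      rw [hker]
      exact Ideal.subset_span rfl
    have h1 : μ t = 0 := ht_ker
    change μ (resLift B c' * t) = 0
    have h2 : μ (resLift B c' * t) = μ (resLift B c') * μ t := map_mul μ.toAlgHom _ _
    rw [h2, h1, mul_zero]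
  have hμψ' : HomSet.map μ ψ' = φq := by
    apply homSet_ext_apply
    intro s
    change μ (ψ'.1 s) = φq.1 s
    rw [hψ'apply]
    have h1 : μ (ψ.1 s + socleSMul t (lam * (dsnd (w'.1 s) - dsnd (w.1 s)))) =
        μ (ψ.1 s) + μ (socleSMul t (lam * (dsnd (w'.1 s) - dsnd (w.1 s)))) :=
      map_add μ.toAlgHom _ _
    rw [h1, hμsocle, add_zero]
    exact congrArg (fun θ : HomSet R resR A => θ.1 s) hψ1
  have hkill : ∀ a ∈ J₀ ⊔ Ideal.span {r}, ψ'.1 a = 0 := by
    have hle : J₀ ⊔ Ideal.span {r} ≤ RingHom.ker (ψ'.1 : R →+* B) := by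
      refine sup_le (fun a ha => ?_) ?_
      · rw [RingHom.mem_ker]
        exact hψ'J₀ a ha
      · rw [Ideal.span_le, Set.singleton_subset_iff, SetLike.mem_coe, RingHom.mem_ker]
        exact hψ'r
    exact fun a ha => hle ha
  refine ⟨homDescend _ hJ₁ ψ' hkill, ?_, ?_⟩
  · apply homPull_injective _ hJ₁
    rw [homPull_map, homPull_homDescend, hμψ']
  · rw [restrictFam_app, homPull_homDescend]
    exact hψ'y

end Groth.Agent.Helper18
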