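import Mathlib

/-!
An injective endomorphism of an Artinian local ring which induces the identity on the residue
field is surjective.
-/

set_option autoImplicit false

namespace Groth.Agent.Helper18

open IsLocalRing

theorem ringEnd_surjective_of_injective {A : Type*} [CommRing A] [IsLocalRing A]
    [IsArtinianRing A] (ψ : A →+* A) (hres : ∀ a, ψ a - a ∈ maximalIdeal A)
    (hinj : Function.Injective ψ) : Function.Surjective ψ := by
  set m := maximalIdeal A with hm
  have hψm : ∀ a ∈ m, ψ a ∈ m := by
    intro a ha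
    have := m.add_mem (hres a) ha
    rwa [sub_add_cancel] at this
  have hψpow : ∀ i : ℕ, ∀ a ∈ m ^ i, ψ a ∈ m ^ i := by
    intro i a ha
    have h1 : Ideal.map ψ (m ^ i) ≤ m ^ i := by
      rw [Ideal.map_pow]
      apply Ideal.pow_right_mono
      rw [Ideal.map_le_iff_le_comap]
      intro x hx
      exact hψm x hx
    exact h1 (Ideal.mem_map_of_mem ψ ha)
  obtain ⟨n, hn⟩ : ∃ n : ℕ, m ^ n = ⊥ := by
    have h1 := IsArtinianRing.isNilpotent_jacobson_bot (R := A)
    rw [IsLocalRing.jacobson_eq_maximalIdeal ⊥ bot_ne_top] at h1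
    obtain ⟨n, hn⟩ := h1
    exact ⟨n, hn⟩
  have key : ∀ d i : ℕ, i + d = n → ∀ x ∈ m ^ i, ∃ y ∈ m ^ i, ψ y = x := by
    intro d
    induction d with
    | zero =>
      intro i hi x hx
      rw [add_zero] at hi
      rw [hi, hn, Ideal.mem_bot] at hx
      exact ⟨0, Ideal.zero_mem _, by rw [map_zero, hx]⟩
    | succ d ih =>
      intro i hi x hx
      have hQ := ih (i + 1) (by omega)
      -- the A-module m^i / m^(i+1)
      let M : Submodule A A := m ^ i
      let N' : Submodule A M := Submodule.comap M.subtype (m ^ (i + 1))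
      have hmul : ∀ (a : A), a ∈ m → ∀ y ∈ m ^ i, a * y ∈ m ^ (i + 1) := by
        intro a ha y hy
        rw [pow_succ']
        exact Ideal.mul_mem_mul ha hy
      let g : M →ₗ[A] (M ⧸ N') :=
        { toFun := fun x => N'.mkQ ⟨ψ x.1, hψpow i x.1 x.2⟩
          map_add' := by
            intro x y
            rw [← map_add]
            congr 1
            apply Subtype.ext
            change ψ (x.1 + y.1) = ψ x.1 + ψ y.1
            rw [map_add]
          map_smul' := by
            intro a x
            rw [RingHom.id_apply, ← map_smul]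
            rw [Submodule.mkQ_apply, Submodule.mkQ_apply, Submodule.Quotient.eq]
            change (⟨ψ (a • x).1, _⟩ - a • (⟨ψ x.1, _⟩ : M) : M) ∈ N'
            rw [Submodule.mem_comap]
            change ψ (a * x.1) - a * ψ x.1 ∈ m ^ (i + 1)
            rw [map_mul, ← sub_mul]
            exact hmul _ (hres a) _ (hψpow i x.1 x.2) }
      have hg : N' ≤ LinearMap.ker g := by
        intro x hx'
        rw [LinearMap.mem_ker]
        change N'.mkQ ⟨ψ x.1, _⟩ = 0
        rw [Submodule.mkQ_apply, Submodule.Quotient.mk_eq_zero, Submodule.mem_comap]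
        exact hψpow (i + 1) x.1 hx'
      let f : (M ⧸ N') →ₗ[A] (M ⧸ N') := N'.liftQ g hg
      have hf : ∀ y : M, f (N'.mkQ y) = N'.mkQ ⟨ψ y.1, hψpow i y.1 y.2⟩ := fun y => rfl
      have hfinj : Function.Injective f := by
        rw [← LinearMap.ker_eq_bot, LinearMap.ker_eq_bot']
        intro v hv
        obtain ⟨y, rfl⟩ := N'.mkQ_surjective v
        rw [hf, Submodule.mkQ_apply, Submodule.Quotient.mk_eq_zero, Submodule.mem_comap] at hv
        change ψ y.1 ∈ m ^ (i + 1) at hv
        obtain ⟨z, hz, hzy⟩ := hQ _ hv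
        have : z = y.1 := hinj hzy
        rw [Submodule.mkQ_apply, Submodule.Quotient.mk_eq_zero, Submodule.mem_comap]
        change y.1 ∈ m ^ (i + 1)
        rw [← this]
        exact hz
      have hfsurj : Function.Surjective f := IsArtinian.surjective_of_injective_endomorphism f hfinj
      obtain ⟨v, hv⟩ := hfsurj (N'.mkQ ⟨x, hx⟩)
      obtain ⟨y, rfl⟩ := N'.mkQ_surjective v
      rw [hf, Submodule.mkQ_apply, Submodule.mkQ_apply, Submodule.Quotient.eq,
        Submodule.mem_comap] at hv
      change ψ y.1 - x ∈ m ^ (i + 1) at hv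
      obtain ⟨z, hz, hzy⟩ := hQ _ hv
      refine ⟨y.1 - z, ?_, ?_⟩
      · exact Ideal.sub_mem _ y.2 (Ideal.pow_le_pow_right (Nat.le_succ i) hz)
      · rw [map_sub, hzy]
        ring
  intro x
  obtain ⟨y, -, hy⟩ := key n 0 (zero_add n) x (by rw [pow_zero, Ideal.one_eq_top]; trivial)
  exact ⟨y, hy⟩

end Groth.Agent.Helper18
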