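import Groth.Agent.Lib.Helper18.Schl.Fitting1
import Groth.Agent.Lib.Helper18.ArtFunSmall

/-!
Fitting's lemma for endomorphisms of objects of `Art Λ k` fixing an element of `F`.
-/

set_option autoImplicit false
universe u v
open CategoryTheory

namespace Groth.Agent.Helper18

open ArtFun ArtFun.Art

variable {Λ : Type u} {k : Type u} [CommRing Λ] [Field k] [Algebra Λ k]

/-- iterates of an endomorphism -/
def iter {A : Art Λ k} (φ : A ⟶ A) : ℕ → (A ⟶ A)
  | 0 => 𝟙 A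
  | (j + 1) => iter φ j ≫ φ

theorem iter_zero {A : Art Λ k} (φ : A ⟶ A) : iter φ 0 = 𝟙 A := rfl

theorem iter_succ {A : Art Λ k} (φ : A ⟶ A) (j : ℕ) : iter φ (j + 1) = iter φ j ≫ φ := rfl

theorem iter_succ_apply {A : Art Λ k} (φ : A ⟶ A) (j : ℕ) (a : A) :
    iter φ (j + 1) a = φ (iter φ j a) := rfl

theorem iter_zero_apply {A : Art Λ k} (φ : A ⟶ A) (a : A) : iter φ 0 a = a := rfl

theorem iter_one {A : Art Λ k} (φ : A ⟶ A) : iter φ 1 = φ := by
  rw [iter_succ, iter_zero, Category.id_comp]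

theorem iter_add {A : Art Λ k} (φ : A ⟶ A) (i j : ℕ) : iter φ (i + j) = iter φ i ≫ iter φ j := by
  induction j with
  | zero => rw [add_zero, iter_zero, Category.comp_id]
  | succ j ih => rw [← add_assoc, iter_succ, ih, iter_succ, Category.assoc]

theorem iter_add_apply {A : Art Λ k} (φ : A ⟶ A) (i j : ℕ) (a : A) :
    iter φ (i + j) a = iter φ j (iter φ i a) := by
  rw [iter_add]; rfl

theorem iter_mul {A : Art Λ k} (φ : A ⟶ A) (N m : ℕ) : iter φ (N * m) = iter (iter φ N) m := by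
  induction m with
  | zero => rw [mul_zero, iter_zero, iter_zero]
  | succ m ih => rw [Nat.mul_succ, iter_add, ih, iter_succ]

theorem map_iter {F : Art Λ k ⥤ Type v} {A : Art Λ k} (φ : A ⟶ A) (x : F.obj A)
    (hx : F.map φ x = x) (j : ℕ) : F.map (iter φ j) x = x := by
  induction j with
  | zero => rw [iter_zero, FunctorToTypes.map_id_apply]
  | succ j ih => rw [iter_succ, FunctorToTypes.map_comp_apply, ih, hx]

theorem iter_comm_of_comm {A' A : Art Λ k} (φ' : A' ⟶ A') (φ : A ⟶ A) (τ : A' ⟶ A)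
    (h : φ' ≫ τ = τ ≫ φ) (j : ℕ) : iter φ' j ≫ τ = τ ≫ iter φ j := by
  induction j with
  | zero => rw [iter_zero, iter_zero, Category.id_comp, Category.comp_id]
  | succ j ih => rw [iter_succ, iter_succ, Category.assoc, h, ← Category.assoc, ih, Category.assoc]

theorem iter_comm_apply {A' A : Art Λ k} (φ' : A' ⟶ A') (φ : A ⟶ A) (τ : A' ⟶ A)
    (h : φ' ≫ τ = τ ≫ φ) (j : ℕ) (a : A') : τ (iter φ' j a) = iter φ j (τ a) := by
  have := congrArg (fun f : A' ⟶ A => f a) (iter_comm_of_comm φ' φ τ h j)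
  exact this

/-- kernels of iterates stabilize -/
theorem exists_iter_stable {A : Art Λ k} (φ : A ⟶ A) :
    ∃ N : ℕ, 0 < N ∧ ∀ j a, iter φ j a = 0 → iter φ N a = 0 := by
  haveI : IsNoetherianRing A := inferInstance
  let K : ℕ →o Ideal A :=
    { toFun := fun j => RingHom.ker (iter φ j).toAlgHom
      monotone' := by
        apply monotone_nat_of_le_succ
        intro j a ha
        rw [RingHom.mem_ker] at ha ⊢
        change φ (iter φ j a) = 0
        change iter φ j a = 0 at ha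
        rw [ha, map_zero] }
  obtain ⟨n, hn⟩ := monotone_stabilizes_iff_noetherian.2 (inferInstance : IsNoetherian A A) K
  refine ⟨n + 1, Nat.succ_pos n, ?_⟩
  intro j a ha
  have h1 : a ∈ K (max j (n + 1)) := K.monotone (le_max_left j (n + 1)) (RingHom.mem_ker.2 ha)
  have h2 : K n = K (max j (n + 1)) := hn _ (le_trans (Nat.le_succ n) (le_max_right j (n + 1)))
  have h3 : K n = K (n + 1) := hn _ (Nat.le_succ n)
  rw [← h2, h3] at h1
  exact RingHom.mem_ker.1 h1

theorem fitting_core {F : Art Λ k ⥤ Type v} (A : Art Λ k) (ψ : A ⟶ A)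
    (hstab : ∀ a, ψ (ψ a) = 0 → ψ a = 0) (x : F.obj A) (hx : F.map ψ x = x) :
    ∃ e : A ⟶ A, e ≫ e = e ∧ F.map e x = x ∧ (∀ a, e a = 0 ↔ ψ a = 0) ∧ (∀ a, e (ψ a) = ψ a) ∧
      (∀ a, ∃ b, e a = ψ b) ∧ (∀ a, ∃ b, ψ a = ψ (ψ b)) := by
  have hK := ker_le_maximalIdeal ψ
  set Ab := quot A (RingHom.ker ψ.toAlgHom) hK with hAb
  set π : A ⟶ Ab := quotMk A _ hK with hπ
  set ψt : Ab ⟶ A := quotFactor hK ψ le_rfl with hψt
  have hπψt : π ≫ ψt = ψ := quotMk_quotFactor hK ψ le_rfl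
  have hπψt' : ∀ a, ψt (π a) = ψ a := fun a => rfl
  have hπsurj : Function.Surjective π := quotMk_surjective A _ hK
  have hπ0 : ∀ a, π a = 0 ↔ ψ a = 0 := by
    intro a
    rw [hπ, quotMk_eq_zero_iff, RingHom.mem_ker]
  have hψtinj : ∀ c, ψt c = 0 → c = 0 := by
    intro c hc
    obtain ⟨a, rfl⟩ := hπsurj c
    rw [hπψt'] at hc
    exact (hπ0 a).2 hc
  set ψb : Ab ⟶ Ab := ψt ≫ π with hψb
  have hψb' : ∀ c, ψb c = π (ψt c) := fun c => rfl
  have hinj : Function.Injective ψb := by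
    rw [injective_iff_map_eq_zero]
    intro c hc
    obtain ⟨a, rfl⟩ := hπsurj c
    rw [hψb', hπψt', hπ0] at hc
    exact (hπ0 a).2 (hstab a hc)
  have hsurj : Function.Surjective ψb := by
    apply ringEnd_surjective_of_injective (ψb.toAlgHom : Ab →+* Ab) _ hinj
    intro c
    rw [Art.mem_maximalIdeal_iff, map_sub, sub_eq_zero]
    exact Art.res_app ψb c
  haveI : IsIso ψb := isIso_of_bijective ψb ⟨hinj, hsurj⟩
  have hinv1 : ∀ c, inv ψb (ψb c) = c := by
    intro c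
    have := congrArg (fun f : Ab ⟶ Ab => f c) (IsIso.hom_inv_id ψb)
    exact this
  have hinv2 : ∀ c, ψb (inv ψb c) = c := by
    intro c
    have := congrArg (fun f : Ab ⟶ Ab => f c) (IsIso.inv_hom_id ψb)
    exact this
  refine ⟨π ≫ inv ψb ≫ ψt, ?_, ?_, ?_, ?_, ?_, ?_⟩
  · have h1 : ψt ≫ π ≫ inv ψb = 𝟙 Ab := by
      rw [← Category.assoc, ← hψb, IsIso.hom_inv_id]
    calc (π ≫ inv ψb ≫ ψt) ≫ π ≫ inv ψb ≫ ψt
        = π ≫ inv ψb ≫ (ψt ≫ π ≫ inv ψb) ≫ ψt := by simp only [Category.assoc]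
      _ = π ≫ inv ψb ≫ ψt := by rw [h1, Category.id_comp]
  · have h1 : F.map ψb (F.map π x) = F.map π x := by
      rw [← FunctorToTypes.map_comp_apply, hψb, ← Category.assoc, hπψt,
        FunctorToTypes.map_comp_apply, hx]
    have h2 : F.map (inv ψb) (F.map π x) = F.map π x := by
      conv_lhs => rw [← h1]
      rw [← FunctorToTypes.map_comp_apply, IsIso.hom_inv_id, FunctorToTypes.map_id_apply]
    rw [FunctorToTypes.map_comp_apply, FunctorToTypes.map_comp_apply, h2,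
      ← FunctorToTypes.map_comp_apply, hπψt, hx]
  · intro a
    change ψt (inv ψb (π a)) = 0 ↔ ψ a = 0
    constructor
    · intro h
      have h1 := hψtinj _ h
      have h2 : π a = 0 := by
        rw [← hinv2 (π a), h1, map_zero]
      exact (hπ0 a).1 h2
    · intro h
      rw [(hπ0 a).2 h, map_zero, map_zero]
  · intro a
    change ψt (inv ψb (π (ψ a))) = ψ a
    have h1 : π (ψ a) = ψb (π a) := rfl
    rw [h1, hinv1]
    rfl
  · intro a
    obtain ⟨b, hb⟩ := hπsurj (inv ψb (π a))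
    refine ⟨b, ?_⟩
    change ψt (inv ψb (π a)) = ψ b
    rw [← hb]
    rfl
  · intro a
    obtain ⟨c, hc⟩ := hsurj (π a)
    obtain ⟨b, rfl⟩ := hπsurj c
    refine ⟨b, ?_⟩
    have h1 : ψ a = ψt (π a) := rfl
    rw [h1, ← hc]
    rfl

/-- Fitting's lemma in `Art Λ k`. -/
theorem fitting_art {F : Art Λ k ⥤ Type v} (A : Art Λ k) (φ : A ⟶ A) (x : F.obj A)
    (hx : F.map φ x = x) :
    ∃ (e : A ⟶ A) (N : ℕ), 0 < N ∧ e ≫ e = e ∧ F.map e x = x ∧
      (∀ j a, iter φ j a = 0 → e a = 0) ∧ (∀ a, e a = 0 → iter φ N a = 0) ∧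
      (∀ a, e (iter φ N a) = iter φ N a) ∧ (∀ j a, ∃ b, e a = iter φ j b) := by
  obtain ⟨N, hN, hstab⟩ := exists_iter_stable φ
  have hstab' : ∀ a, iter φ N (iter φ N a) = 0 → iter φ N a = 0 := by
    intro a ha
    rw [← iter_add_apply] at ha
    exact hstab _ a ha
  obtain ⟨e, he1, he2, he3, he4, he5, he6⟩ :=
    fitting_core (F := F) A (iter φ N) hstab' x (map_iter φ x hx N)
  refine ⟨e, N, hN, he1, he2, ?_, ?_, he4, ?_⟩
  · intro j a ha
    exact (he3 a).2 (hstab j a ha)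
  · intro a ha
    exact (he3 a).1 ha
  · intro j a
    have h7 : ∀ m : ℕ, ∀ a, ∃ b, iter φ N a = iter (iter φ N) (m + 1) b := by
      intro m
      induction m with
      | zero =>
        intro a
        exact ⟨a, by rw [zero_add, iter_one]⟩
      | succ m ih =>
        intro a
        obtain ⟨b, hb⟩ := he6 a
        obtain ⟨c, hc⟩ := ih b
        refine ⟨c, ?_⟩
        rw [hb, hc]
        rfl
    obtain ⟨b₀, hb₀⟩ := he5 a
    obtain ⟨c, hc⟩ := h7 j b₀
    rw [← iter_mul] at hc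
    have hle : j ≤ N * (j + 1) := by nlinarith
    obtain ⟨d, hd⟩ := Nat.exists_eq_add_of_le hle
    refine ⟨iter φ d c, ?_⟩
    rw [hb₀, hc, hd, add_comm j d, iter_add_apply]

/-- Compatibility of the Fitting idempotents. -/
theorem fitting_compat {A' A : Art Λ k} (τ : A' ⟶ A) (φ' : A' ⟶ A') (φ : A ⟶ A)
    (h : φ' ≫ τ = τ ≫ φ) (e' : A' ⟶ A') (N' : ℕ) (e : A ⟶ A) (N : ℕ)
    (he'1 : e' ≫ e' = e') (he'3 : ∀ a, e' a = 0 → iter φ' N' a = 0)
    (he'5 : ∀ j a, ∃ b, e' a = iter φ' j b)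
    (he2 : ∀ j a, iter φ j a = 0 → e a = 0) (he4 : ∀ a, e (iter φ N a) = iter φ N a) :
    e' ≫ τ = τ ≫ e := by
  apply Art.hom_ext
  apply AlgHom.ext
  intro a
  change τ (e' a) = e (τ a)
  have h1 : e' (a - e' a) = 0 := by
    rw [map_sub, sub_eq_zero]
    have := congrArg (fun f : A' ⟶ A' => f a) he'1
    exact this.symm
  have h2 : e (τ (a - e' a)) = 0 := by
    apply he2 N'
    rw [← iter_comm_apply φ' φ τ h, he'3 _ h1, map_zero]
  have h3 : e (τ (e' a)) = τ (e' a) := by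
    obtain ⟨b, hb⟩ := he'5 N a
    rw [hb, iter_comm_apply φ' φ τ h, he4]
  rw [map_sub, map_sub, sub_eq_zero] at h2
  rw [h2, h3]

end Groth.Agent.Helper18
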