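import Groth.Agent.Lib.Helper18.Schl.Fitting2
import Groth.Agent.Lib.Helper18.ArtFunMinimal
import Groth.Agent.Lib.Helper18.CotangentSurj

/-!
Fitting's lemma for endomorphisms of a family over a complete local ring:
an endomorphism `φ` of `(R, ξ)` yields an idempotent endomorphism `e` of `(R, ξ)` with
`ker φ ≤ ker e`, and `φ` is surjective as soon as `e` is injective.
-/

set_option autoImplicit false
universe u v
open CategoryTheory

namespace Groth.Agent.Helper18

open ArtFun ArtFun.Art IsLocalRing

variable {Λ : Type u} {k : Type u} [CommRing Λ] [Field k] [Algebra Λ k]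
variable {F : Art Λ k ⥤ Type v}

theorem eq_zero_of_truncHom_eq_zero (R : CRing Λ k) (y : R.carrier)
    (h : ∀ n, (R.truncHom n).1 y = 0) : y = 0 := by
  have h1 : y ∈ ⨅ i, maximalIdeal R.carrier ^ i := by
    rw [Ideal.mem_iInf]
    intro i
    have h2 : y ∈ R.mpow i := Ideal.Quotient.eq_zero_iff_mem.1 (h i)
    exact Ideal.pow_le_pow_right (Nat.le_succ i) h2
  rw [Ideal.iInf_pow_eq_bot_of_isLocalRing _ (Ideal.IsPrime.ne_top inferInstance)] at h1
  exact h1

theorem exists_idempotent (R : CRing Λ k) (ξ : Family R.carrier R.res F)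
    (φ : R.carrier →ₐ[Λ] R.carrier) (hφ : R.res.comp φ = R.res) (hξ : ξ.along φ hφ = ξ) :
    ∃ (e : R.carrier →ₐ[Λ] R.carrier) (he : R.res.comp e = R.res), ξ.along e he = ξ ∧
      e.comp e = e ∧ (∀ x, φ x = 0 → e x = 0) ∧
      (Function.Injective e → Function.Surjective φ) := by
  let φn : ∀ n, R.trunc n ⟶ R.trunc n := fun n => CRing.truncMapOfHom φ hφ n
  have hφn : ∀ n a, φn n ((R.truncHom n).1 a) = (R.truncHom n).1 (φ a) := fun n a => rfl
  have hx : ∀ n, F.map (φn n) (ξ.toFormalElt.elt n) = ξ.toFormalElt.elt n := by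
    intro n
    have h1 := congrArg (fun t : FormalElt F R => t.elt n) (push_toFormalElt ξ φ hφ)
    rw [hξ] at h1
    exact h1
  choose e N hN he1 he2 he3 he4 he5 he6 using
    fun n => fitting_art (F := F) (R.trunc n) (φn n) (ξ.toFormalElt.elt n) (hx n)
  have hcompat : ∀ n, e (n + 1) ≫ R.truncMap n = R.truncMap n ≫ e n := by
    intro n
    exact fitting_compat (R.truncMap n) (φn (n + 1)) (φn n)
      (CRing.truncMapOfHom_truncMap φ hφ n) (e (n + 1)) (N (n + 1)) (e n) (N n)
      (he1 (n + 1)) (he4 (n + 1)) (he6 (n + 1)) (he3 n) (he5 n)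
  let ψ : ∀ n, HomSet R.carrier R.res (R.trunc n) := fun n => HomSet.map (e n) (R.truncHom n)
  have hψ : ∀ n, HomSet.map (R.truncMap n) (ψ (n + 1)) = ψ n := by
    intro n
    change HomSet.map (R.truncMap n) (HomSet.map (e (n + 1)) (R.truncHom (n + 1))) = _
    rw [homSet_map_map, hcompat, ← homSet_map_map, CRing.truncMap_truncHom]
  obtain ⟨ε, hε, hεn⟩ := exists_algHom_of_compatible R ψ hψ
  have hεa : ∀ n a, (R.truncHom n).1 (ε a) = e n ((R.truncHom n).1 a) :=
    fun n a => AlgHom.congr_fun (hεn n) a
  have hee : ∀ n c, e n (e n c) = e n c := by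
    intro n c
    have := congrArg (fun f : R.trunc n ⟶ R.trunc n => f c) (he1 n)
    exact this
  have hidem : ε.comp ε = ε := by
    apply algHom_ext_of_truncHom R
    intro n
    apply AlgHom.ext
    intro a
    change (R.truncHom n).1 (ε (ε a)) = (R.truncHom n).1 (ε a)
    rw [hεa, hεa, hee]
  refine ⟨ε, hε, ?_, hidem, ?_, ?_⟩
  · apply (toFormalElt_bijective (R := R) (F := F)).1
    apply FormalElt.ext'
    intro n
    change ξ.app _ ⟨(R.truncHom n).1.comp ε, _⟩ = ξ.app _ (R.truncHom n)
    have h1 : (⟨(R.truncHom n).1.comp ε, by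
        rw [← AlgHom.comp_assoc, (R.truncHom n).2, hε]⟩ : HomSet R.carrier R.res (R.trunc n)) = ψ n :=
      Subtype.ext (hεn n)
    rw [h1]
    change ξ.app _ (HomSet.map (e n) (R.truncHom n)) = _
    rw [ξ.natural]
    exact he2 n
  · intro x hx0
    apply eq_zero_of_truncHom_eq_zero R
    intro n
    rw [hεa]
    apply he3 n 1
    rw [iter_one, hφn, hx0, map_zero]
  · intro hinj
    have hid : ∀ a, ε a = a := by
      intro a
      have h1 : ε (ε a - a) = 0 := by
        rw [map_sub, sub_eq_zero]
        exact AlgHom.congr_fun hidem a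
      have h2 := (injective_iff_map_eq_zero ε).1 hinj _ h1
      exact sub_eq_zero.1 h2
    have hsurj1 : Function.Surjective (φn 1) := by
      intro c
      obtain ⟨b, hb⟩ := he6 1 1 c
      obtain ⟨a, rfl⟩ := Ideal.Quotient.mk_surjective c
      have h1 : e 1 ((R.truncHom 1).1 a) = (R.truncHom 1).1 a := by
        rw [← hεa, hid]
      refine ⟨b, ?_⟩
      rw [iter_one] at hb
      rw [← hb]
      exact h1
    haveI : IsPrecomplete (maximalIdeal R.carrier) R.carrier := R.isAdicComplete.toIsPrecomplete
    have hresφ : ∀ a, R.res (φ a) = R.res a := fun a => AlgHom.congr_fun hφ a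
    apply surjective_of_map_maximalIdeal_sup_sq (φ : R.carrier →+* R.carrier)
    · intro s
      refine ⟨s, ?_⟩
      rw [CRing.mem_maximalIdeal_iff, map_sub, sub_eq_zero]
      exact (hresφ s).symm
    · apply le_antisymm
      · apply sup_le
        · rw [Ideal.map_le_iff_le_comap]
          intro a ha
          rw [Ideal.mem_comap, CRing.mem_maximalIdeal_iff]
          rw [CRing.mem_maximalIdeal_iff] at ha
          change R.res (φ a) = 0
          rw [hresφ, ha]
        · exact Ideal.pow_le_self (by norm_num)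
      · intro x hxm
        obtain ⟨c, hc⟩ := hsurj1 ((R.truncHom 1).1 x)
        obtain ⟨b, rfl⟩ := Ideal.Quotient.mk_surjective c
        have h1 : (R.truncHom 1).1 (φ b) = (R.truncHom 1).1 x := hc
        have h2 : φ b - x ∈ maximalIdeal R.carrier ^ 2 := by
          have h3 : (R.truncHom 1).1 (φ b - x) = 0 := by rw [map_sub, h1, sub_self]
          exact Ideal.Quotient.eq_zero_iff_mem.1 h3
        have hbm : b ∈ maximalIdeal R.carrier := by
          rw [CRing.mem_maximalIdeal_iff, ← hresφ]
          have h4 : φ b - x ∈ maximalIdeal R.carrier := Ideal.pow_le_self (by norm_num) h2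
          have h5 := Ideal.add_mem _ h4 hxm
          rw [sub_add_cancel] at h5
          exact (CRing.mem_maximalIdeal_iff R _).1 h5
        have h6 : x = φ b - (φ b - x) := by ring
        rw [h6]
        exact Ideal.sub_mem _ (Ideal.mem_sup_left (Ideal.mem_map_of_mem _ hbm))
          (Ideal.mem_sup_right h2)

end Groth.Agent.Helper18
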