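import Mathlib
import Groth.Agent.Lib.Helper18.ArtFunFibre

/-!
Simple roots lift uniquely to Artinian local algebras; consequences for separable residue
extensions: arbitrary fibre products exist.
-/

set_option autoImplicit false
universe u v
open CategoryTheory Polynomial

namespace Groth.Agent.Helper18

open ArtFun ArtFun.Art IsLocalRing

variable {Λ : Type u} {k : Type u} [CommRing Λ] [Field k] [Algebra Λ k]

section Root

variable (P : Λ[X]) (hP : P.Monic) (c : k) (hc : aeval c P = 0) (hc' : aeval c (derivative P) ≠ 0)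

include hc' in
theorem isUnit_aeval_derivative (A : Art Λ k) (a : A) (ha : A.res a = c) :
    IsUnit (aeval a (derivative P)) := by
  by_contra hnu
  have h1 : aeval a (derivative P) ∈ maximalIdeal A := (mem_maximalIdeal _).2 hnu
  rw [Art.mem_maximalIdeal_iff, ← aeval_algHom_apply, ha] at h1
  exact hc' h1

include hP hc hc' in
/-- a simple root in the residue field lifts to a root -/
theorem exists_root (A : Art Λ k) : ∃ a : A, A.res a = c ∧ aeval a P = 0 := by
  obtain ⟨a₀, ha₀⟩ := A.res_surjective c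
  have hH : HenselianRing A (maximalIdeal A) := inferInstance
  obtain ⟨a, ha, haa₀⟩ := hH.is_henselian (P.map (algebraMap Λ A)) (hP.map _) a₀ (by
      rw [eval_map_algebraMap, Art.mem_maximalIdeal_iff, ← aeval_algHom_apply, ha₀]
      exact hc) (by
      rw [derivative_map, eval_map_algebraMap]
      exact (isUnit_aeval_derivative P c hc' A a₀ ha₀).map _)
  refine ⟨a, ?_, ?_⟩
  · rw [Art.mem_maximalIdeal_iff, map_sub, ha₀, sub_eq_zero] at haa₀
    exact haa₀
  · rw [IsRoot, eval_map_algebraMap] at ha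
    exact ha

include hc' in
/-- the lifted root is unique -/
theorem root_unique (A : Art Λ k) (a a' : A) (ha : A.res a = c) (ha' : A.res a' = c)
    (hr : aeval a P = 0) (hr' : aeval a' P = 0) : a = a' := by
  apply IsLocalRing.eq_of_eval_eq_zero_of_not_isUnit_sub (f := P.map (algebraMap Λ A))
  · rw [eval_map_algebraMap]; exact hr
  · rw [eval_map_algebraMap]; exact hr'
  · have h1 : a - a' ∈ maximalIdeal A := by
      rw [Art.mem_maximalIdeal_iff, map_sub, ha, ha', sub_self]
    exact (mem_maximalIdeal _).1 h1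
  · rw [derivative_map, eval_map_algebraMap]
    exact isUnit_aeval_derivative P c hc' A a ha

end Root

/-- every element of a separable residue extension is a simple root of a monic polynomial over `Λ` -/
theorem exists_poly_of_isSeparable [Algebra.IsSeparable (↥(algebraMap Λ k).range) k] (c : k) :
    ∃ P : Λ[X], P.Monic ∧ aeval c P = 0 ∧ aeval c (derivative P) ≠ 0 := by
  set F := (algebraMap Λ k).range with hF
  have hsep : (minpoly F c).Separable := Algebra.IsSeparable.isSeparable F c
  have hint : IsIntegral F c := Algebra.IsSeparable.isIntegral F c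
  have hmonic : (minpoly F c).Monic := minpoly.monic hint
  have hsurj : Function.Surjective (algebraMap Λ k).rangeRestrict :=
    (algebraMap Λ k).rangeRestrict_surjective
  obtain ⟨P, hPmap, -, hPm⟩ := lifts_and_natDegree_eq_and_monic
    (mem_lifts_of_surjective hsurj (minpoly F c)) hmonic
  have hcomp : (algebraMap F k).comp (algebraMap Λ k).rangeRestrict = algebraMap Λ k := by
    ext l
    rfl
  have haeval : ∀ Q : Λ[X], aeval c Q = aeval c (Q.map (algebraMap Λ k).rangeRestrict) := by
    intro Q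
    rw [aeval_def, aeval_def, eval₂_map, hcomp]
  refine ⟨P, hPm, ?_, ?_⟩
  · rw [haeval, hPmap]
    exact minpoly.aeval F c
  · rw [haeval, ← derivative_map, hPmap]
    obtain ⟨u, v, huv⟩ := hsep
    intro h0
    have h1 := congrArg (aeval c) huv
    rw [map_add, map_mul, map_mul, minpoly.aeval, mul_zero, zero_add, h0, mul_zero, map_one] at h1
    exact zero_ne_one h1

section FibreProd

variable {A A₁ A₂ : Art Λ k} (f₁ : A₁ ⟶ A) (f₂ : A₂ ⟶ A)

/-- in the separable case the residue map of the set-theoretic fibre product is surjective -/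
theorem fpCarrier_res_surjective [Algebra.IsSeparable (↥(algebraMap Λ k).range) k] (c : k) :
    ∃ b : fpCarrier f₁ f₂, A₁.res b.1.1 = c := by
  obtain ⟨P, hP, hc, hc'⟩ := exists_poly_of_isSeparable (Λ := Λ) c
  obtain ⟨a₁, ha₁, hr₁⟩ := exists_root P hP c hc hc' A₁
  obtain ⟨a₂, ha₂, hr₂⟩ := exists_root P hP c hc hc' A₂
  have h : f₁ a₁ = f₂ a₂ := by
    apply root_unique P c hc' A
    · rw [Art.res_app, ha₁]
    · rw [Art.res_app, ha₂]
    · have : aeval (f₁.toAlgHom a₁) P = f₁.toAlgHom (aeval a₁ P) := aeval_algHom_apply _ _ _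
      change aeval (f₁.toAlgHom a₁) P = 0
      rw [this, hr₁, map_zero]
    · have : aeval (f₂.toAlgHom a₂) P = f₂.toAlgHom (aeval a₂ P) := aeval_algHom_apply _ _ _
      change aeval (f₂.toAlgHom a₂) P = 0
      rw [this, hr₂, map_zero]
  exact ⟨⟨(a₁, a₂), h⟩, ha₁⟩

theorem fpCarrier_isArtinianRing' (hs : ∀ c : k, ∃ b : fpCarrier f₁ f₂, A₁.res b.1.1 = c) :
    IsArtinianRing (fpCarrier f₁ f₂) := by
  letI alg1 : Algebra (fpCarrier f₁ f₂) A₁ := (AlgHom.pullbackFst f₁.toAlgHom f₂.toAlgHom).toRingHom.toAlgebra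
  letI alg2 : Algebra (fpCarrier f₁ f₂) A₂ := (AlgHom.pullbackSnd f₁.toAlgHom f₂.toAlgHom).toRingHom.toAlgebra
  have hres1 : ∀ a : A₁, ∃ b : fpCarrier f₁ f₂,
      a - algebraMap (fpCarrier f₁ f₂) A₁ b ∈ IsLocalRing.maximalIdeal A₁ := by
    intro a
    obtain ⟨b, hb⟩ := hs (A₁.res a)
    refine ⟨b, ?_⟩
    have : algebraMap (fpCarrier f₁ f₂) A₁ b = b.1.1 := rfl
    rw [this, Art.mem_maximalIdeal_iff, map_sub, hb, sub_self]
  have hres2 : ∀ a : A₂, ∃ b : fpCarrier f₁ f₂,
      a - algebraMap (fpCarrier f₁ f₂) A₂ b ∈ IsLocalRing.maximalIdeal A₂ := by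
    intro a
    obtain ⟨b, hb⟩ := hs (A₂.res a)
    refine ⟨b, ?_⟩
    have : algebraMap (fpCarrier f₁ f₂) A₂ b = b.1.2 := rfl
    rw [this, Art.mem_maximalIdeal_iff, map_sub, fpCarrier_res_eq, hb, sub_self]
  haveI : IsArtinian (fpCarrier f₁ f₂) A₁ := isArtinian_restrictScalars hres1
  haveI : IsArtinian (fpCarrier f₁ f₂) A₂ := isArtinian_restrictScalars hres2
  letI modP : Module (fpCarrier f₁ f₂) (A₁ × A₂) := Prod.instModule
  haveI : IsArtinian (fpCarrier f₁ f₂) (A₁ × A₂) := isArtinian_prod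
  let ι : fpCarrier f₁ f₂ →ₗ[fpCarrier f₁ f₂] (A₁ × A₂) :=
    { toFun := fun b => (b.1.1, b.1.2)
      map_add' := fun x y => rfl
      map_smul' := by
        intro c x
        refine Prod.ext ?_ ?_
        · change c.1.1 * x.1.1 = c • x.1.1
          rw [Algebra.smul_def]; rfl
        · change c.1.2 * x.1.2 = c • x.1.2
          rw [Algebra.smul_def]; rfl }
  have hι : Function.Injective ι := by
    intro x y hxy
    exact Subtype.ext hxy
  exact isArtinian_of_injective ι hι

/-- arbitrary fibre products exist when `k` is separable over the image of `Λ` -/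
theorem exists_isFibreProd_of_isSeparable [Algebra.IsSeparable (↥(algebraMap Λ k).range) k] :
    ∃ (B : Art Λ k) (p₁ : B ⟶ A₁) (p₂ : B ⟶ A₂), IsFibreProd p₁ p₂ f₁ f₂ := by
  have hs := fpCarrier_res_surjective f₁ f₂
  let B : Art Λ k :=
    { carrier := fpCarrier f₁ f₂
      isLocalRing := fpCarrier_isLocalRing f₁ f₂
      isArtinianRing := fpCarrier_isArtinianRing' f₁ f₂ hs
      res := A₁.res.comp (AlgHom.pullbackFst f₁.toAlgHom f₂.toAlgHom)
      res_surjective := fun c => by
        obtain ⟨b, hb⟩ := hs c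
        exact ⟨b, hb⟩ }
  let p₁ : B ⟶ A₁ := ⟨AlgHom.pullbackFst f₁.toAlgHom f₂.toAlgHom, rfl⟩
  let p₂ : B ⟶ A₂ :=
    ⟨AlgHom.pullbackSnd f₁.toAlgHom f₂.toAlgHom, AlgHom.ext fun b => fpCarrier_res_eq f₁ f₂ b⟩
  refine ⟨B, p₁, p₂, ?_⟩
  exact
    { w := by
        apply Art.hom_ext
        exact AlgHom.pullback_comm_sq f₁.toAlgHom f₂.toAlgHom
      inj := by
        intro b₁ b₂ h₁ h₂
        exact Subtype.ext (Prod.ext h₁ h₂)
      surj := by
        intro a' a'' h
        exact ⟨⟨(a', a''), h⟩, rfl, rfl⟩ }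

end FibreProd

end Groth.Agent.Helper18
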