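import Groth.Agent.Lib.Helper18.ArtFunCmp
import Groth.Agent.Lib.Helper18.Schl.FirstOrder

/-!
Under `(S2)` the comparison maps over `k ⊕ k^r → k` are bijective.
-/

set_option autoImplicit false
universe u v
open CategoryTheory

namespace Groth.Agent.Helper18

open ArtFun ArtFun.Art

variable {Λ : Type u} {k : Type u} [CommRing Λ] [Field k] [Algebra Λ k]

section Paste

variable {B B₀ A' A₀ A'' A : Art Λ k}

/-- horizontal composition of fibre-product squares -/
theorem fp_comp {p' : B ⟶ A'} {p'' : B ⟶ B₀} {f' : A' ⟶ A₀} {q' : B₀ ⟶ A₀} {q'' : B₀ ⟶ A''}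
    {g₀ : A₀ ⟶ A} {g : A'' ⟶ A} (h : IsFibreProd p' p'' f' q') (h₀ : IsFibreProd q' q'' g₀ g) :
    IsFibreProd p' (p'' ≫ q'') (f' ≫ g₀) g where
  w := by
    rw [← Category.assoc, h.w, Category.assoc, h₀.w, Category.assoc]
  inj := by
    intro b₁ b₂ e₁ e₂
    apply h.inj _ _ e₁
    apply h₀.inj
    · rw [← h.w_apply, ← h.w_apply, e₁]
    · exact e₂
  surj := by
    intro a' a'' e
    obtain ⟨b₀, hb₀1, hb₀2⟩ := h₀.surj (f' a') a'' e
    obtain ⟨b, hb1, hb2⟩ := h.surj a' b₀ hb₀1.symm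
    refine ⟨b, hb1, ?_⟩
    change q'' (p'' b) = a''
    rw [hb2, hb₀2]

end Paste

variable {F : Art Λ k ⥤ Type v}

/-- bijectivity of comparison maps is stable under base change -/
theorem pSurj_pInj_baseChange {B₀ A₀ A'' A : Art Λ k} {q' : B₀ ⟶ A₀} {q'' : B₀ ⟶ A''}
    {g₀ : A₀ ⟶ A} {g : A'' ⟶ A} (h₀ : IsFibreProd q' q'' g₀ g)
    (hS : PSurj F g) (hI : PInj F g) : PSurj F q' ∧ PInj F q' := by
  constructor
  · intro B A' p' p'' f' h
    have hb := fp_comp h h₀
    rintro ⟨⟨x', x₀⟩, hx⟩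
    dsimp only at hx
    have hx1 : F.map (f' ≫ g₀) x' = F.map g (F.map q'' x₀) := by
      rw [Functor.map_comp_apply, hx, ← Functor.map_comp_apply, h₀.w, Functor.map_comp_apply]
    obtain ⟨z, hz⟩ := hS _ _ _ hb ⟨(x', F.map q'' x₀), hx1⟩
    rw [cmp_eq_iff] at hz
    obtain ⟨hz1, hz2⟩ := hz
    dsimp only at hz1 hz2
    refine ⟨z, ?_⟩
    rw [cmp_eq_iff]
    refine ⟨hz1, ?_⟩
    dsimp only
    apply hI _ _ _ h₀
    apply FibProd.ext
    · change F.map q' (F.map p'' z) = F.map q' x₀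
      rw [← Functor.map_comp_apply, ← h.w, Functor.map_comp_apply, hz1, hx]
    · change F.map q'' (F.map p'' z) = F.map q'' x₀
      rw [← Functor.map_comp_apply, hz2]
  · intro B A' p' p'' f' h
    have hb := fp_comp h h₀
    intro z z' hzz
    have h1 : F.map p' z = F.map p' z' := congrArg (fun t => t.1.1) hzz
    have h2 : F.map p'' z = F.map p'' z' := congrArg (fun t => t.1.2) hzz
    apply hI _ _ _ hb
    apply FibProd.ext
    · exact h1
    · change F.map (p'' ≫ q'') z = F.map (p'' ≫ q'') z'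
      rw [Functor.map_comp_apply, Functor.map_comp_apply, h2]

theorem heps_pSurj_pInj (heps : Heps F) :
    PSurj F (toBase (dual Λ k)) ∧ PInj F (toBase (dual Λ k)) := by
  constructor
  · intro B A' p' p'' f' h
    obtain rfl : f' = toBase A' := eq_toBase f'
    exact (heps p' p'' h).2
  · intro B A' p' p'' f' h
    obtain rfl : f' = toBase A' := eq_toBase f'
    exact (heps p' p'' h).1

theorem toBase_kV_zero_bijective : Function.Bijective (toBase (kV Λ k 0)) := by
  constructor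
  · intro x y hxy
    refine TrivSqZeroExt.ext hxy ?_
    funext i
    exact i.elim0
  · exact toBase_surjective _

/-- under `(S2)` all comparison maps over `k ⊕ k^r → k` are bijective -/
theorem kV_pSurj_pInj (heps : Heps F) (r : ℕ) :
    PSurj F (toBase (kV Λ k r)) ∧ PInj F (toBase (kV Λ k r)) := by
  induction r with
  | zero =>
    have hiso : IsIso (toBase (kV Λ k 0)) := isIso_of_bijective _ toBase_kV_zero_bijective
    exact ⟨pSurj_of_isIso _ hiso, pInj_of_isIso _ hiso⟩
  | succ r ih =>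
    obtain ⟨hS, hI⟩ := heps_pSurj_pInj heps
    obtain ⟨hS', hI'⟩ := pSurj_pInj_baseChange (isFibreProd_kV_succ (Λ := Λ) (k := k) r) hS hI
    have hcomp : toBase (kV Λ k (r + 1)) = kVinit r ≫ toBase (kV Λ k r) :=
      (eq_toBase _).symm
    rw [hcomp]
    exact ⟨pSurj_comp _ _ (toBase_surjective _) hS' ih.1,
      pInj_comp _ _ (toBase_surjective _) hI' ih.2⟩

/-- transport along an isomorphism -/
theorem pSurj_pInj_of_iso {E E' : Art Λ k} (e : E ⟶ E') (he : IsIso e)
    (h : PSurj F (toBase E') ∧ PInj F (toBase E')) : PSurj F (toBase E) ∧ PInj F (toBase E) := by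
  have hcomp : toBase E = e ≫ toBase E' := (eq_toBase _).symm
  rw [hcomp]
  exact ⟨pSurj_comp _ _ (toBase_surjective _) (pSurj_of_isIso e he) h.1,
    pInj_comp _ _ (toBase_surjective _) (pInj_of_isIso e he) h.2⟩

end Groth.Agent.Helper18
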