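import Mathlib
import Groth.Agent.Lib.Helper18.ArtFunShift
import Groth.Agent.Lib.Helper18.ArtFunTorsor
import Groth.Agent.S12715

/-!
A functor with a family over a coefficient ring that is bijective on tangent spaces has a
finite-dimensional tangent space.
-/

set_option autoImplicit false
universe u v
open CategoryTheory

namespace Groth.Agent.Helper18

open ArtFun ArtFun.Art IsLocalRing

variable {Λ k : Type u} [CommRing Λ] [Field k] [Algebra Λ k]

/-- the residue algebra structure -/
noncomputable def cringAlgebra (R : CRing Λ k) : Algebra R.carrier k := R.res.toRingHom.toAlgebra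

attribute [local instance] cringAlgebra

theorem cringTower (R : CRing Λ k) : IsScalarTower Λ R.carrier k :=
  IsScalarTower.of_algebraMap_eq (fun l => (R.res.commutes l).symm)

attribute [local instance] cringTower

theorem cring_algebraMap (R : CRing Λ k) (a : R.carrier) : algebraMap R.carrier k a = R.res a := rfl

theorem cring_smul (R : CRing Λ k) (a : R.carrier) (c : k) : a • c = R.res a * c := rfl

variable (R : CRing Λ k)

theorem homSet_dual_fst (w : HomSet R.carrier R.res (dual Λ k)) (a : R.carrier) :
    TrivSqZeroExt.fst (R := k) (M := k) (w.1 a) = R.res a :=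
  AlgHom.congr_fun w.2 a

/-- the derivation attached to a map to the dual numbers -/
noncomputable def dualToDer (w : HomSet R.carrier R.res (dual Λ k)) : Derivation Λ R.carrier k where
  toFun a := TrivSqZeroExt.snd (R := k) (M := k) (w.1 a)
  map_add' a b := by
    have h : w.1 (a + b) = w.1 a + w.1 b := map_add w.1 a b
    rw [h]
    rfl
  map_smul' l a := by
    have h : w.1 (l • a) = l • w.1 a := map_smul w.1 l a
    rw [h]
    rfl
  map_one_eq_zero' := by
    change TrivSqZeroExt.snd (R := k) (M := k) (w.1 1) = 0
    have h : w.1 (1 : R.carrier) = 1 := map_one w.1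
    rw [h]
    rfl
  leibniz' a b := by
    change TrivSqZeroExt.snd (R := k) (M := k) (w.1 (a * b)) =
      a • TrivSqZeroExt.snd (R := k) (M := k) (w.1 b) + b • TrivSqZeroExt.snd (R := k) (M := k) (w.1 a)
    have h : w.1 (a * b) = w.1 a * w.1 b := map_mul w.1 a b
    rw [h, cring_smul, cring_smul, ← homSet_dual_fst R w a, ← homSet_dual_fst R w b]
    have h2 := TrivSqZeroExt.snd_mul (R := k) (M := k) (w.1 a : TrivSqZeroExt k k) (w.1 b)
    refine h2.trans ?_
    simp only [smul_eq_mul, MulOpposite.smul_eq_mul_unop, MulOpposite.unop_op]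
    ring

theorem dualToDer_apply (w : HomSet R.carrier R.res (dual Λ k)) (a : R.carrier) :
    dualToDer R w a = TrivSqZeroExt.snd (R := k) (M := k) (w.1 a) := rfl

theorem dualToDer_injective : Function.Injective (dualToDer (Λ := Λ) (k := k) R) := by
  intro w w' h
  apply Subtype.ext
  apply AlgHom.ext
  intro a
  refine TrivSqZeroExt.ext ?_ ?_
  · exact (homSet_dual_fst R w a).trans (homSet_dual_fst R w' a).symm
  · exact congrArg (fun D : Derivation Λ R.carrier k => D a) h

variable {R} {F : Art Λ k ⥤ Type v} [TangentStr F]

theorem tangent_add_eq (ξ : Family R.carrier R.res F) (w w' : HomSet R.carrier R.res (dual Λ k)) :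
    ∃ W : HomSet R.carrier R.res (dual2 Λ k), HomSet.map pr₁ W = w ∧ HomSet.map pr₂ W = w' ∧
      ∀ x x' : TangentSpace F, x = ξ.app _ w → x' = ξ.app _ w' →
        x + x' = ξ.app _ (HomSet.map plus W) := by
  obtain ⟨W, hW1, hW2⟩ := exists_homSet_lift_of_isFibreProd isFibreProd_dual2 w w'
    (homSet_base_eq _ _)
  refine ⟨W, hW1, hW2, ?_⟩
  intro x x' hx hx'
  have h := TangentStr.add_eq (ξ.app _ W)
  rw [← ξ.natural, ← ξ.natural, ← ξ.natural, hW1, hW2] at h
  rw [hx, hx']
  exact h

theorem tangent_smul_eq (ξ : Family R.carrier R.res F) (c : k) (w : HomSet R.carrier R.res (dual Λ k))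
    (x : TangentSpace F) (hx : x = ξ.app _ w) :
    c • x = ξ.app _ (HomSet.map (scale c) w) := by
  have h := TangentStr.smul_eq c (ξ.app _ w)
  rw [← ξ.natural] at h
  rw [hx]
  exact h

theorem hfin_of_tangent_bijective [IsNoetherianRing Λ] [Module.Finite Λ k]
    (ξ : Family R.carrier R.res F) (hbij : Function.Bijective (ξ.app (dual Λ k))) : Hfin F := by
  haveI : IsAdicComplete (maximalIdeal R.carrier) R.carrier := R.isAdicComplete
  haveI hfinD : Module.Finite k (Derivation Λ R.carrier k) :=
    Groth.Agent.S12715.result (Λ := Λ) (k := k) R.carrier R.res_surjective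
  let e : HomSet R.carrier R.res (dual Λ k) ≃ F.obj (dual Λ k) := Equiv.ofBijective _ hbij
  have he : ∀ w, e w = ξ.app _ w := fun w => rfl
  let Φ : TangentSpace F →ₗ[k] Derivation Λ R.carrier k :=
    { toFun := fun x => dualToDer R (e.symm x)
      map_add' := by
        intro x x'
        obtain ⟨W, hW1, hW2, hadd⟩ := tangent_add_eq ξ (e.symm x) (e.symm x')
        have hadd' := hadd x x' (e.apply_symm_apply x).symm (e.apply_symm_apply x').symm
        have h1 : e.symm (x + x') = HomSet.map plus W := by
          rw [Equiv.symm_apply_eq, he]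
          exact hadd'
        rw [h1]
        apply Derivation.ext
        intro a
        rw [Derivation.add_apply, dualToDer_apply, dualToDer_apply, dualToDer_apply, ← hW1, ← hW2]
        rfl
      map_smul' := by
        intro c x
        have hsm := tangent_smul_eq ξ c (e.symm x) x (e.apply_symm_apply x).symm
        have h1 : e.symm (c • x) = HomSet.map (scale c) (e.symm x) := by
          rw [Equiv.symm_apply_eq, he]
          exact hsm
        rw [h1]
        apply Derivation.ext
        intro a
        rw [RingHom.id_apply, Derivation.smul_apply, dualToDer_apply, dualToDer_apply]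
        rfl }
  have hΦ : Function.Injective Φ := by
    intro x x' h
    have h1 : e.symm x = e.symm x' := dualToDer_injective R h
    exact e.symm.injective h1
  exact Module.Finite.of_injective Φ hΦ

end Groth.Agent.Helper18
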