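import Mathlib
import Groth.Agent.Lib.Helper18.Schl.CutDown
import Groth.Agent.Lib.Helper18.Schl.TangentFin
import Groth.Agent.Lib.Helper18.NoethSurjEnd
import Groth.Agent.Lib.Helper18.ArtFunMinimal

/-!
Minimal versal families are miniversal when `k` has no `Λ`-derivations.
-/

set_option autoImplicit false
universe u v
open CategoryTheory

namespace Groth.Agent.Helper18

open ArtFun ArtFun.Art IsLocalRing

variable {Λ k : Type u} [CommRing Λ] [Field k] [Algebra Λ k]

attribute [local instance] cringAlgebra cringTower

section Descend

variable (R : CRing Λ k) (D : Derivation Λ R.carrier k)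
  (hD : ∀ a ∈ maximalIdeal R.carrier, D a = 0)

include hD in
theorem der_eq_of_res_eq (a a' : R.carrier) (h : R.res a = R.res a') : D a = D a' := by
  have h1 : a - a' ∈ maximalIdeal R.carrier := by
    rw [CRing.mem_maximalIdeal_iff, map_sub, h, sub_self]
  have h2 := hD _ h1
  rw [map_sub, sub_eq_zero] at h2
  exact h2

/-- a set-theoretic section of the augmentation -/
noncomputable def sinv (c : k) : R.carrier := Function.surjInv R.res_surjective c

theorem res_sinv (c : k) : R.res (sinv R c) = c := Function.surjInv_eq R.res_surjective c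

/-- a derivation vanishing on the maximal ideal descends to the residue field -/
noncomputable def derDescend : Derivation Λ k k where
  toFun c := D (sinv R c)
  map_add' c c' := by
    rw [← map_add]
    apply der_eq_of_res_eq R D hD
    rw [map_add, res_sinv, res_sinv, res_sinv]
  map_smul' l c := by
    rw [RingHom.id_apply, ← D.map_smul]
    apply der_eq_of_res_eq R D hD
    rw [map_smul, res_sinv, res_sinv]
  map_one_eq_zero' := by
    change D (sinv R 1) = 0
    rw [der_eq_of_res_eq R D hD _ 1 (by rw [res_sinv, map_one])]
    exact D.map_one_eq_zero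
  leibniz' c c' := by
    change D (sinv R (c * c')) = c • D (sinv R c') + c' • D (sinv R c)
    rw [der_eq_of_res_eq R D hD _ (sinv R c * sinv R c')
      (by rw [map_mul, res_sinv, res_sinv, res_sinv])]
    rw [D.leibniz, cring_smul, cring_smul, res_sinv, res_sinv]
    rfl

theorem derDescend_res (a : R.carrier) : derDescend R D hD (R.res a) = D a := by
  change D (sinv R (R.res a)) = D a
  apply der_eq_of_res_eq R D hD
  rw [res_sinv]

end Descend

/-- if `k` has no `Λ`-derivations, two different tangent vectors differ on the maximal ideal -/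
theorem exists_mem_dsnd_ne (hk : Subsingleton (Derivation Λ k k)) (R : CRing Λ k)
    (w w' : HomSet R.carrier R.res (dual Λ k)) (hne : w ≠ w') :
    ∃ r ∈ maximalIdeal R.carrier, dsnd (w.1 r) ≠ dsnd (w'.1 r) := by
  by_contra h
  push Not at h
  apply hne
  apply dualToDer_injective R
  set D : Derivation Λ R.carrier k := dualToDer R w - dualToDer R w' with hDdef
  have hD : ∀ a ∈ maximalIdeal R.carrier, D a = 0 := by
    intro a ha
    rw [hDdef, Derivation.sub_apply, dualToDer_apply, dualToDer_apply, sub_eq_zero]
    exact h a ha
  have h0 : derDescend R D hD = 0 := Subsingleton.elim _ _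
  have hDz : D = 0 := by
    apply Derivation.ext
    intro a
    rw [← derDescend_res R D hD a, h0]
    rfl
  rw [hDdef, sub_eq_zero] at hDz
  exact hDz

variable {F : Art Λ k ⥤ Type v}

/-- a minimal versal family is bijective on tangent spaces when `k` has no `Λ`-derivations -/
theorem isMiniversal_of_isMinimalVersal (hk : Subsingleton (Derivation Λ k k))
    (h0 : H0 F) (heps : Heps F) {R : CRing Λ k} (ξ : Family R.carrier R.res F)
    (hξ : ξ.IsMinimalVersal) : IsMiniversal ξ := by
  refine ⟨hξ.1, ?_, surjective_app_of_isVersal h0 ξ hξ.1 _⟩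
  intro w w' hww
  by_contra hne
  obtain ⟨r, hr, hrne⟩ := exists_mem_dsnd_ne hk R w w' hne
  have hcut := isVersal_cutDown heps R ξ hξ.1 w w' hww r hr hrne
  obtain ⟨φ, hφ, hφξ⟩ := exists_along_eq_of_isVersal' h0 _ hcut ξ
  have hsurj : Function.Surjective φ := by
    refine hξ.2 _ (ξ.along (quotCRingMk R (Ideal.span {r}) (span_singleton_le_maximalIdeal hr))
      (quotCRingMk_res R _ _)).toFormalElt φ hφ ?_
    rw [push_toFormalElt, hφξ]
  have hsurj2 : Function.Surjective
      ((φ.comp (quotCRingMk R (Ideal.span {r}) (span_singleton_le_maximalIdeal hr)) :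
        R.carrier →ₐ[Λ] R.carrier) : R.carrier →+* R.carrier) :=
    hsurj.comp (quotCRingMk_surjective R _ _)
  have hinj := injective_of_surjective_ringEnd _ hsurj2
  have hr0 : r = 0 := by
    apply hinj
    change φ (quotCRingMk R (Ideal.span {r}) (span_singleton_le_maximalIdeal hr) r) =
      φ (quotCRingMk R (Ideal.span {r}) (span_singleton_le_maximalIdeal hr) 0)
    rw [(quotCRingMk_eq_zero_iff R (Ideal.span {r}) (span_singleton_le_maximalIdeal hr) r).2
      (Ideal.subset_span (Set.mem_singleton r)), map_zero, map_zero, map_zero]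
  apply hrne
  rw [hr0, map_zero, map_zero]

end Groth.Agent.Helper18
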