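import Mathlib
import Groth.Agent.Lib.Helper18.Schl.CutDown2
import Groth.Agent.Lib.Helper18.Schl.MinimalVersal
import Groth.Agent.Lib.Helper18.Schl.VersalGeneral

/-!
Existence of a hull over a general base when `k` has no `Λ`-derivations: cut down a versal family.
-/

set_option autoImplicit false
universe u v
open CategoryTheory

namespace Groth.Agent.Helper18

open ArtFun ArtFun.Art IsLocalRing

variable {Λ k : Type u} [CommRing Λ] [Field k] [Algebra Λ k]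
variable {F : Art Λ k ⥤ Type v}

theorem res_eq_zero_of_le (R : CRing Λ k) {J : Ideal R.carrier} (hJ : J ≤ maximalIdeal R.carrier) :
    ∀ a ∈ J, R.res a = 0 := fun a ha => (CRing.mem_maximalIdeal_iff R a).1 (hJ ha)

/-- a versal family can be cut down to a miniversal one when `k` has no `Λ`-derivations -/
theorem exists_hull_of_versal (hk : Subsingleton (Derivation Λ k k)) (h0 : H0 F) (heps : Heps F)
    (R : CRing Λ k) (ξ : Family R.carrier R.res F) (hξ : IsVersal ξ) :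
    ∃ (R' : CRing Λ k) (ξ' : Family R'.carrier R'.res F), IsMiniversal ξ' := by
  let 𝒥 : Set (Ideal R.carrier) := {J | ∃ hJ : J ≤ maximalIdeal R.carrier,
    IsVersal (restrictFam ξ J (res_eq_zero_of_le R hJ))}
  have hbot : (⊥ : Ideal R.carrier) ∈ 𝒥 := by
    refine ⟨bot_le, ?_⟩
    rw [isVersal_restrictFam_iff]
    intro B A μ hμ φ _ y hy
    obtain ⟨ψ, hψ1, hψ2⟩ := hξ μ hμ φ y hy
    refine ⟨ψ, ?_, hψ1, hψ2⟩
    intro a ha
    rw [Ideal.mem_bot] at ha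
    rw [ha, map_zero]
  obtain ⟨J₀, hJ₀mem, hJ₀max⟩ := set_has_maximal_iff_noetherian.2
    (inferInstance : IsNoetherian R.carrier R.carrier) 𝒥 ⟨⊥, hbot⟩
  obtain ⟨hJ₀, hvers⟩ := hJ₀mem
  let R₀ : CRing Λ k := quotCRing R J₀ hJ₀
  let ξ₀ : Family R₀.carrier R₀.res F := restrictFam ξ J₀ (res_eq_zero_of_le R hJ₀)
  have hvers₀ : IsVersal ξ₀ := hvers
  refine ⟨R₀, ξ₀, hvers₀, ?_, surjective_app_of_isVersal h0 ξ₀ hvers₀ _⟩
  intro w₀ w₀' hww
  by_contra hne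
  obtain ⟨r₀, hr₀, hrne⟩ := exists_mem_dsnd_ne hk R₀ w₀ w₀' hne
  obtain ⟨r, rfl⟩ := quotCRingMk_surjective R J₀ hJ₀ r₀
  have hr : r ∈ maximalIdeal R.carrier := by
    rw [CRing.mem_maximalIdeal_iff] at hr₀ ⊢
    exact hr₀
  have hJ₁ : J₀ ⊔ Ideal.span {r} ≤ maximalIdeal R.carrier :=
    sup_le hJ₀ (span_singleton_le_maximalIdeal hr)
  have hcut := isVersal_cutDown' heps ξ J₀ (res_eq_zero_of_le R hJ₀) hvers
    (homPull J₀ (res_eq_zero_of_le R hJ₀) w₀) (homPull J₀ (res_eq_zero_of_le R hJ₀) w₀')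
    (homPull_kills J₀ _ w₀) (homPull_kills J₀ _ w₀') hww r hrne (res_eq_zero_of_le R hJ₁)
  have hmem : J₀ ⊔ Ideal.span {r} ∈ 𝒥 := ⟨hJ₁, hcut⟩
  apply hJ₀max _ hmem
  refine lt_of_le_of_ne le_sup_left ?_
  intro heq
  have hrJ₀ : r ∈ J₀ := by
    rw [heq]
    exact Ideal.mem_sup_right (Ideal.subset_span (Set.mem_singleton r))
  apply hrne
  have h1 : quotCRingMk R J₀ hJ₀ r = 0 := (quotCRingMk_eq_zero_iff R J₀ hJ₀ r).2 hrJ₀
  rw [h1, map_zero, map_zero]

/-- existence of a hull over a general base when `k` has no `Λ`-derivations -/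
theorem hasHull_general [IsNoetherianRing Λ] [Module.Finite Λ k]
    (hk : Subsingleton (Derivation Λ k k)) (F : Art Λ k ⥤ Type v) [TangentStr F]
    (h0 : H0 F) (h1 : S1 F) (h2 : Heps F) (h3 : Hfin F) : HasHull F := by
  obtain ⟨⟨R, ξ, hξ⟩⟩ := hasVersal_general F h0 h1 h2 h3
  obtain ⟨R', ξ', h⟩ := exists_hull_of_versal hk h0 h2 R ξ hξ
  exact ⟨⟨R', ξ', h⟩⟩

end Groth.Agent.Helper18
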