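import Groth.Agent.Lib.Helper18.ArtFunBasic
import Groth.Agent.Lib.Helper18.ArtFunTorsor
import Groth.Agent.Lib.Helper18.Schl.TangentFin

/-!
Properties of functors admitting a hull.
-/

set_option autoImplicit false
universe u v
open CategoryTheory

namespace Groth.Agent.Helper18

open ArtFun ArtFun.Art IsLocalRing

variable {Λ k : Type u} [CommRing Λ] [Field k] [Algebra Λ k]
variable {F : Art Λ k ⥤ Type v}
variable {R : Type u} [CommRing R] [Algebra Λ R] {resR : R →ₐ[Λ] k}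

theorem heps_of_miniversal (ξ : Family R resR F) (hξ : IsMiniversal ξ)
    (hsurj : ∀ A : Art Λ k, Function.Surjective (ξ.app A)) : Heps F := by
  intro B A' p' p'' h
  refine ⟨?_, cmp_surjective_of_isVersal ξ hξ.1 hsurj h (toBase_surjective _)⟩
  intro z₁ z₂ hz
  have hz1 : F.map p' z₁ = F.map p' z₂ := congrArg (fun t => t.1.1) hz
  have hz2 : F.map p'' z₁ = F.map p'' z₂ := congrArg (fun t => t.1.2) hz
  obtain ⟨ψ₁, hψ₁⟩ := hsurj B z₁
  have hp' : Function.Surjective p' :=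
    surjective_fst_of_isFibreProd h (toBase_surjective _)
  have h1 : F.map p' z₂ = ξ.app A' (HomSet.map p' ψ₁) := by
    rw [ξ.natural, hψ₁, hz1]
  obtain ⟨ψ₂, hψ₂a, hψ₂b⟩ := hξ.1 p' hp' (HomSet.map p' ψ₁) z₂ h1
  have h2 : HomSet.map p'' ψ₁ = HomSet.map p'' ψ₂ := by
    apply hξ.2.1
    rw [ξ.natural, ξ.natural, hψ₁, hψ₂b, hz2]
  have : ψ₁ = ψ₂ := homSet_ext_of_isFibreProd h ψ₁ ψ₂ hψ₂a.symm h2
  rw [← hψ₁, ← hψ₂b, this]

theorem s1_of_versal (h0 : H0 F) (ξ : Family R resR F) (hξ : IsVersal ξ) : S1 F :=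
  fun _ _ _ _ _ _ _ _ hsq hf =>
    cmp_surjective_of_isVersal ξ hξ (fun A => surjective_app_of_isVersal h0 ξ hξ A) hsq hf

theorem s1_heps_hfin_of_hasHull [IsNoetherianRing Λ] [Module.Finite Λ k] [TangentStr F]
    (h0 : H0 F) (h : HasHull F) : S1 F ∧ Heps F ∧ Hfin F := by
  obtain ⟨H⟩ := h
  exact ⟨s1_of_versal h0 H.family H.miniversal.1,
    heps_of_miniversal H.family H.miniversal
      (fun A => surjective_app_of_isVersal h0 H.family H.miniversal.1 A),
    hfin_of_tangent_bijective H.family H.miniversal.2⟩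

end Groth.Agent.Helper18
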