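import Groth.Agent.Lib.Helper18.Schl.RelCot3
import Groth.Agent.Lib.Helper18.ArtFunDer

/-!
Essential surjections of Artinian local algebras in terms of `k`-valued derivations.
-/

set_option autoImplicit false
universe u v
open CategoryTheory

namespace Groth.Agent.Helper18

open ArtFun ArtFun.Art IsLocalRing

variable {Λ : Type u} {k : Type u} [CommRing Λ] [Field k] [Algebra Λ k]

/-- `k` as an algebra over an object of `Art` -/
@[reducible] def artAlg (A : Art Λ k) : Algebra A k := A.res.toRingHom.toAlgebra

attribute [local instance] artAlg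

theorem artTower (A : Art Λ k) : IsScalarTower Λ A k :=
  IsScalarTower.of_algebraMap_eq (fun l => (A.res.commutes l).symm)

attribute [local instance] artTower

theorem art_algebraMap (A : Art Λ k) (a : A) : algebraMap A k a = A.res a := rfl

theorem art_smul (A : Art Λ k) (a : A) (c : k) : a • c = A.res a * c := rfl

variable {A B : Art Λ k} (f : B ⟶ A)

/-- a morphism is surjective as soon as `k`-valued derivations are determined by their restriction -/
theorem art_surjective_of_der_ext
    (h : ∀ D₁ D₂ : Derivation Λ A k, (∀ b, D₁ (f b) = D₂ (f b)) → D₁ = D₂) :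
    Function.Surjective f := by
  haveI : IsPrecomplete (maximalIdeal B) B := isPrecomplete_of_isArtinianRing B
  exact surjective_of_derivation_ext (Λ := Λ) (k := k) A.res_surjective B.res B.res_surjective
    f.toAlgHom (AlgHom.ext fun b => Art.res_app f b) h

theorem der_ext_of_surjective (hf : Function.Surjective f)
    (D₁ D₂ : Derivation Λ A k) (h : ∀ b, D₁ (f b) = D₂ (f b)) : D₁ = D₂ := by
  apply Derivation.ext
  intro a
  obtain ⟨b, rfl⟩ := hf a
  exact h b

/-- a derivation vanishing on the kernel of a surjection descends -/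
theorem exists_der_descend (hf : Function.Surjective f) (D' : Derivation Λ B k)
    (h : ∀ x, f x = 0 → D' x = 0) : ∃ D : Derivation Λ A k, ∀ b, D (f b) = D' b := by
  have heq : ∀ x y, f x = f y → D' x = D' y := by
    intro x y hxy
    have h1 := h (x - y) (by
      change f.toAlgHom (x - y) = 0
      rw [map_sub]
      exact sub_eq_zero.2 hxy)
    rw [map_sub, sub_eq_zero] at h1
    exact h1
  let s : A → B := Function.surjInv hf
  have hs : ∀ a, f (s a) = a := Function.surjInv_eq hf
  let D₀ : A →ₗ[Λ] k :=
    { toFun := fun a => D' (s a)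
      map_add' := fun a a' => by
        rw [← map_add]
        apply heq
        change f (s (a + a')) = f.toAlgHom (s a + s a')
        rw [map_add]
        change _ = f (s a) + f (s a')
        rw [hs, hs, hs]
      map_smul' := fun l a => by
        rw [RingHom.id_apply, ← D'.map_smul]
        apply heq
        change f (s (l • a)) = f.toAlgHom (l • s a)
        rw [map_smul]
        change _ = l • f (s a)
        rw [hs, hs] }
  have hD₀ : ∀ b, D₀ (f b) = D' b := fun b => heq _ _ (hs (f b))
  refine ⟨Derivation.mk' D₀ ?_, hD₀⟩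
  intro a a'
  obtain ⟨b, rfl⟩ := hf a
  obtain ⟨b', rfl⟩ := hf a'
  have h1 : f b * f b' = f (b * b') := (map_mul f.toAlgHom b b').symm
  rw [h1, hD₀, hD₀, hD₀, D'.leibniz, art_smul, art_smul, art_smul, art_smul, Art.res_app,
    Art.res_app]

/-- essential surjections in terms of derivations -/
theorem essential_iff_der :
    (Function.Surjective f ∧ ∀ (C : Art Λ k) (g : C ⟶ B), Function.Surjective (g ≫ f) →
        Function.Surjective g) ↔
      ((∀ D₁ D₂ : Derivation Λ A k, (∀ b, D₁ (f b) = D₂ (f b)) → D₁ = D₂) ∧
        ∀ D' : Derivation Λ B k, ∃ D : Derivation Λ A k, ∀ b, D (f b) = D' b) := by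
  constructor
  · rintro ⟨hf, hess⟩
    refine ⟨der_ext_of_surjective f hf, fun D' => ?_⟩
    apply exists_der_descend f hf D'
    intro j hj
    by_contra hne
    have hjres : B.res j = 0 := by
      rw [← Art.res_app f, hj, map_zero]
    -- the map to the dual numbers
    let φ : B ⟶ dual Λ k := ⟨derToDual D', AlgHom.ext fun _ => rfl⟩
    have hφ1 : ∀ x, dfst (φ x) = B.res x := fun x => rfl
    have hφ2 : ∀ x, dsnd (φ x) = D' x := fun x => rfl
    have hD'mul : ∀ β : B, D' (β * j) = B.res β * D' j := by
      intro β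
      rw [D'.leibniz, art_smul, art_smul, hjres, zero_mul, add_zero]
    have hφsurj : Function.Surjective φ := by
      intro y
      obtain ⟨x₀, hx₀⟩ := B.res_surjective (dfst y)
      obtain ⟨β, hβ⟩ := B.res_surjective ((dsnd y - D' x₀) / D' j)
      refine ⟨x₀ + β * j, ?_⟩
      apply dual_ext
      · rw [hφ1, map_add, map_mul, hjres, mul_zero, add_zero, hx₀]
      · rw [hφ2, map_add, hD'mul, hβ, div_mul_cancel₀ _ hne]
        ring
    -- the subalgebra where `D'` vanishes
    let C : Art Λ k := fibreProd (baseToDual : base Λ k ⟶ dual Λ k) φ hφsurj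
    let p₂ : C ⟶ B := fibreProd.snd (baseToDual : base Λ k ⟶ dual Λ k) φ hφsurj
    have hfp := isFibreProd_fibreProd (baseToDual : base Λ k ⟶ dual Λ k) φ hφsurj
    have hmem : ∀ x : B, D' x = 0 → ∃ z : C, p₂ z = x := by
      intro x hx
      obtain ⟨z, -, hz⟩ := hfp.surj (B.res x) x (by
        apply dual_ext
        · rfl
        · rw [dsnd_baseToDual, hφ2, hx])
      exact ⟨z, hz⟩
    have hsurj : Function.Surjective (p₂ ≫ f) := by
      intro a
      obtain ⟨x, rfl⟩ := hf a
      obtain ⟨β, hβ⟩ := B.res_surjective (D' x / D' j)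
      obtain ⟨z, hz⟩ := hmem (x - β * j) (by
        rw [map_sub, hD'mul, hβ, div_mul_cancel₀ _ hne, sub_self])
      refine ⟨z, ?_⟩
      change f (p₂ z) = f x
      rw [hz]
      change f.toAlgHom (x - β * j) = f x
      rw [map_sub, map_mul]
      change f x - f β * f j = f x
      rw [hj, mul_zero, sub_zero]
    obtain ⟨z, hz⟩ := hess C p₂ hsurj j
    apply hne
    have h1 := hfp.w_apply z
    have h2 : φ (p₂ z) = φ j := by rw [hz]
    rw [← hφ2, ← h2]
    change dsnd (φ ((fibreProd.snd (baseToDual : base Λ k ⟶ dual Λ k) φ hφsurj) z)) = 0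
    rw [← h1, dsnd_baseToDual]
  · rintro ⟨hinj, hsurj⟩
    have hf : Function.Surjective f := art_surjective_of_der_ext f hinj
    refine ⟨hf, fun C g hgf => ?_⟩
    apply art_surjective_of_der_ext g
    intro D₁ D₂ h
    obtain ⟨E₁, hE₁⟩ := hsurj D₁
    obtain ⟨E₂, hE₂⟩ := hsurj D₂
    have hE : E₁ = E₂ := by
      apply der_ext_of_surjective (g ≫ f) hgf
      intro c
      change E₁ (f (g c)) = E₂ (f (g c))
      rw [hE₁, hE₂, h]
    apply Derivation.ext
    intro b
    rw [← hE₁, ← hE₂, hE]

end Groth.Agent.Helper18
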