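import Mathlib

/-!
Generators of the maximal ideal of a Noetherian local ring; surjections of local rings which do not
decrease the embedding dimension have kernel inside the square of the maximal ideal.
(The first lemma is the lead's `Groth.Agent.Lead.RLR.exists_generators_of_notMem_sq`, copied so that this file
only depends on Mathlib.)
-/

set_option autoImplicit false
universe u

namespace Groth.Agent.Helper18

open IsLocalRing Ideal

variable {R : Type u} [CommRing R]

theorem ncard_range_le' {α : Type*} {n : ℕ} (f : Fin n → α) : (Set.range f).ncard ≤ n := by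
  classical
  rw [← Set.image_univ]
  calc (f '' Set.univ).ncard ≤ (Set.univ : Set (Fin n)).ncard :=
        Set.ncard_image_le (Set.finite_univ)
    _ = n := by rw [Set.ncard_univ, Nat.card_fin]

theorem exists_generators_of_notMem_sq' [IsLocalRing R] [IsNoetherianRing R] {x : R}
    (hx : x ∈ maximalIdeal R) (hx2 : x ∉ maximalIdeal R ^ 2) :
    ∃ (n : ℕ) (y : Fin n → R), (maximalIdeal R).spanFinrank = n + 1 ∧
      Ideal.span (insert x (Set.range y)) = maximalIdeal R := by
  classical
  let k := ResidueField R
  let V := CotangentSpace R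
  let v : V := (maximalIdeal R).toCotangent ⟨x, hx⟩
  have hv : v ≠ 0 := by
    intro h0
    exact hx2 (((maximalIdeal R).toCotangent_eq_zero ⟨x, hx⟩).mp h0)
  let L : Submodule k V := Submodule.span k {v}
  have hL : Module.finrank k L = 1 := finrank_span_singleton hv
  have hQ : Module.finrank k (V ⧸ L) + 1 = Module.finrank k V := by
    have := Submodule.finrank_quotient_add_finrank L
    omega
  let b := Module.finBasis k (V ⧸ L)
  have hsurj : ∀ i, ∃ z : maximalIdeal R, L.mkQ ((maximalIdeal R).toCotangent z) = b i := by
    intro i
    obtain ⟨w, hw⟩ := L.mkQ_surjective (b i)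
    obtain ⟨z, hz⟩ := (maximalIdeal R).toCotangent_surjective w
    exact ⟨z, by rw [hz, hw]⟩
  choose z hz using hsurj
  refine ⟨Module.finrank k (V ⧸ L), fun i => (z i : R), ?_, ?_⟩
  · rw [spanFinrank_maximalIdeal_eq_finrank_cotangentSpace]; exact hQ.symm
  · let S : Set (maximalIdeal R) := insert ⟨x, hx⟩ (Set.range z)
    have hW : Submodule.span k ((maximalIdeal R).toCotangent '' S) = ⊤ := by
      rw [eq_top_iff]
      intro u _
      set W := Submodule.span k ((maximalIdeal R).toCotangent '' S) with hWdef
      have hvW : v ∈ W := Submodule.subset_span ⟨⟨x, hx⟩, Set.mem_insert _ _, rfl⟩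
      have hLW : L ≤ W := (Submodule.span_singleton_le_iff_mem _ _).mpr hvW
      have hmap : W.map L.mkQ = ⊤ := by
        rw [eq_top_iff, ← b.span_eq, Submodule.span_le]
        rintro _ ⟨i, rfl⟩
        exact ⟨(maximalIdeal R).toCotangent (z i),
          Submodule.subset_span ⟨z i, Set.mem_insert_of_mem _ ⟨i, rfl⟩, rfl⟩, hz i⟩
      have hu : L.mkQ u ∈ W.map L.mkQ := hmap ▸ Submodule.mem_top
      obtain ⟨w, hwW, hwu⟩ := hu
      have hsub : u - w ∈ L := by
        rw [← Submodule.Quotient.mk_eq_zero, Submodule.Quotient.mk_sub, sub_eq_zero]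
        exact hwu.symm
      have := W.add_mem (hLW hsub) hwW
      rwa [sub_add_cancel] at this
    have hS := CotangentSpace.span_image_eq_top_iff.mp hW
    have h3 := congrArg (Submodule.map (maximalIdeal R).subtype) hS
    rw [Submodule.map_span, Submodule.map_top, Submodule.range_subtype] at h3
    refine Eq.trans ?_ h3
    congr 1
    simp only [S, Set.image_insert_eq, Submodule.subtype_apply, ← Set.range_comp]
    rfl

/-- a surjection of Noetherian local rings which does not decrease the number of generators of the
maximal ideal has kernel inside the square of the maximal ideal -/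
theorem ker_le_sq_of_spanFinrank_le {B A : Type u} [CommRing B] [CommRing A] [IsLocalRing B]
    [IsLocalRing A] [IsNoetherianRing B] (φ : B →+* A) (hφ : Function.Surjective φ)
    (h : (maximalIdeal B).spanFinrank ≤ (maximalIdeal A).spanFinrank) :
    RingHom.ker φ ≤ maximalIdeal B ^ 2 := by
  intro x hx
  by_contra hx2
  have hxm : x ∈ maximalIdeal B := by
    rw [mem_maximalIdeal, mem_nonunits_iff]
    intro hu
    have h1 : IsUnit (φ x) := hu.map φ
    rw [RingHom.mem_ker] at hx
    rw [hx] at h1
    exact not_isUnit_zero h1
  obtain ⟨n, y, hn, hspan⟩ := exists_generators_of_notMem_sq' hxm hx2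
  have h1 : maximalIdeal A = Ideal.span (Set.range (φ ∘ y)) := by
    rw [← map_maximalIdeal_of_surjective φ hφ, ← hspan, Ideal.map_span, Set.image_insert_eq,
      Set.range_comp]
    rw [RingHom.mem_ker] at hx
    rw [hx]
    exact Submodule.span_insert_zero
  have h2 : (maximalIdeal A).spanFinrank ≤ n := by
    rw [h1]
    exact (Submodule.spanFinrank_span_le_ncard_of_finite (Set.finite_range _)).trans
      (ncard_range_le' _)
  omega

/-- generators of the maximal ideal, indexed by `Fin` of the minimal number -/
theorem exists_fin_generators [IsLocalRing R] [IsNoetherianRing R] :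
    ∃ y : Fin (maximalIdeal R).spanFinrank → R, Ideal.span (Set.range y) = maximalIdeal R := by
  classical
  obtain ⟨s, hs1, hs2⟩ := Submodule.FG.exists_span_finset_card_eq_spanFinrank
    (IsNoetherian.noetherian (maximalIdeal R))
  let e : Fin (maximalIdeal R).spanFinrank ≃ s := (Finset.equivFinOfCardEq hs1).symm
  refine ⟨fun i => (e i : R), ?_⟩
  have : Set.range (fun i => (e i : R)) = (s : Set R) := by
    ext r
    constructor
    · rintro ⟨i, rfl⟩
      exact (e i).2
    · intro hr
      exact ⟨e.symm ⟨r, hr⟩, by simp⟩
  rw [this]
  exact hs2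

end Groth.Agent.Helper18
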