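import Groth.Agent.Lib.Helper18.Schl.Kaehler1
import Groth.Agent.Lib.Helper18.Schl.ProLimit1

/-!
`k`-valued derivations of Artinian local algebras and Kähler differentials.
-/

set_option autoImplicit false
universe u v
open CategoryTheory
open scoped TensorProduct

namespace Groth.Agent.Helper18

open ArtFun ArtFun.Art IsLocalRing

variable {Λ : Type u} {k : Type u} [CommRing Λ] [Field k] [Algebra Λ k]

attribute [local instance] artAlg artTower

/-- derivations are dual to the fibre of the module of differentials -/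
noncomputable def derEquivDual (A : Art Λ k) :
    Derivation Λ A k ≃ₗ[k] Module.Dual k (k ⊗[A] Ω[A⁄Λ]) :=
  ((KaehlerDifferential.linearMapEquivDerivation Λ A).symm.extendScalarsOfSurjective
    A.res_surjective).trans (LinearMap.liftBaseChangeEquiv k)

/-- a derivation vanishing on generators of the maximal ideal vanishes on the maximal ideal -/
theorem der_eq_zero_of_generators (A : Art Λ k) (D : Derivation Λ A k) {r : ℕ} (y : Fin r → A)
    (hy : Ideal.span (Set.range y) = maximalIdeal A) (hD : ∀ j, D (y j) = 0) :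
    ∀ a ∈ maximalIdeal A, D a = 0 := by
  intro a ha
  rw [← hy] at ha
  have key : a ∈ maximalIdeal A ∧ D a = 0 := by
    refine Submodule.span_induction (p := fun a _ => a ∈ maximalIdeal A ∧ D a = 0)
      ?_ ?_ ?_ ?_ ha
    · rintro _ ⟨j, rfl⟩
      refine ⟨?_, hD j⟩
      rw [← hy]
      exact Ideal.subset_span ⟨j, rfl⟩
    · exact ⟨zero_mem _, map_zero D⟩
    · rintro x x' _ _ ⟨hx, hDx⟩ ⟨hx', hDx'⟩
      exact ⟨add_mem hx hx', by rw [map_add, hDx, hDx', add_zero]⟩
    · rintro c x _ ⟨hx, hDx⟩
      refine ⟨Ideal.mul_mem_left _ c hx, ?_⟩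
      rw [smul_eq_mul, D.leibniz, hDx, smul_zero, zero_add, art_smul,
        (Art.mem_maximalIdeal_iff A x).1 hx, zero_mul]
  exact key.2

theorem der_finite [Module.Finite Λ k] (A : Art Λ k) : Module.Finite k (Derivation Λ A k) := by
  classical
  obtain ⟨r, y, hy⟩ : ∃ (r : ℕ) (y : Fin r → A), Ideal.span (Set.range y) = maximalIdeal A :=
    ⟨_, exists_fin_generators (R := A)⟩
  obtain ⟨s, hs⟩ : ∃ s : Finset k, Algebra.adjoin Λ (s : Set k) = ⊤ :=
    (inferInstance : Algebra.FiniteType Λ k).out
  choose t ht using fun i : s => A.res_surjective (i : k)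
  let Φ : Derivation Λ A k →ₗ[k] ((Fin r → k) × (s → k)) :=
    { toFun := fun D => (fun j => D (y j), fun i => D (t i))
      map_add' := fun D D' => rfl
      map_smul' := fun c D => rfl }
  have hΦ : Function.Injective Φ := by
    rw [← LinearMap.ker_eq_bot, LinearMap.ker_eq_bot']
    intro D hD
    have h1 : ∀ j, D (y j) = 0 := fun j => congrFun (congrArg Prod.fst hD) j
    have h2 : ∀ i, D (t i) = 0 := fun i => congrFun (congrArg Prod.snd hD) i
    have hm := der_eq_zero_of_generators A D y hy h1
    obtain ⟨Dbar, hDbar⟩ := exists_der_descend (toBase A) (toBase_surjective A) D (by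
      intro x hx
      apply hm
      rw [Art.mem_maximalIdeal_iff]
      exact hx)
    have hDbar0 : ∀ c : k, Dbar c = 0 := by
      intro c
      have hc : c ∈ Algebra.adjoin Λ (s : Set k) := by
        rw [hs]
        exact Algebra.mem_top
      refine Algebra.adjoin_induction (p := fun c _ => Dbar c = 0) ?_ ?_ ?_ ?_ hc
      · intro c hc
        have h4 := hDbar (t ⟨c, hc⟩)
        have h5 : (toBase A) (t ⟨c, hc⟩) = c := ht ⟨c, hc⟩
        rw [h5, h2] at h4
        exact h4
      · intro l
        exact Dbar.map_algebraMap l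
      · intro x x' _ _ hx hx'
        refine (Dbar.map_add x x').trans ?_
        rw [hx, hx', add_zero]
      · intro x x' _ _ hx hx'
        refine (Dbar.leibniz x x').trans ?_
        rw [hx, hx', smul_zero, smul_zero, add_zero]
    apply Derivation.ext
    intro a
    rw [← hDbar a]
    exact hDbar0 _
  exact Module.Finite.of_injective Φ hΦ

theorem finite_tensor_kaehler [Module.Finite Λ k] (A : Art Λ k) :
    Module.Finite k (k ⊗[A] Ω[A⁄Λ]) := by
  haveI := der_finite (Λ := Λ) A
  haveI : Module.Finite k (Module.Dual k (k ⊗[A] Ω[A⁄Λ])) :=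
    Module.Finite.equiv (derEquivDual A)
  exact (Module.finite_dual_iff k).1 inferInstance

theorem finrank_der [Module.Finite Λ k] (A : Art Λ k) :
    Module.finrank k (Derivation Λ A k) = Module.finrank k (k ⊗[A] Ω[A⁄Λ]) := by
  rw [LinearEquiv.finrank_eq (derEquivDual A), Subspace.dual_finrank_eq]

end Groth.Agent.Helper18
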