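import Groth.Agent.Lib.Helper18.Schl.Kaehler2

/-!
Essential surjections of Artinian local algebras in terms of Kähler differentials.
-/

set_option autoImplicit false
universe u v
open CategoryTheory
open scoped TensorProduct

namespace Groth.Agent.Helper18

open ArtFun ArtFun.Art IsLocalRing

variable {Λ : Type u} {k : Type u} [CommRing Λ] [Field k] [Algebra Λ k]

attribute [local instance] artAlg artTower

variable {A B : Art Λ k} (f : B ⟶ A)

/-- the target of a morphism as an algebra over the source -/
@[reducible] def homAlg : Algebra B A := f.toAlgHom.toRingHom.toAlgebra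

theorem homTower : letI := homAlg f; IsScalarTower Λ B A :=
  letI := homAlg f
  IsScalarTower.of_algebraMap_eq (fun l => (f.toAlgHom.commutes l).symm)

theorem homTower' : letI := homAlg f; IsScalarTower B A k :=
  letI := homAlg f
  IsScalarTower.of_algebraMap_eq (fun b => (Art.res_app f b).symm)

/-- restriction of derivations along a morphism -/
noncomputable def derRestrict : Derivation Λ A k →ₗ[k] Derivation Λ B k where
  toFun D := Derivation.mk' (D.toLinearMap.comp f.toAlgHom.toLinearMap) (by
    intro b b'
    change D (f.toAlgHom (b * b')) = b • D (f b') + b' • D (f b)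
    rw [map_mul, D.leibniz, art_smul, art_smul, art_smul, art_smul]
    change A.res (f b) * _ + A.res (f b') * _ = _
    rw [Art.res_app, Art.res_app])
  map_add' D D' := by
    apply Derivation.ext
    intro b
    rfl
  map_smul' c D := by
    apply Derivation.ext
    intro b
    rfl

theorem derRestrict_apply (D : Derivation Λ A k) (b : B) : derRestrict f D b = D (f b) := rfl

theorem derRestrict_injective_iff :
    Function.Injective (derRestrict f) ↔
      ∀ D₁ D₂ : Derivation Λ A k, (∀ b, D₁ (f b) = D₂ (f b)) → D₁ = D₂ := by
  constructor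
  · intro h D₁ D₂ h12
    apply h
    apply Derivation.ext
    intro b
    exact h12 b
  · intro h D₁ D₂ h12
    apply h
    intro b
    exact congrArg (fun D : Derivation Λ B k => D b) h12

theorem derRestrict_surjective_iff :
    Function.Surjective (derRestrict f) ↔
      ∀ D' : Derivation Λ B k, ∃ D : Derivation Λ A k, ∀ b, D (f b) = D' b := by
  constructor
  · intro h D'
    obtain ⟨D, hD⟩ := h D'
    exact ⟨D, fun b => congrArg (fun D : Derivation Λ B k => D b) hD⟩
  · intro h D'
    obtain ⟨D, hD⟩ := h D'
    exact ⟨D, Derivation.ext hD⟩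

/-- derivations are determined by their restriction iff the relative differentials vanish at
the closed point -/
theorem der_ext_iff_subsingleton :
    letI := homAlg f
    (∀ D₁ D₂ : Derivation Λ A k, (∀ b, D₁ (f b) = D₂ (f b)) → D₁ = D₂) ↔
      Subsingleton (k ⊗[A] Ω[A⁄B]) := by
  letI := homAlg f
  haveI := homTower f
  haveI := homTower' f
  constructor
  · intro h
    have hf : Function.Surjective (algebraMap B A) := art_surjective_of_der_ext f h
    haveI := KaehlerDifferential.subsingleton_of_surjective B A hf
    refine ⟨fun x x' => ?_⟩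
    have h0 : ∀ z : k ⊗[A] Ω[A⁄B], z = 0 := by
      intro z
      induction z using TensorProduct.induction_on with
      | zero => rfl
      | tmul c ω => rw [Subsingleton.elim ω 0, TensorProduct.tmul_zero]
      | add z z' hz hz' => rw [hz, hz', add_zero]
    rw [h0 x, h0 x']
  · intro hS D₁ D₂ h
    have hΔ : ∀ b, (D₁ - D₂) (f b) = 0 := by
      intro b
      rw [Derivation.sub_apply, h b, sub_self]
    let Δ₀ : A →ₗ[B] k :=
      { toFun := fun a => (D₁ - D₂) a
        map_add' := fun a a' => map_add _ a a'
        map_smul' := fun b a => by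
          have h1 : b • a = f b * a := Algebra.smul_def b a
          rw [h1, (D₁ - D₂).leibniz, hΔ, smul_zero, add_zero, RingHom.id_apply, art_smul,
            art_smul, Art.res_app] }
    let Δ' : Derivation B A k := Derivation.mk' Δ₀ (fun a a' => (D₁ - D₂).leibniz a a')
    have hΔ' : ∀ a, Δ' a = D₁ a - D₂ a := fun a => rfl
    have hl : ∀ m : Ω[A⁄B], Δ'.liftKaehlerDifferential m = 0 := by
      intro m
      rw [← LinearMap.liftBaseChange_one_tmul k, Subsingleton.elim ((1 : k) ⊗ₜ[A] m) 0, map_zero]
    apply Derivation.ext
    intro a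
    have h2 := hl (KaehlerDifferential.D B A a)
    rw [Derivation.liftKaehlerDifferential_comp_D, hΔ', sub_eq_zero] at h2
    exact h2

/-- essential surjections in terms of Kähler differentials -/
theorem essential_iff_kaehler [Module.Finite Λ k] :
    letI : Algebra B A := f.toAlgHom.toRingHom.toAlgebra
    letI : Algebra A k := A.res.toRingHom.toAlgebra
    letI : Algebra B k := B.res.toRingHom.toAlgebra
    (Function.Surjective f ∧ ∀ (C : Art Λ k) (g : C ⟶ B), Function.Surjective (g ≫ f) →
        Function.Surjective g) ↔
      (Subsingleton (k ⊗[A] Ω[A⁄B]) ∧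
        Module.finrank k (k ⊗[B] Ω[B⁄Λ]) = Module.finrank k (k ⊗[A] Ω[A⁄Λ])) := by
  haveI := der_finite (Λ := Λ) A
  haveI := der_finite (Λ := Λ) B
  rw [essential_iff_der f, ← derRestrict_injective_iff, ← derRestrict_surjective_iff]
  have h1 := der_ext_iff_subsingleton f
  rw [← derRestrict_injective_iff] at h1
  have hA := finrank_der (Λ := Λ) A
  have hB := finrank_der (Λ := Λ) B
  constructor
  · rintro ⟨hinj, hsurj⟩
    refine ⟨h1.1 hinj, ?_⟩
    have h2 := LinearEquiv.finrank_eq (LinearEquiv.ofBijective (derRestrict f) ⟨hinj, hsurj⟩)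
    rw [hA, hB] at h2
    exact h2.symm
  · rintro ⟨hS, hrank⟩
    have hinj := h1.2 hS
    refine ⟨hinj, ?_⟩
    have h2 : Module.finrank k (Derivation Λ A k) = Module.finrank k (Derivation Λ B k) := by
      rw [hA, hB]
      exact hrank.symm
    exact (LinearMap.injective_iff_surjective_of_finrank_eq_finrank h2).1 hinj

end Groth.Agent.Helper18
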