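import Mathlib
import Groth.Agent.Lib.Helper18.ArtFunRS3

/-!
From a hull to a universal family under `HSq`, and properties of prorepresentable functors.
-/

set_option autoImplicit false
universe u v
open CategoryTheory

namespace Groth.Agent.Helper18

open ArtFun ArtFun.Art IsLocalRing

variable {Λ k : Type u} [CommRing Λ] [Field k] [Algebra Λ k]
variable {F : Art Λ k ⥤ Type v}
variable {R : Type u} [CommRing R] [Algebra Λ R] {resR : R →ₐ[Λ] k}

theorem family_eq_of_small (hsq : HSq F) (ξ : Family R resR F)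
    (htan : Function.Injective (ξ.app (dual Λ k)))
    {A' A : Art Λ k} (μ : A' ⟶ A) (hμ : IsSmallExt μ) (x₁ x₂ : HomSet R resR A')
    (h1 : HomSet.map μ x₁ = HomSet.map μ x₂) (hx : ξ.app A' x₁ = ξ.app A' x₂) : x₁ = x₂ := by
  obtain ⟨t, ht, htm, ht0, hker⟩ := IsSmallExt.exists_generator hμ
  have hsh := isFibreProd_shift μ (Deps.isFibreProd A') ht htm ht0 hker
  obtain ⟨z, hz₁, hz₂⟩ := exists_homSet_lift_of_isFibreProd hsh x₁ x₂ h1
  have hξz : ξ.app _ z = F.map (zeroSec A') (ξ.app _ x₁) := by
    apply (hsq _ _ _ hsh hμ).1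
    apply FibProd.ext
    · change F.map (Deps.q₁ A') (ξ.app _ z) = F.map (Deps.q₁ A') (F.map (zeroSec A') (ξ.app _ x₁))
      rw [← ξ.natural, hz₁, ← Functor.map_comp_apply, zeroSec_q₁, Functor.map_id_apply]
    · change F.map (shift _ _ ht htm) (ξ.app _ z) =
        F.map (shift _ _ ht htm) (F.map (zeroSec A') (ξ.app _ x₁))
      rw [← ξ.natural, hz₂, ← Functor.map_comp_apply, zeroSec_shift, Functor.map_id_apply, hx]
  have hv : HomSet.map (Deps.q₂ A') z = HomSet.map (Deps.q₂ A') (HomSet.map (zeroSec A') x₁) := by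
    apply htan
    rw [ξ.natural, hξz, ξ.natural, ξ.natural]
  have hz : z = HomSet.map (zeroSec A') x₁ := by
    apply homSet_ext_of_isFibreProd (Deps.isFibreProd A')
    · rw [hz₁, homSet_map_map, zeroSec_q₁, homSet_map_id]
    · exact hv
  rw [← hz₂, hz, homSet_map_map, zeroSec_shift, homSet_map_id]

theorem family_injective_of_tangent_injective (hsq : HSq F) (ξ : Family R resR F)
    (htan : Function.Injective (ξ.app (dual Λ k))) (A : Art Λ k) :
    Function.Injective (ξ.app A) := by
  have key := surjective_induction (Λ := Λ) (k := k)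
    (fun A B μ => Function.Injective (ξ.app A) → Function.Injective (ξ.app B))
    (fun A B e he hA x₁ x₂ hx => by
      have h1 : HomSet.map e x₁ = HomSet.map e x₂ := by
        apply hA
        rw [ξ.natural, ξ.natural, hx]
      have h2 := congrArg (HomSet.map (inv e)) h1
      rwa [homSet_map_map, homSet_map_map, IsIso.hom_inv_id, homSet_map_id, homSet_map_id] at h2)
    (fun A B p hp hA x₁ x₂ hx => by
      apply family_eq_of_small hsq ξ htan p hp x₁ x₂ _ hx
      apply hA
      rw [ξ.natural, ξ.natural, hx])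
    (fun A B C p q hp hq hA => hp (hq hA))
    (toBase A) (toBase_surjective A)
  apply key
  intro x y _
  exact homSet_base_eq x y

theorem isUniversal_of_miniversal (h0 : H0 F) (hsq : HSq F) (ξ : Family R resR F)
    (hξ : IsVersal ξ) (htan : Function.Injective (ξ.app (dual Λ k))) : IsUniversal ξ :=
  fun A => ⟨family_injective_of_tangent_injective hsq ξ htan A,
    surjective_app_of_isVersal h0 ξ hξ A⟩

/-- a functor with a universal family is left exact -/
theorem isLeftExact_of_isUniversal (ξ : Family R resR F) (hξ : IsUniversal ξ) : IsLeftExact F := by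
  intro B A A' A'' p' p'' f' f'' h
  constructor
  · intro b₁ b₂ hb
    rw [cmp_eq_iff] at hb
    obtain ⟨hb1, hb2⟩ := hb
    obtain ⟨ψ₁, rfl⟩ := (hξ B).2 b₁
    obtain ⟨ψ₂, rfl⟩ := (hξ B).2 b₂
    congr 1
    apply homSet_ext_of_isFibreProd h
    · apply (hξ A').1
      rw [ξ.natural, ξ.natural]
      exact hb1
    · apply (hξ A'').1
      rw [ξ.natural, ξ.natural]
      exact hb2
  · intro x
    obtain ⟨φ', hφ'⟩ := (hξ A').2 x.1.1
    obtain ⟨φ'', hφ''⟩ := (hξ A'').2 x.1.2
    have hφ : HomSet.map f' φ' = HomSet.map f'' φ'' := by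
      apply (hξ A).1
      rw [ξ.natural, ξ.natural, hφ', hφ'']
      exact x.2
    obtain ⟨ψ, hψ₁, hψ₂⟩ := exists_homSet_lift_of_isFibreProd h φ' φ'' hφ
    refine ⟨ξ.app B ψ, ?_⟩
    rw [cmp_eq_iff]
    constructor
    · rw [← ξ.natural, hψ₁, hφ']
    · rw [← ξ.natural, hψ₂, hφ'']

end Groth.Agent.Helper18
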