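import Mathlib
import Groth.Agent.Lib.Helper18.Schl.HullExists
import Groth.Agent.Lib.Helper18.Schl.Prorep
import Groth.Agent.Lib.Helper18.Schl.TangentFin

/-!
Schlessinger's criterion for prorepresentability.
-/

set_option autoImplicit false
universe u v
open CategoryTheory

namespace Groth.Agent.Helper18

open ArtFun ArtFun.Art IsLocalRing

variable {Λ k : Type u} [CommRing Λ] [Field k] [Algebra Λ k]
variable [IsLocalRing Λ] [IsNoetherianRing Λ] [IsAdicComplete (maximalIdeal Λ) Λ]
variable {F : Art Λ k ⥤ Type v}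

theorem isLeftExact_of_isProrepresentable (h : IsProrepresentable F) : IsLeftExact F := by
  obtain ⟨P⟩ := h
  exact isLeftExact_of_isUniversal P.family P.universal

theorem hfin_of_isProrepresentable [TangentStr F] (hk : Function.Surjective (algebraMap Λ k))
    (h : IsProrepresentable F) : Hfin F := by
  haveI : Module.Finite Λ k := moduleFinite_of_surjective hk
  obtain ⟨P⟩ := h
  exact hfin_of_tangent_bijective P.family (P.universal (dual Λ k))

theorem hbar_of_isLeftExact (h : IsLeftExact F) : Hbar F :=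
  fun _ _ _ _ p' p'' f' f'' hsq _ => (h p' p'' f' f'' hsq).2

theorem heps_of_isLeftExact (h : IsLeftExact F) : Heps F :=
  fun _ _ p' p'' hsq => h p' p'' _ _ hsq

theorem hsq_of_isLeftExact (h : IsLeftExact F) : HSq F :=
  fun _ _ _ p₁ p₂ f hsq _ => h p₁ p₂ f f hsq

theorem isProrepresentable_of_conditions [TangentStr F] (hk : Function.Surjective (algebraMap Λ k))
    (h0 : H0 F) (hbar : Hbar F) (heps : Heps F) (hfin : Hfin F) (hsq : HSq F) :
    IsProrepresentable F := by
  obtain ⟨R, ξ, hv, hb⟩ := exists_hull hk h0 hbar heps hfin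
  exact ⟨⟨R, ξ, isUniversal_of_miniversal h0 hsq ξ hv hb.1⟩⟩

theorem hasHull_of_conditions [TangentStr F] (hk : Function.Surjective (algebraMap Λ k))
    (h0 : H0 F) (hbar : Hbar F) (heps : Heps F) (hfin : Hfin F) : HasHull F := by
  obtain ⟨R, ξ, hv, hb⟩ := exists_hull hk h0 hbar heps hfin
  exact ⟨⟨R, ξ, hv, hb⟩⟩

theorem isProrepresentable_iff [TangentStr F] (hk : Function.Surjective (algebraMap Λ k))
    (h0 : H0 F) : IsProrepresentable F ↔ (Hbar F ∧ Heps F ∧ Hfin F ∧ HSq F) := by
  constructor
  · intro h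
    have hl := isLeftExact_of_isProrepresentable h
    exact ⟨hbar_of_isLeftExact hl, heps_of_isLeftExact hl, hfin_of_isProrepresentable hk h, hsq_of_isLeftExact hl⟩
  · rintro ⟨h1, h2, h3, h4⟩
    exact isProrepresentable_of_conditions hk h0 h1 h2 h3 h4

theorem isProrepresentable_iff_leftExact [TangentStr F] (hk : Function.Surjective (algebraMap Λ k))
    (h0 : H0 F) : IsProrepresentable F ↔ (IsLeftExact F ∧ Hfin F) := by
  constructor
  · intro h
    exact ⟨isLeftExact_of_isProrepresentable h, hfin_of_isProrepresentable hk h⟩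
  · rintro ⟨hl, h3⟩
    exact isProrepresentable_of_conditions hk h0 (hbar_of_isLeftExact hl) (heps_of_isLeftExact hl) h3 (hsq_of_isLeftExact hl)

end Groth.Agent.Helper18
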