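import Groth.Agent.Lib.Helper18.Schl.Fitting3
import Groth.Agent.Lib.Helper18.Schl.QuotCRing

/-!
Every versal family is a retract-extension of a minimal versal family.
-/

set_option autoImplicit false
universe u v
open CategoryTheory

namespace Groth.Agent.Helper18

open ArtFun ArtFun.Art IsLocalRing

variable {Λ : Type u} {k : Type u} [CommRing Λ] [Field k] [Algebra Λ k]
variable {F : Art Λ k ⥤ Type v}

theorem exists_retract_minimal (h0 : H0 F) (R : CRing Λ k) (ξ : Family R.carrier R.res F)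
    (hξ : IsVersal ξ) :
    ∃ (R' : CRing Λ k) (q : R.carrier →ₐ[Λ] R'.carrier) (hq : R'.res.comp q = R.res)
      (ι : R'.carrier →ₐ[Λ] R.carrier) (hι : R.res.comp ι = R'.res),
      (∀ x, q (ι x) = x) ∧ (ξ.along q hq).IsMinimalVersal ∧ (ξ.along q hq).along ι hι = ξ := by
  -- the kernels of endomorphisms of (R, ξ)
  let E : Set (Ideal R.carrier) := {K | ∃ (φ : R.carrier →ₐ[Λ] R.carrier) (hφ : R.res.comp φ = R.res),
    ξ.along φ hφ = ξ ∧ K = RingHom.ker (φ : R.carrier →+* R.carrier)}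
  have hE : E.Nonempty := ⟨_, AlgHom.id Λ R.carrier, AlgHom.comp_id _, rfl, rfl⟩
  obtain ⟨K₀, hK₀E, hK₀max⟩ := set_has_maximal_iff_noetherian.2
    (inferInstance : IsNoetherian R.carrier R.carrier) E hE
  obtain ⟨φ₀, hφ₀, hξφ₀, hK₀⟩ := hK₀E
  obtain ⟨e, he, hξe, hidem, hker, -⟩ := exists_idempotent R ξ φ₀ hφ₀ hξφ₀
  set K : Ideal R.carrier := RingHom.ker (e : R.carrier →+* R.carrier) with hKdef
  have hKE : K ∈ E := ⟨e, he, hξe, rfl⟩
  have hK₀K : K₀ = K := by
    have h1 : K₀ ≤ K := by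
      intro x hx
      rw [hK₀, RingHom.mem_ker] at hx
      exact RingHom.mem_ker.2 (hker x hx)
    by_contra hne
    exact hK₀max K hKE (lt_of_le_of_ne h1 hne)
  have hmax : ∀ (ψ : R.carrier →ₐ[Λ] R.carrier) (hψ : R.res.comp ψ = R.res), ξ.along ψ hψ = ξ →
      K ≤ RingHom.ker (ψ : R.carrier →+* R.carrier) →
      RingHom.ker (ψ : R.carrier →+* R.carrier) ≤ K := by
    intro ψ hψ hξψ hle
    by_contra hnle
    have hlt : K < RingHom.ker (ψ : R.carrier →+* R.carrier) := lt_of_le_not_ge hle hnle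
    rw [← hK₀K] at hlt
    exact hK₀max _ ⟨ψ, hψ, hξψ, rfl⟩ hlt
  have hrese : ∀ a, R.res (e a) = R.res a := fun a => AlgHom.congr_fun he a
  have hKm : K ≤ maximalIdeal R.carrier := by
    intro x hx
    rw [CRing.mem_maximalIdeal_iff, ← hrese]
    have : e x = 0 := hx
    rw [this, map_zero]
  have hee : ∀ a, e (e a) = e a := fun a => AlgHom.congr_fun hidem a
  let R' : CRing Λ k := quotCRing R K hKm
  let q : R.carrier →ₐ[Λ] R'.carrier := quotCRingMk R K hKm
  have hq : R'.res.comp q = R.res := quotCRingMk_res R K hKm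
  have hqsurj : Function.Surjective q := quotCRingMk_surjective R K hKm
  have hq0 : ∀ a, q a = 0 ↔ e a = 0 := fun a => quotCRingMk_eq_zero_iff R K hKm a
  let ι : R'.carrier →ₐ[Λ] R.carrier := Ideal.Quotient.liftₐ K e (fun a ha => ha)
  have hιq : ∀ a, ι (q a) = e a := fun a => rfl
  have hresq : ∀ a, R'.res (q a) = R.res a := fun a => AlgHom.congr_fun hq a
  have hι : R.res.comp ι = R'.res := by
    apply AlgHom.ext
    intro x
    obtain ⟨a, rfl⟩ := hqsurj x
    change R.res (ι (q a)) = R'.res (q a)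
    rw [hιq, hrese, hresq]
  have hqι : ∀ x, q (ι x) = x := by
    intro x
    obtain ⟨a, rfl⟩ := hqsurj x
    rw [hιq]
    have h1 : q (e a - a) = 0 := by
      rw [hq0, map_sub, hee, sub_self]
    rw [map_sub, sub_eq_zero] at h1
    exact h1
  have hιqe : ι.comp q = e := AlgHom.ext fun a => rfl
  set ξ' : Family R'.carrier R'.res F := ξ.along q hq with hξ'
  have hξ'ι : ξ'.along ι hι = ξ := by
    have h1 : ξ'.along ι hι = ξ.along e he := by
      apply family_ext
      intro A φ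
      change ξ.app A ⟨(φ.1.comp ι).comp q, _⟩ = ξ.app A ⟨φ.1.comp e, _⟩
      congr 1
    rw [h1, hξe]
  have hversal : IsVersal ξ' := by
    intro B A μ hμ φ y hy
    obtain ⟨χ, hχ1, hχ2⟩ := hξ μ hμ ⟨φ.1.comp q, by
      rw [← AlgHom.comp_assoc, φ.2, hq]⟩ y hy
    refine ⟨⟨χ.1.comp ι, by rw [← AlgHom.comp_assoc, χ.2, hι]⟩, ?_, ?_⟩
    · apply Subtype.ext
      apply AlgHom.ext
      intro x
      have h1 := AlgHom.congr_fun (congrArg Subtype.val hχ1) (ι x)
      change μ.toAlgHom (χ.1 (ι x)) = φ.1 x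
      change μ.toAlgHom (χ.1 (ι x)) = φ.1 (q (ι x)) at h1
      rw [h1, hqι]
    · have h1 := congrArg (fun t : Family R.carrier R.res F => t.app B χ) hξe
      change ξ.app B ⟨χ.1.comp e, _⟩ = ξ.app B χ at h1
      rw [← hχ2, ← h1]
      change ξ.app B ⟨(χ.1.comp ι).comp q, _⟩ = ξ.app B ⟨χ.1.comp e, _⟩
      congr 1
  -- every endomorphism of (R', ξ') is injective
  have hinjAll : ∀ (β : R'.carrier →ₐ[Λ] R'.carrier) (hβ : R'.res.comp β = R'.res),
      ξ'.along β hβ = ξ' → Function.Injective β := by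
    intro β hβ hξβ
    let ψ : R.carrier →ₐ[Λ] R.carrier := ι.comp (β.comp q)
    have hψ : R.res.comp ψ = R.res := by
      change R.res.comp (ι.comp (β.comp q)) = R.res
      rw [← AlgHom.comp_assoc, hι, ← AlgHom.comp_assoc, hβ, hq]
    have hξψ : ξ.along ψ hψ = ξ := by
      have h1 : ξ.along ψ hψ = (ξ'.along β hβ).along ι hι := rfl
      rw [h1, hξβ, hξ'ι]
    have hle : K ≤ RingHom.ker (ψ : R.carrier →+* R.carrier) := by
      intro a ha
      rw [RingHom.mem_ker]
      change ι (β (q a)) = 0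
      have : q a = 0 := (hq0 a).2 ha
      rw [this, map_zero, map_zero]
    have hge := hmax ψ hψ hξψ hle
    rw [injective_iff_map_eq_zero]
    intro x hx
    obtain ⟨a, rfl⟩ := hqsurj x
    have h1 : a ∈ RingHom.ker (ψ : R.carrier →+* R.carrier) := by
      rw [RingHom.mem_ker]
      change ι (β (q a)) = 0
      rw [hx, map_zero]
    exact (hq0 a).2 (hge h1)
  refine ⟨R', q, hq, ι, hι, hqι, ⟨hversal, ?_⟩, hξ'ι⟩
  intro R'' u f hf hpush
  obtain ⟨η, rfl⟩ := (toFormalElt_bijective (R := R'') (F := F)).2 u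
  change (η.toFormalElt).push f hf = ξ'.toFormalElt at hpush
  rw [push_toFormalElt] at hpush
  have hηf : η.along f hf = ξ' := (toFormalElt_bijective (R := R') (F := F)).1 hpush
  obtain ⟨s, hs, hsη⟩ := exists_along_eq_of_isVersal' h0 ξ' hversal η
  let β : R'.carrier →ₐ[Λ] R'.carrier := f.comp s
  have hβ : R'.res.comp β = R'.res := by
    change R'.res.comp (f.comp s) = R'.res
    rw [← AlgHom.comp_assoc, hf, hs]
  have hξβ : ξ'.along β hβ = ξ' := by
    have h1 : ξ'.along β hβ = (ξ'.along s hs).along f hf := rfl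
    rw [h1, hsη, hηf]
  obtain ⟨e', he', hξe', -, -, hsurj⟩ := exists_idempotent R' ξ' β hβ hξβ
  have hβsurj : Function.Surjective β := hsurj (hinjAll e' he' hξe')
  intro x
  obtain ⟨y, hy⟩ := hβsurj x
  exact ⟨s y, hy⟩

end Groth.Agent.Helper18
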