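import Groth.Agent.Lib.Helper18.Schl.MinVersal1

/-!
If `ι : R' → R` has a retraction and some family over `R'` becomes versal over `R`,
then `h_R → h_{R'}` is smooth.
-/

set_option autoImplicit false
universe u v
open CategoryTheory

namespace Groth.Agent.Helper18

open ArtFun ArtFun.Art IsLocalRing

variable {Λ : Type u} {k : Type u} [CommRing Λ] [Field k] [Algebra Λ k]
variable {F : Art Λ k ⥤ Type v}

theorem isVersal_self_along_of_retract (R' R : CRing Λ k)
    (ι : R'.carrier →ₐ[Λ] R.carrier) (hι : R.res.comp ι = R'.res)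
    (q : R.carrier →ₐ[Λ] R'.carrier) (hq : R'.res.comp q = R.res) (hqι : ∀ x, q (ι x) = x)
    (ξ' : Family R'.carrier R'.res F) (hv : IsVersal (ξ'.along ι hι)) :
    IsVersal ((Family.self R'.carrier R'.res).along ι hι) := by
  apply isVersal_of_small_lifts
  intro B A μ hμ φ y hy
  change HomSet R'.carrier R'.res B at y
  have hy' : HomSet.map μ y = ⟨φ.1.comp ι, by rw [← AlgHom.comp_assoc, φ.2, hι]⟩ := hy
  have hη : F.map μ (ξ'.app B y) = (ξ'.along ι hι).app A φ := by
    rw [← ξ'.natural, hy']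
    rfl
  obtain ⟨ψ, hψ1, -⟩ := hv μ hμ.1 φ (ξ'.app B y) hη
  have hJ : ∀ b ∈ maximalIdeal B.carrier, ∀ j : B.carrier, μ j = 0 → b * j = 0 := by
    intro b hb j hj
    have h1 : b * j ∈ maximalIdeal B.carrier * RingHom.ker μ.toAlgHom :=
      Ideal.mul_mem_mul hb (RingHom.mem_ker.2 hj)
    rw [hμ.2.2.2] at h1
    exact h1
  have hμy : ∀ x, μ (y.1 x) = φ.1 (ι x) := fun x => AlgHom.congr_fun (congrArg Subtype.val hy') x
  have hμψ : ∀ a, μ (ψ.1 a) = φ.1 a := fun a => AlgHom.congr_fun (congrArg Subtype.val hψ1) a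
  have hresy : ∀ x, B.res (y.1 x) = R'.res x := fun x => AlgHom.congr_fun y.2 x
  have hresψ : ∀ a, B.res (ψ.1 a) = R.res a := fun a => AlgHom.congr_fun ψ.2 a
  have hresq : ∀ a, R'.res (q a) = R.res a := fun a => AlgHom.congr_fun hq a
  have hresι : ∀ x, R.res (ι x) = R'.res x := fun x => AlgHom.congr_fun hι x
  let d : R.carrier → B.carrier := fun a => y.1 (q a) - ψ.1 (ι (q a))
  have hd : ∀ a, μ (d a) = 0 := by
    intro a
    change μ (y.1 (q a) - ψ.1 (ι (q a))) = 0
    rw [map_sub, hμy, hμψ, sub_self]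
  have hdm : ∀ a, d a ∈ maximalIdeal B.carrier := by
    intro a
    rw [Art.mem_maximalIdeal_iff]
    change B.res (y.1 (q a) - ψ.1 (ι (q a))) = 0
    rw [map_sub, hresy, hresψ, hresι, sub_self]
  have hum : ∀ a, ψ.1 a - y.1 (q a) ∈ maximalIdeal B.carrier := by
    intro a
    rw [Art.mem_maximalIdeal_iff, map_sub, hresψ, hresy, hresq, sub_self]
  have hvm : ∀ a, ψ.1 a - ψ.1 (ι (q a)) ∈ maximalIdeal B.carrier := by
    intro a
    rw [Art.mem_maximalIdeal_iff, map_sub, hresψ, hresψ, hresι, hresq, sub_self]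
  let ψ' : R.carrier →ₐ[Λ] B.carrier :=
    { toFun := fun a => ψ.1 a + d a
      map_one' := by
        change ψ.1 1 + (y.1 (q 1) - ψ.1 (ι (q 1))) = 1
        rw [map_one, map_one, map_one, map_one, map_one]
        ring
      map_mul' := by
        intro a b
        have h1 := hJ _ (hum a) _ (hd b)
        have h2 := hJ _ (hvm b) _ (hd a)
        have h3 := hJ _ (hdm a) _ (hd b)
        change ψ.1 (a * b) + (y.1 (q (a * b)) - ψ.1 (ι (q (a * b)))) =
          (ψ.1 a + (y.1 (q a) - ψ.1 (ι (q a)))) * (ψ.1 b + (y.1 (q b) - ψ.1 (ι (q b))))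
        change (ψ.1 a - y.1 (q a)) * (y.1 (q b) - ψ.1 (ι (q b))) = 0 at h1
        change (ψ.1 b - ψ.1 (ι (q b))) * (y.1 (q a) - ψ.1 (ι (q a))) = 0 at h2
        change (y.1 (q a) - ψ.1 (ι (q a))) * (y.1 (q b) - ψ.1 (ι (q b))) = 0 at h3
        rw [map_mul, map_mul, map_mul, map_mul, map_mul]
        linear_combination (-1 : B.carrier) * h1 - h2 - h3
      map_zero' := by
        change ψ.1 0 + (y.1 (q 0) - ψ.1 (ι (q 0))) = 0
        rw [map_zero, map_zero, map_zero, map_zero, map_zero]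
        ring
      map_add' := by
        intro a b
        change ψ.1 (a + b) + (y.1 (q (a + b)) - ψ.1 (ι (q (a + b)))) =
          (ψ.1 a + (y.1 (q a) - ψ.1 (ι (q a)))) + (ψ.1 b + (y.1 (q b) - ψ.1 (ι (q b))))
        rw [map_add, map_add, map_add, map_add, map_add]
        ring
      commutes' := by
        intro l
        change ψ.1 (algebraMap Λ R.carrier l) + (y.1 (q (algebraMap Λ R.carrier l)) -
          ψ.1 (ι (q (algebraMap Λ R.carrier l)))) = algebraMap Λ B.carrier l
        rw [AlgHom.commutes, AlgHom.commutes, AlgHom.commutes, AlgHom.commutes, AlgHom.commutes]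
        ring }
  have hψ'a : ∀ a, ψ' a = ψ.1 a + d a := fun a => rfl
  have hψ'res : B.res.comp ψ' = R.res := by
    apply AlgHom.ext
    intro a
    change B.res (ψ' a) = R.res a
    rw [hψ'a, map_add, hresψ, (Art.mem_maximalIdeal_iff B _).1 (hdm a), add_zero]
  refine ⟨⟨ψ', hψ'res⟩, ?_, ?_⟩
  · apply Subtype.ext
    apply AlgHom.ext
    intro a
    change μ (ψ' a) = φ.1 a
    rw [hψ'a, map_add, hd, add_zero, hμψ]
  · change (⟨ψ'.comp ι, _⟩ : HomSet R'.carrier R'.res B) = y
    apply Subtype.ext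
    apply AlgHom.ext
    intro x
    change ψ' (ι x) = y.1 x
    rw [hψ'a]
    change ψ.1 (ι x) + (y.1 (q (ι x)) - ψ.1 (ι (q (ι x)))) = y.1 x
    rw [hqι]
    ring

end Groth.Agent.Helper18
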