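import Groth.Agent.Lib.Helper18.Schl.Chevalley
import Groth.Agent.Lib.Helper18.Schl.QuotArt

/-!
The limit of a surjective system of Artinian quotients of a coefficient ring.
-/

set_option autoImplicit false
universe u v
open CategoryTheory

namespace Groth.Agent.Helper18

open ArtFun ArtFun.Art IsLocalRing

variable {Λ k : Type u} [CommRing Λ] [Field k] [Algebra Λ k]

theorem exists_limit_of_compatible (S₀ : CRing Λ k) (A : ℕ → Art Λ k) (f : ∀ n, A (n + 1) ⟶ A n)
    (ρ : ∀ n, HomSet S₀.carrier S₀.res (A n)) (hρ : ∀ n, HomSet.map (f n) (ρ (n + 1)) = ρ n)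
    (hsurj : ∀ n, Function.Surjective (ρ n).1) :
    ∃ (S : CRing Λ k) (π : ∀ n, HomSet S.carrier S.res (A n)),
      (∀ n, HomSet.map (f n) (π (n + 1)) = π n) ∧
      (∀ n, Function.Surjective (π n).1) ∧
      (∀ a : ∀ n, A n, (∀ n, f n (a (n + 1)) = a n) → ∃! s : S.carrier, ∀ n, (π n).1 s = a n) ∧
      (∀ n, ∃ N, RingHom.ker (π N).1 ≤ maximalIdeal S.carrier ^ n) ∧
      (∀ n, ∃ N, maximalIdeal S.carrier ^ N ≤ RingHom.ker (π n).1) := by
  classical
  let J : ℕ → Ideal S₀.carrier := fun n => RingHom.ker ((ρ n).1 : S₀.carrier →+* A n)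
  have hJmem : ∀ n (r : S₀.carrier), r ∈ J n ↔ (ρ n).1 r = 0 := fun n r => RingHom.mem_ker
  have hρ' : ∀ n (r : S₀.carrier), f n ((ρ (n + 1)).1 r) = (ρ n).1 r := fun n r =>
    congrArg (fun φ : HomSet S₀.carrier S₀.res (A n) => φ.1 r) (hρ n)
  have hJsucc : ∀ n, J (n + 1) ≤ J n := by
    intro n r hr
    rw [hJmem] at hr ⊢
    rw [← hρ' n r, hr]
    exact map_zero (f n).toAlgHom
  have hJanti : Antitone J := antitone_nat_of_succ_le hJsucc
  have hJm : ∀ n, J n ≤ maximalIdeal S₀.carrier := fun n => homSet_ker_le_maximalIdeal S₀ (ρ n)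
  let Jinf : Ideal S₀.carrier := ⨅ n, J n
  have hJinf : Jinf ≤ maximalIdeal S₀.carrier := (iInf_le J 0).trans (hJm 0)
  have hJinfle : ∀ n, Jinf ≤ J n := fun n => iInf_le J n
  let S : CRing Λ k := quotCRing S₀ Jinf hJinf
  let mk : S₀.carrier →ₐ[Λ] S.carrier := quotCRingMk S₀ Jinf hJinf
  have hmk_surj : Function.Surjective mk := quotCRingMk_surjective S₀ Jinf hJinf
  have hmk0 : ∀ r, mk r = 0 ↔ r ∈ Jinf := quotCRingMk_eq_zero_iff S₀ Jinf hJinf
  have hmk_res : S.res.comp mk = S₀.res := quotCRingMk_res S₀ Jinf hJinf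
  -- the induced maps
  have hπex : ∀ n, ∃ π : HomSet S.carrier S.res (A n), ∀ r, π.1 (mk r) = (ρ n).1 r := by
    intro n
    let g : S.carrier →ₐ[Λ] A n := Ideal.Quotient.liftₐ Jinf (ρ n).1
      (fun r hr => (hJmem n r).1 (hJinfle n hr))
    have hg : ∀ r, g (mk r) = (ρ n).1 r := fun r => rfl
    refine ⟨⟨g, ?_⟩, hg⟩
    apply AlgHom.ext
    intro s
    obtain ⟨r, rfl⟩ := hmk_surj s
    change (A n).res (g (mk r)) = S.res (mk r)
    rw [hg]
    have h1 : (A n).res ((ρ n).1 r) = S₀.res r := AlgHom.congr_fun (ρ n).2 r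
    have h2 : S.res (mk r) = S₀.res r := AlgHom.congr_fun hmk_res r
    rw [h1, h2]
  choose π hπ using hπex
  have hπker : ∀ n r, (π n).1 (mk r) = 0 ↔ r ∈ J n := fun n r => by rw [hπ, hJmem]
  -- the maximal ideals
  have hmk_max : ∀ (e : ℕ) (r : S₀.carrier), r ∈ maximalIdeal S₀.carrier ^ e →
      mk r ∈ maximalIdeal S.carrier ^ e := by
    intro e r hr
    have h1 : (maximalIdeal S₀.carrier).map (mk : S₀.carrier →+* S.carrier) ≤
        maximalIdeal S.carrier := by
      rw [Ideal.map_le_iff_le_comap]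
      intro x hx
      rw [Ideal.mem_comap, CRing.mem_maximalIdeal_iff]
      have h2 : S.res (mk x) = S₀.res x := AlgHom.congr_fun hmk_res x
      rw [CRing.mem_maximalIdeal_iff] at hx
      exact h2.trans hx
    have h3 : (maximalIdeal S₀.carrier ^ e).map (mk : S₀.carrier →+* S.carrier) ≤
        maximalIdeal S.carrier ^ e := by
      rw [Ideal.map_pow]
      exact Ideal.pow_right_mono h1 e
    exact h3 (Ideal.mem_map_of_mem _ hr)
  have h5 : ∀ n, ∃ N, maximalIdeal S.carrier ^ N ≤ RingHom.ker (π n).1 :=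
    fun n => homSet_exists_pow_le_ker S (π n)
  -- Chevalley
  have hchev : ∀ e, ∃ q, J q ≤ Jinf ⊔ maximalIdeal S₀.carrier ^ (e + 1) :=
    fun e => chevalley S₀ J hJanti e
  have hker_pow : ∀ e q, J q ≤ Jinf ⊔ maximalIdeal S₀.carrier ^ e → ∀ r, r ∈ J q →
      mk r ∈ maximalIdeal S.carrier ^ e := by
    intro e q hq r hr
    obtain ⟨j, hj, z, hz, hjz⟩ := Submodule.mem_sup.1 (hq hr)
    rw [← hjz, map_add, (hmk0 j).2 hj, zero_add]
    exact hmk_max e z hz
  refine ⟨S, π, ?_, ?_, ?_, ?_, h5⟩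
  · intro n
    apply Subtype.ext
    apply AlgHom.ext
    intro s
    obtain ⟨r, rfl⟩ := hmk_surj s
    change f n ((π (n + 1)).1 (mk r)) = (π n).1 (mk r)
    rw [hπ, hπ, hρ']
  · intro n a
    obtain ⟨r, hr⟩ := hsurj n a
    exact ⟨mk r, by rw [hπ, hr]⟩
  · intro a ha
    -- lifts
    choose r hr using fun n => hsurj n (a n)
    have hrsucc : ∀ n, r (n + 1) - r n ∈ J n := by
      intro n
      rw [hJmem, map_sub, ← hρ' n (r (n + 1)), hr, hr, ha, sub_self]
    have hrle : ∀ n n', n ≤ n' → r n' - r n ∈ J n := by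
      intro n n' hnn'
      induction n', hnn' using Nat.le_induction with
      | base => rw [sub_self]; exact zero_mem _
      | succ n' hnn' ih =>
        have : r (n' + 1) - r n = (r (n' + 1) - r n') + (r n' - r n) := by ring
        rw [this]
        exact Ideal.add_mem _ (hJanti hnn' (hrsucc n')) ih
    choose q hq using hchev
    let Q : ℕ → ℕ := fun M => Nat.rec (q 0) (fun M p => max (max p (q (M + 1))) (M + 1)) M
    have hQsucc : ∀ M, Q (M + 1) = max (max (Q M) (q (M + 1))) (M + 1) := fun M => rfl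
    have hQmono : ∀ M, Q M ≤ Q (M + 1) := fun M => by
      rw [hQsucc]; exact le_trans (le_max_left _ _) (le_max_left _ _)
    have hQq : ∀ M, q M ≤ Q M := by
      intro M
      cases M with
      | zero => exact le_rfl
      | succ M => rw [hQsucc]; exact le_trans (le_max_right _ _) (le_max_left _ _)
    have hQM : ∀ M, M ≤ Q M := by
      intro M
      cases M with
      | zero => exact Nat.zero_le _
      | succ M => rw [hQsucc]; exact le_max_right _ _
    have hQmono' : Monotone Q := monotone_nat_of_le_succ hQmono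
    have hJQ : ∀ e, J (Q e) ≤ Jinf ⊔ maximalIdeal S₀.carrier ^ (e + 1) :=
      fun e => (hJanti (hQq e)).trans (hq e)
    let t : ℕ → S.carrier := fun e => mk (r (Q e))
    have htle : ∀ e e', e ≤ e' → t e' - t e ∈ maximalIdeal S.carrier ^ (e + 1) := by
      intro e e' hee'
      change mk (r (Q e')) - mk (r (Q e)) ∈ _
      rw [← map_sub]
      exact hker_pow (e + 1) (Q e) (hJQ e) _ (hrle (Q e) (Q e') (hQmono' hee'))
    haveI : IsPrecomplete (maximalIdeal S.carrier) S.carrier := S.isAdicComplete.toIsPrecomplete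
    obtain ⟨L, hL⟩ := IsPrecomplete.prec' (I := maximalIdeal S.carrier) t (by
      intro e e' hee'
      rw [SModEq.sub_mem, smul_eq_mul, Ideal.mul_top]
      have h1 := htle e e' hee'
      have h2 : t e - t e' = -(t e' - t e) := by ring
      rw [h2]
      exact Ideal.neg_mem_iff _ |>.2 (Ideal.pow_le_pow_right (Nat.le_succ e) h1))
    have hL' : ∀ e, t e - L ∈ maximalIdeal S.carrier ^ e := by
      intro e
      have := hL e
      rw [SModEq.sub_mem, smul_eq_mul, Ideal.mul_top] at this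
      exact this
    have hπL : ∀ n, (π n).1 L = a n := by
      intro n
      obtain ⟨M, hM⟩ := h5 n
      set e := max M n with he
      have h1 : t e - L ∈ RingHom.ker (π n).1 :=
        hM (Ideal.pow_le_pow_right (le_max_left M n) (hL' e))
      have h2 : (π n).1 (t e) = (π n).1 L := by
        have := (RingHom.mem_ker).1 h1
        rw [map_sub, sub_eq_zero] at this
        exact this
      rw [← h2]
      change (π n).1 (mk (r (Q e))) = a n
      rw [hπ]
      have h3 : r (Q e) - r n ∈ J n := hrle n (Q e) ((le_max_right M n).trans (hQM e))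
      rw [hJmem, map_sub, sub_eq_zero] at h3
      rw [h3, hr]
    refine ⟨L, hπL, ?_⟩
    intro s hs
    obtain ⟨x, rfl⟩ := hmk_surj s
    obtain ⟨y, hy⟩ := hmk_surj L
    rw [← hy, ← sub_eq_zero, ← map_sub, hmk0, Ideal.mem_iInf]
    intro n
    rw [hJmem, map_sub, sub_eq_zero, ← hπ, ← hπ, hs n, hy, hπL]
  · intro n
    cases n with
    | zero =>
      refine ⟨0, ?_⟩
      rw [pow_zero, Ideal.one_eq_top]
      exact le_top
    | succ e =>
      obtain ⟨q, hq⟩ := hchev e
      refine ⟨q, ?_⟩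
      intro s hs
      obtain ⟨r, rfl⟩ := hmk_surj s
      rw [RingHom.mem_ker] at hs
      exact hker_pow (e + 1) q hq r ((hπker q r).1 hs)

end Groth.Agent.Helper18
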