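import Groth.Agent.Lib.Helper18.Schl.ProLimit1
import Groth.Agent.Lib.Helper18.Schl.ProLimit2
import Groth.Agent.Lib.Helper18.Schl.SmoothRing
import Groth.Agent.Lib.Helper18.Schl.Coprod
import Groth.Agent.Lib.Helper18.CotangentSurj

/-!
A surjective system of Artinian local algebras with bounded embedding dimension is a system of
quotients of one coefficient ring.
-/

set_option autoImplicit false
universe u v
open CategoryTheory

namespace Groth.Agent.Helper18

open ArtFun ArtFun.Art IsLocalRing

variable {Λ k : Type u} [CommRing Λ] [Field k] [Algebra Λ k]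

section Tr

variable (A : ℕ → Art Λ k) (f : ∀ n, A (n + 1) ⟶ A n)

/-- the transition maps of a tower -/
noncomputable def towerTr {n m : ℕ} (h : n ≤ m) : A m ⟶ A n :=
  Nat.leRecOn (C := fun m => A m ⟶ A n) h (fun {m} g => f m ≫ g) (𝟙 (A n))

theorem towerTr_self (n : ℕ) : towerTr A f (le_refl n) = 𝟙 (A n) :=
  Nat.leRecOn_self _

theorem towerTr_succ {n m : ℕ} (h : n ≤ m) (h' : n ≤ m + 1) :
    towerTr A f h' = f m ≫ towerTr A f h :=
  Nat.leRecOn_succ h _

theorem towerTr_succ_bot {n m : ℕ} (h : n + 1 ≤ m) (h' : n ≤ m) :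
    towerTr A f h ≫ f n = towerTr A f h' := by
  induction m, h using Nat.le_induction with
  | base =>
    rw [towerTr_self, Category.id_comp, towerTr_succ A f (le_refl n), towerTr_self,
      Category.comp_id]
  | succ m h ih =>
    rw [towerTr_succ A f h, Category.assoc, ih (Nat.le_of_succ_le h),
      towerTr_succ A f (Nat.le_of_succ_le h)]

theorem towerTr_surjective (hf : ∀ n, Function.Surjective (f n)) {n m : ℕ} (h : n ≤ m) :
    Function.Surjective (towerTr A f h) := by
  induction m, h using Nat.le_induction with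
  | base =>
    rw [towerTr_self]
    exact fun a => ⟨a, rfl⟩
  | succ m h ih =>
    rw [towerTr_succ A f h]
    intro a
    obtain ⟨b, hb⟩ := ih a
    obtain ⟨c, hc⟩ := hf m b
    exact ⟨c, by rw [Art.comp_apply, hc, hb]⟩

end Tr

/-- a lift of a surjective point along a surjection with kernel in the square of the maximal ideal
is surjective -/
theorem homSet_surjective_of_lift (S : CRing Λ k) {B A : Art Λ k} (μ : B ⟶ A)
    (hker : RingHom.ker (μ.toAlgHom : B →+* A) ≤ maximalIdeal B ^ 2)
    (ψ : HomSet S.carrier S.res B) (hφ : Function.Surjective (HomSet.map μ ψ).1) :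
    Function.Surjective ψ.1 := by
  haveI : IsPrecomplete (maximalIdeal S.carrier) S.carrier := S.isAdicComplete.toIsPrecomplete
  have hlift : ∀ b : B, ∃ r : S.carrier, b - ψ.1 r ∈ maximalIdeal B ^ 2 ∧
      (b ∈ maximalIdeal B → r ∈ maximalIdeal S.carrier) := by
    intro b
    obtain ⟨r, hr⟩ := hφ (μ b)
    have hr' : μ (ψ.1 r) = μ b := hr
    refine ⟨r, hker ?_, fun hb => ?_⟩
    · rw [RingHom.mem_ker, map_sub]
      change μ b - μ (ψ.1 r) = 0
      rw [hr', sub_self]
    · rw [CRing.mem_maximalIdeal_iff]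
      have h1 : B.res (ψ.1 r) = S.res r := AlgHom.congr_fun ψ.2 r
      rw [← h1, ← Art.res_app μ, hr', Art.res_app]
      exact (Art.mem_maximalIdeal_iff B b).1 hb
  have hsq : maximalIdeal B ^ 2 ≤ maximalIdeal B := Ideal.pow_le_self (by norm_num)
  have hsurj : Function.Surjective (ψ.1 : S.carrier →+* B) := by
    apply surjective_of_map_maximalIdeal_sup_sq
    · intro b
      obtain ⟨r, hr, -⟩ := hlift b
      exact ⟨r, hsq hr⟩
    · apply le_antisymm
      · apply sup_le _ hsq
        rw [Ideal.map_le_iff_le_comap]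
        intro x hx
        rw [Ideal.mem_comap, Art.mem_maximalIdeal_iff]
        have h1 : B.res (ψ.1 x) = S.res x := AlgHom.congr_fun ψ.2 x
        rw [CRing.mem_maximalIdeal_iff] at hx
        exact h1.trans hx
      · intro b hb
        obtain ⟨r, hr, hrm⟩ := hlift b
        have h2 : b = ψ.1 r + (b - ψ.1 r) := by ring
        rw [h2]
        exact Ideal.add_mem _ (Ideal.mem_sup_left (Ideal.mem_map_of_mem _ (hrm hb)))
          (Ideal.mem_sup_right hr)
  exact hsurj

/-- a bounded sequence of natural numbers attains its maximum -/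
theorem exists_forall_le_of_bounded (c : ℕ → ℕ) (d : ℕ) (hc : ∀ n, c n ≤ d) :
    ∃ N, ∀ n, c n ≤ c N := by
  by_contra h
  push Not at h
  have h1 : ∀ i, ∃ n, i ≤ c n := by
    intro i
    induction i with
    | zero => exact ⟨0, Nat.zero_le _⟩
    | succ i ih =>
      obtain ⟨n, hn⟩ := ih
      obtain ⟨n', hn'⟩ := h n
      exact ⟨n', by omega⟩
  obtain ⟨n, hn⟩ := h1 (d + 1)
  have := hc n
  omega

theorem exists_cring_of_bounded_tower [IsNoetherianRing Λ] [Module.Finite Λ k]
    (A : ℕ → Art Λ k) (f : ∀ n, A (n + 1) ⟶ A n) (hf : ∀ n, Function.Surjective (f n))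
    (d : ℕ) (hd : ∀ n, (maximalIdeal (A n)).spanFinrank ≤ d) :
    ∃ (S₀ : CRing Λ k) (ρ : ∀ n, HomSet S₀.carrier S₀.res (A n)),
      (∀ n, HomSet.map (f n) (ρ (n + 1)) = ρ n) ∧ (∀ n, Function.Surjective (ρ n).1) := by
  classical
  obtain ⟨N, hN⟩ := exists_forall_le_of_bounded (fun n => (maximalIdeal (A n)).spanFinrank) d hd
  -- the kernels above `N` lie in the square of the maximal ideal
  have hker : ∀ i, RingHom.ker ((f (N + i)).toAlgHom : A (N + i + 1) →+* A (N + i)) ≤
      maximalIdeal (A (N + i + 1)) ^ 2 := by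
    intro i
    have h1 := ker_le_sq_of_spanFinrank_le
      ((towerTr A f (Nat.le_add_right N (i + 1))).toAlgHom : A (N + i + 1) →+* A N)
      (towerTr_surjective A f hf _) (hN (N + i + 1))
    refine le_trans ?_ h1
    intro x hx
    rw [RingHom.mem_ker] at hx ⊢
    rw [towerTr_succ A f (Nat.le_add_right N i)]
    change (towerTr A f (Nat.le_add_right N i)) ((f (N + i)) x) = 0
    have hx' : (f (N + i)) x = 0 := hx
    rw [hx']
    exact map_zero (towerTr A f (Nat.le_add_right N i)).toAlgHom
  -- the smooth ring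
  obtain ⟨n₀, ⟨D₀⟩⟩ := SmDatum.exists_generators (Λ := Λ) (k := k)
  obtain ⟨c, y, hy⟩ : ∃ (c : ℕ) (y : Fin c → A N), Ideal.span (Set.range y) = maximalIdeal (A N) :=
    ⟨_, exists_fin_generators (R := A N)⟩
  obtain ⟨D, hD⟩ := SmDatum.exists_of_surjective (Λ := Λ) (k := k) (σ := Fin n₀ ⊕ Fin c)
    (Sum.elim D₀.a (fun _ => (0 : k))) (aeval_sum_elim_surjective' D₀.a _ D₀.ha)
  -- the point at level `N`
  choose t₀ ht₀ using fun i => (A N).res_surjective (D₀.a i)
  have hym : ∀ j, y j ∈ maximalIdeal (A N) := fun j => by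
    rw [← hy]
    exact Ideal.subset_span ⟨j, rfl⟩
  obtain ⟨ρN, hρN⟩ := D.exists_homSet (A N) (Sum.elim t₀ y) (by
    intro i
    rw [hD]
    cases i with
    | inl i => exact ht₀ i
    | inr j => exact (Art.mem_maximalIdeal_iff (A N) (y j)).1 (hym j))
  have hρNsurj : Function.Surjective ρN.1 := by
    haveI : IsPrecomplete (maximalIdeal D.cring.carrier) D.cring.carrier :=
      D.cring.isAdicComplete.toIsPrecomplete
    have hsurj : Function.Surjective (ρN.1 : D.cring.carrier →+* A N) := by
      apply surjective_of_map_maximalIdeal_sup_sq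
      · intro b
        obtain ⟨r, hr⟩ := D.cring.res_surjective ((A N).res b)
        refine ⟨r, ?_⟩
        rw [Art.mem_maximalIdeal_iff, map_sub]
        have h1 : (A N).res (ρN.1 r) = D.cring.res r := AlgHom.congr_fun ρN.2 r
        have h2 : (A N).res b - (A N).res (ρN.1 r) = 0 := by rw [h1, hr, sub_self]
        exact h2
      · apply le_antisymm
        · apply sup_le _ (Ideal.pow_le_self (by norm_num))
          rw [Ideal.map_le_iff_le_comap]
          intro x hx
          rw [Ideal.mem_comap, Art.mem_maximalIdeal_iff]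
          have h1 : (A N).res (ρN.1 x) = D.cring.res x := AlgHom.congr_fun ρN.2 x
          rw [CRing.mem_maximalIdeal_iff] at hx
          exact h1.trans hx
        · refine le_trans ?_ le_sup_left
          rw [← hy, Ideal.span_le]
          rintro _ ⟨j, rfl⟩
          have h2 : ρN.1 (D.x (Sum.inr j)) = y j := hρN (Sum.inr j)
          have h3 : D.x (Sum.inr j) ∈ maximalIdeal D.cring.carrier := by
            have h30 : D.x (Sum.inr j) ∈ maximalIdeal D.Car := by
              rw [D.mem_maximalIdeal_iff, D.res_x, hD]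
              rfl
            exact h30
          have h4 := Ideal.mem_map_of_mem (ρN.1 : D.cring.carrier →+* A N) h3
          have h5 : (ρN.1 : D.cring.carrier →+* A N) (D.x (Sum.inr j)) = y j := h2
          rw [h5] at h4
          exact h4
    exact hsurj
  -- the points above level `N`
  let Θ : ∀ i, HomSet D.cring.carrier D.cring.res (A (N + i)) := fun i =>
    Nat.rec (motive := fun i => HomSet D.cring.carrier D.cring.res (A (N + i))) ρN
      (fun i θ => Classical.choose (D.homSmooth (f (N + i)) (hf (N + i)) θ)) i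
  have hΘ : ∀ i, HomSet.map (f (N + i)) (Θ (i + 1)) = Θ i := fun i =>
    Classical.choose_spec (D.homSmooth (f (N + i)) (hf (N + i)) (Θ i))
  have hΘsurj : ∀ i, Function.Surjective (Θ i).1 := by
    intro i
    induction i with
    | zero => exact hρNsurj
    | succ i ih =>
      apply homSet_surjective_of_lift D.cring (f (N + i)) (hker i) (Θ (i + 1))
      rw [hΘ]
      exact ih
  -- all the points
  refine ⟨D.cring, fun n => HomSet.map (towerTr A f (Nat.le_add_left n N)) (Θ n), ?_, ?_⟩
  · intro n
    apply Subtype.ext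
    apply AlgHom.ext
    intro r
    change (towerTr A f (Nat.le_add_left (n + 1) N) ≫ f n) ((Θ (n + 1)).1 r) =
      (towerTr A f (Nat.le_add_left n N)) ((Θ n).1 r)
    rw [towerTr_succ_bot A f _ ((Nat.le_add_left n N).trans (Nat.le_succ _)),
      towerTr_succ A f (Nat.le_add_left n N), ← hΘ n]
    rfl
  · intro n a
    obtain ⟨b, hb⟩ := towerTr_surjective A f hf (Nat.le_add_left n N) a
    obtain ⟨r, hr⟩ := hΘsurj n b
    exact ⟨r, by
      change (towerTr A f (Nat.le_add_left n N)) ((Θ n).1 r) = a
      rw [hr, hb]⟩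

end Groth.Agent.Helper18
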