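import Mathlib
import Groth.Agent.Lib.Helper18.Schl.HullGeneral
import Groth.Agent.Lib.Helper18.Schl.Prorep
import Groth.Agent.Lib.Helper18.ArtFunDer

/-!
Pro-representability over a general base: the criterion with the derivations of `k`.
-/

set_option autoImplicit false
universe u v
open CategoryTheory

namespace Groth.Agent.Helper18

open ArtFun ArtFun.Art IsLocalRing

variable {Λ k : Type u} [CommRing Λ] [Field k] [Algebra Λ k]

attribute [local instance] cringAlgebra cringTower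

/-- the morphism `k → k[ε]` attached to a derivation of `k` -/
noncomputable def derHom (D : Derivation Λ k k) : base Λ k ⟶ dual Λ k :=
  let f : k →ₐ[Λ] TrivSqZeroExt k k := derToDual D
  ⟨f, AlgHom.ext fun _ => rfl⟩

theorem dsnd_derHom (D : Derivation Λ k k) (c : k) : dsnd (derHom D c) = D c := rfl

theorem derHom_injective : Function.Injective (derHom (Λ := Λ) (k := k)) := by
  intro D D' h
  apply Derivation.ext
  intro c
  rw [← dsnd_derHom, ← dsnd_derHom, h]

variable {F : Art Λ k ⥤ Type v}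

theorem dual2_ext {x y : (dual2 Λ k : Art Λ k)} (h1 : pr₁ x = pr₁ y) (h2 : pr₂ x = pr₂ y) :
    x = y := isFibreProd_dual2.inj x y h1 h2

/-- if the derivations of `k` act freely on the tangent space, two different tangent vectors of the
coefficient ring with the same image differ on the maximal ideal -/
theorem exists_mem_dsnd_ne' [TangentStr F] (R : CRing Λ k) (ξ : Family R.carrier R.res F)
    (hγ : Function.Injective (fun σ : base Λ k ⟶ dual Λ k => F.map σ (ξ.app _ homSetBase)))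
    (w w' : HomSet R.carrier R.res (dual Λ k)) (hww : ξ.app _ w = ξ.app _ w') (hne : w ≠ w') :
    ∃ r ∈ maximalIdeal R.carrier, dsnd (w.1 r) ≠ dsnd (w'.1 r) := by
  by_contra h
  push Not at h
  apply hne
  apply dualToDer_injective R
  set D : Derivation Λ R.carrier k := dualToDer R w' - dualToDer R w with hDdef
  have hD : ∀ a ∈ maximalIdeal R.carrier, D a = 0 := by
    intro a ha
    rw [hDdef, Derivation.sub_apply, dualToDer_apply, dualToDer_apply, sub_eq_zero]
    exact (h a ha).symm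
  -- the key additivity statement
  have key : ∀ (E : Derivation Λ k k) (u u' : HomSet R.carrier R.res (dual Λ k)),
      (∀ s, dsnd (u'.1 s) = dsnd (u.1 s) + E (R.res s)) →
      ∀ x x' x'' : TangentSpace F, x = ξ.app _ u →
        x' = ξ.app _ (HomSet.map (derHom E) homSetBase) → x'' = ξ.app _ u' → x + x' = x'' := by
    intro E u u' hu x x' x'' hx hx' hx''
    obtain ⟨W, hW1, hW2, hadd⟩ := tangent_add_eq ξ u (HomSet.map (derHom E) homSetBase)
    rw [hadd x x' hx hx', hx'']
    congr 1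
    apply homSet_ext_apply
    intro s
    have h1 : pr₁ (W.1 s) = u.1 s := congrArg (fun t : HomSet R.carrier R.res (dual Λ k) => t.1 s) hW1
    have h2 : pr₂ (W.1 s) = derHom E (R.res s) :=
      congrArg (fun t : HomSet R.carrier R.res (dual Λ k) => t.1 s) hW2
    apply dual_ext
    · have e1 : dfst (plus (W.1 s)) = dfst (pr₁ (W.1 s)) := rfl
      change dfst (plus (W.1 s)) = dfst (u'.1 s)
      rw [e1, h1, dfst_eq_res, dfst_eq_res]
      have e2 : (dual Λ k).res (u.1 s) = R.res s := AlgHom.congr_fun u.2 s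
      have e3 : (dual Λ k).res (u'.1 s) = R.res s := AlgHom.congr_fun u'.2 s
      rw [e2, e3]
    · have e1 : dsnd (plus (W.1 s)) = dsnd (pr₁ (W.1 s)) + dsnd (pr₂ (W.1 s)) := rfl
      change dsnd (plus (W.1 s)) = dsnd (u'.1 s)
      rw [e1, h1, h2, hu, dsnd_derHom]
  have h1 := key (derDescend R D hD) w w' (by
    intro s
    rw [derDescend_res, hDdef, Derivation.sub_apply, dualToDer_apply, dualToDer_apply]
    change dsnd (w'.1 s) = dsnd (w.1 s) + (dsnd (w'.1 s) - dsnd (w.1 s))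
    ring) (ξ.app _ w) _ (ξ.app _ w') rfl rfl rfl
  have h2 := key 0 w w (by
    intro s
    rw [Derivation.coe_zero, Pi.zero_apply, add_zero]) (ξ.app _ w) _ (ξ.app _ w) rfl rfl rfl
  have h3 : ξ.app _ (HomSet.map (derHom (derDescend R D hD)) homSetBase) =
      ξ.app _ (HomSet.map (derHom (0 : Derivation Λ k k)) homSetBase) := by
    have h5 := h1.trans (hww.symm.trans h2.symm)
    have hc : ∀ (a b c : TangentSpace F), a + b = a + c → b = c := fun a b c h => add_left_cancel h
    exact hc _ _ _ h5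
  rw [ξ.natural, ξ.natural] at h3
  have h4 : derDescend R D hD = 0 := derHom_injective (hγ h3)
  have hDz : D = 0 := by
    apply Derivation.ext
    intro a
    rw [← derDescend_res R D hD a, h4]
    rfl
  rw [hDdef, sub_eq_zero] at hDz
  exact hDz.symm

/-- cutting a versal family down to a miniversal one, given a separation property of tangent vectors -/
theorem exists_hull_of_versal_aux (h0 : H0 F) (heps : Heps F)
    (hsep : ∀ (R' : CRing Λ k) (ξ' : Family R'.carrier R'.res F)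
      (w w' : HomSet R'.carrier R'.res (dual Λ k)), ξ'.app _ w = ξ'.app _ w' → w ≠ w' →
        ∃ r ∈ maximalIdeal R'.carrier, dsnd (w.1 r) ≠ dsnd (w'.1 r))
    (R : CRing Λ k) (ξ : Family R.carrier R.res F) (hξ : IsVersal ξ) :
    ∃ (R' : CRing Λ k) (ξ' : Family R'.carrier R'.res F), IsMiniversal ξ' := by
  let 𝒥 : Set (Ideal R.carrier) := {J | ∃ hJ : J ≤ maximalIdeal R.carrier,
    IsVersal (restrictFam ξ J (res_eq_zero_of_le R hJ))}
  have hbot : (⊥ : Ideal R.carrier) ∈ 𝒥 := by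
    refine ⟨bot_le, ?_⟩
    rw [isVersal_restrictFam_iff]
    intro B A μ hμ φ _ y hy
    obtain ⟨ψ, hψ1, hψ2⟩ := hξ μ hμ φ y hy
    refine ⟨ψ, ?_, hψ1, hψ2⟩
    intro a ha
    rw [Ideal.mem_bot] at ha
    rw [ha, map_zero]
  obtain ⟨J₀, hJ₀mem, hJ₀max⟩ := set_has_maximal_iff_noetherian.2
    (inferInstance : IsNoetherian R.carrier R.carrier) 𝒥 ⟨⊥, hbot⟩
  obtain ⟨hJ₀, hvers⟩ := hJ₀mem
  let R₀ : CRing Λ k := quotCRing R J₀ hJ₀
  let ξ₀ : Family R₀.carrier R₀.res F := restrictFam ξ J₀ (res_eq_zero_of_le R hJ₀)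
  have hvers₀ : IsVersal ξ₀ := hvers
  refine ⟨R₀, ξ₀, hvers₀, ?_, surjective_app_of_isVersal h0 ξ₀ hvers₀ _⟩
  intro w₀ w₀' hww
  by_contra hne
  obtain ⟨r₀, hr₀, hrne⟩ := hsep R₀ ξ₀ w₀ w₀' hww hne
  obtain ⟨r, rfl⟩ := quotCRingMk_surjective R J₀ hJ₀ r₀
  have hr : r ∈ maximalIdeal R.carrier := by
    rw [CRing.mem_maximalIdeal_iff] at hr₀ ⊢
    exact hr₀
  have hJ₁ : J₀ ⊔ Ideal.span {r} ≤ maximalIdeal R.carrier :=
    sup_le hJ₀ (span_singleton_le_maximalIdeal hr)
  have hcut := isVersal_cutDown' heps ξ J₀ (res_eq_zero_of_le R hJ₀) hvers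
    (homPull J₀ (res_eq_zero_of_le R hJ₀) w₀) (homPull J₀ (res_eq_zero_of_le R hJ₀) w₀')
    (homPull_kills J₀ _ w₀) (homPull_kills J₀ _ w₀') hww r hrne (res_eq_zero_of_le R hJ₁)
  have hmem : J₀ ⊔ Ideal.span {r} ∈ 𝒥 := ⟨hJ₁, hcut⟩
  apply hJ₀max _ hmem
  refine lt_of_le_of_ne le_sup_left ?_
  intro heq
  have hrJ₀ : r ∈ J₀ := by
    rw [heq]
    exact Ideal.mem_sup_right (Ideal.subset_span (Set.mem_singleton r))
  apply hrne
  have h1 : quotCRingMk R J₀ hJ₀ r = 0 := (quotCRingMk_eq_zero_iff R J₀ hJ₀ r).2 hrJ₀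
  rw [h1, map_zero, map_zero]

/-- pro-representability over a general base -/
theorem isProrepresentable_iff_general [IsNoetherianRing Λ] [Module.Finite Λ k]
    (F : Art Λ k ⥤ Type v) [TangentStr F] :
    IsProrepresentable F ↔
      ((H0 F ∧ RS F) ∧ Hfin F ∧
        ∀ x₀ : F.obj (base Λ k),
          Function.Injective (fun σ : base Λ k ⟶ dual Λ k => F.map σ x₀)) := by
  constructor
  · rintro ⟨⟨R, ξ, hξ⟩⟩
    have h0 : H0 F := h0_of_surjective ξ (fun A => (hξ A).2)
    refine ⟨⟨h0, ?_⟩, hfin_of_tangent_bijective ξ (hξ _), ?_⟩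
    · intro B A A' A'' p' p'' f' f'' h _
      exact isLeftExact_of_isUniversal ξ hξ p' p'' f' f'' h
    · intro x₀ σ σ' hσ
      have hs := h0.2
      have hx₀ : x₀ = ξ.app _ homSetBase := Subsingleton.elim _ _
      change F.map σ x₀ = F.map σ' x₀ at hσ
      rw [hx₀, ← ξ.natural, ← ξ.natural] at hσ
      have h1 := (hξ _).1 hσ
      apply Art.hom_ext
      apply AlgHom.ext
      intro c
      obtain ⟨a, rfl⟩ := R.res_surjective c
      exact congrArg (fun t : HomSet R.carrier R.res (dual Λ k) => t.1 a) h1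
  · rintro ⟨⟨h0, hrs⟩, hfin, hγ⟩
    obtain ⟨⟨R, ξ, hξ⟩⟩ := hasVersal_general F h0 hrs.s1 hrs.heps hfin
    obtain ⟨R', ξ', hξ'⟩ := exists_hull_of_versal_aux h0 hrs.heps
      (fun R' ξ' w w' hww hne => exists_mem_dsnd_ne' R' ξ' (hγ _) w w' hww hne) R ξ hξ
    have hsq : HSq F := fun _ _ _ p₁ p₂ f h hf => hrs p₁ p₂ f f h hf.1
    exact ⟨⟨R', ξ', isUniversal_of_miniversal h0 hsq ξ' hξ'.1 hξ'.2.1⟩⟩

end Groth.Agent.Helper18
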