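import Mathlib
import Groth.Agent.Lib.Helper18.Schl.SmoothPS
import Groth.Agent.Lib.Helper18.Schl.TangentFin

/-!
Change of base ring for functors of Artin rings: for a tower `Λ → R' → k`, Artinian `R'`-algebras
are Artinian `Λ`-algebras together with a structure map from `R'`.
-/

set_option autoImplicit false
universe u v
open CategoryTheory

namespace Groth.Agent.Helper18

open ArtFun ArtFun.Art IsLocalRing

section Tower

variable {Λ R' k : Type u} [CommRing Λ] [CommRing R'] [Field k] [Algebra Λ k] [Algebra Λ R']
  [Algebra R' k] [IsScalarTower Λ R' k]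

/-- restriction of scalars on Artinian objects -/
noncomputable def artRestrict (B' : Art R' k) : Art Λ k :=
  letI : Algebra Λ B'.carrier := ((algebraMap R' B'.carrier).comp (algebraMap Λ R')).toAlgebra
  haveI : IsScalarTower Λ R' B'.carrier := IsScalarTower.of_algebraMap_eq (fun _ => rfl)
  { carrier := B'.carrier
    res := B'.res.restrictScalars Λ
    res_surjective := B'.res_surjective }

/-- the structure map of an Artinian `R'`-algebra as an element of `h_{R'}` -/
noncomputable def artStruct (B' : Art R' k) :
    HomSet R' (IsScalarTower.toAlgHom Λ R' k) (artRestrict (Λ := Λ) B') :=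
  letI : Algebra Λ B'.carrier := ((algebraMap R' B'.carrier).comp (algebraMap Λ R')).toAlgebra
  haveI : IsScalarTower Λ R' B'.carrier := IsScalarTower.of_algebraMap_eq (fun _ => rfl)
  ⟨IsScalarTower.toAlgHom Λ R' B'.carrier, by
    apply AlgHom.ext
    intro r
    exact B'.res.commutes r⟩

theorem artStruct_apply (B' : Art R' k) (r : R') :
    (artStruct (Λ := Λ) B').1 r = algebraMap R' B'.carrier r := rfl

/-- restriction of scalars on morphisms -/
noncomputable def artRestrictHom {B' A' : Art R' k} (μ : B' ⟶ A') :
    artRestrict (Λ := Λ) B' ⟶ artRestrict (Λ := Λ) A' :=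
  letI : Algebra Λ B'.carrier := ((algebraMap R' B'.carrier).comp (algebraMap Λ R')).toAlgebra
  haveI : IsScalarTower Λ R' B'.carrier := IsScalarTower.of_algebraMap_eq (fun _ => rfl)
  letI : Algebra Λ A'.carrier := ((algebraMap R' A'.carrier).comp (algebraMap Λ R')).toAlgebra
  haveI : IsScalarTower Λ R' A'.carrier := IsScalarTower.of_algebraMap_eq (fun _ => rfl)
  ⟨μ.toAlgHom.restrictScalars Λ, by
    apply AlgHom.ext
    intro b
    exact Art.res_app μ b⟩

theorem artRestrictHom_apply {B' A' : Art R' k} (μ : B' ⟶ A') (b : B'.carrier) :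
    (artRestrictHom (Λ := Λ) μ).toAlgHom b = μ.toAlgHom b := rfl

/-- an Artinian `Λ`-algebra with a structure map from `R'` is an Artinian `R'`-algebra -/
noncomputable def artExtend (B : Art Λ k) (y : HomSet R' (IsScalarTower.toAlgHom Λ R' k) B) :
    Art R' k :=
  letI : Algebra R' B.carrier := (y.1 : R' →+* B.carrier).toAlgebra
  { carrier := B.carrier
    res :=
      { (B.res : B.carrier →+* k) with
        commutes' := fun r => by
          change B.res (y.1 r) = algebraMap R' k r
          exact AlgHom.congr_fun y.2 r }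
    res_surjective := B.res_surjective }

theorem artExtend_algebraMap (B : Art Λ k) (y : HomSet R' (IsScalarTower.toAlgHom Λ R' k) B)
    (r : R') : algebraMap R' (artExtend B y).carrier r = y.1 r := rfl

/-- a morphism compatible with the structure maps is a morphism of `R'`-algebras -/
noncomputable def artExtendHom {B A : Art Λ k} (y : HomSet R' (IsScalarTower.toAlgHom Λ R' k) B)
    (μ : B ⟶ A) : artExtend B y ⟶ artExtend A (HomSet.map μ y) :=
  ⟨{ (μ.toAlgHom : B.carrier →+* A.carrier) with
      commutes' := fun _ => rfl }, by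
    apply AlgHom.ext
    intro b
    exact Art.res_app μ b⟩

theorem artExtendHom_apply {B A : Art Λ k} (y : HomSet R' (IsScalarTower.toAlgHom Λ R' k) B)
    (μ : B ⟶ A) (b : B.carrier) : (artExtendHom y μ).toAlgHom b = μ.toAlgHom b := rfl

section Transport

variable {S : Type u} [CommRing S] [Algebra Λ S] [Algebra R' S] [IsScalarTower Λ R' S]
  {resS : S →ₐ[Λ] k} {resS' : S →ₐ[R'] k}

/-- restriction of scalars on points of `h_S` -/
noncomputable def homRestrict (hres : ∀ s, resS' s = resS s) {A' : Art R' k}
    (φ' : HomSet S resS' A') : HomSet S resS (artRestrict (Λ := Λ) A') :=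
  ⟨{ (φ'.1 : S →+* A'.carrier) with
      commutes' := fun l => by
        change φ'.1 (algebraMap Λ S l) = algebraMap R' A'.carrier (algebraMap Λ R' l)
        rw [IsScalarTower.algebraMap_apply Λ R' S, AlgHom.commutes] }, by
    apply AlgHom.ext
    intro s
    change A'.res (φ'.1 s) = resS s
    rw [← hres]
    exact AlgHom.congr_fun φ'.2 s⟩

theorem homRestrict_apply (hres : ∀ s, resS' s = resS s) {A' : Art R' k}
    (φ' : HomSet S resS' A') (s : S) : (homRestrict hres φ').1 s = φ'.1 s := rfl

/-- a point of `h_S` compatible with the structure maps is `R'`-linear -/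
noncomputable def homExtend (hres : ∀ s, resS' s = resS s) {B : Art Λ k}
    (y : HomSet R' (IsScalarTower.toAlgHom Λ R' k) B) (φ : HomSet S resS B)
    (h : ∀ r, φ.1 (algebraMap R' S r) = y.1 r) : HomSet S resS' (artExtend B y) :=
  ⟨{ (φ.1 : S →+* B.carrier) with
      commutes' := fun r => h r }, by
    apply AlgHom.ext
    intro s
    change B.res (φ.1 s) = resS' s
    rw [hres]
    exact AlgHom.congr_fun φ.2 s⟩

theorem homExtend_apply (hres : ∀ s, resS' s = resS s) {B : Art Λ k}
    (y : HomSet R' (IsScalarTower.toAlgHom Λ R' k) B) (φ : HomSet S resS B)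
    (h : ∀ r, φ.1 (algebraMap R' S r) = y.1 r) (s : S) : (homExtend hres y φ h).1 s = φ.1 s := rfl

/-- versality of `h_S → h_{R'}` over `Λ` is smoothness of `h_S` over `R'` -/
theorem isVersal_along_iff_smooth (hres : ∀ s, resS' s = resS s)
    (hRS : resS.comp (IsScalarTower.toAlgHom Λ R' S) = IsScalarTower.toAlgHom Λ R' k) :
    IsVersal ((Family.self R' (IsScalarTower.toAlgHom Λ R' k)).along
        (IsScalarTower.toAlgHom Λ R' S) hRS) ↔
      IsSmoothFunctor (hR S resS') := by
  constructor
  · intro hv B' A' μ' hμ' φ'
    obtain ⟨ψ, hψ1, hψ2⟩ := hv (artRestrictHom (Λ := Λ) μ') hμ' (homRestrict hres φ')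
      (artStruct (Λ := Λ) B') (by
        apply Subtype.ext
        apply AlgHom.ext
        intro r
        change μ'.toAlgHom (algebraMap R' B'.carrier r) = φ'.1 (algebraMap R' S r)
        rw [AlgHom.commutes, AlgHom.commutes])
    have hψ2' : ∀ r, ψ.1 (algebraMap R' S r) = algebraMap R' B'.carrier r := by
      intro r
      have := congrArg (fun t : HomSet R' (IsScalarTower.toAlgHom Λ R' k)
        (artRestrict (Λ := Λ) B') => t.1 r) hψ2
      exact this
    let f : S →+* B'.carrier := (ψ.1 : S →+* (artRestrict (Λ := Λ) B').carrier)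
    refine ⟨⟨{ f with commutes' := hψ2' }, ?_⟩, ?_⟩
    · apply AlgHom.ext
      intro s
      change B'.res (ψ.1 s) = resS' s
      rw [hres]
      exact AlgHom.congr_fun ψ.2 s
    · apply Subtype.ext
      apply AlgHom.ext
      intro s
      have := congrArg (fun t : HomSet S resS (artRestrict (Λ := Λ) A') => t.1 s) hψ1
      exact this
  · intro hsm B A μ hμ φ y hy
    have hy' : ∀ r, φ.1 (algebraMap R' S r) = (HomSet.map μ y).1 r := by
      intro r
      have := congrArg (fun t : HomSet R' (IsScalarTower.toAlgHom Λ R' k) A => t.1 r) hy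
      exact this.symm
    obtain ⟨ψ', hψ'⟩ := hsm (artExtendHom y μ) hμ (homExtend hres (HomSet.map μ y) φ hy')
    have hψ'c : ∀ l, ψ'.1 (algebraMap Λ S l) = algebraMap Λ B.carrier l := by
      intro l
      rw [IsScalarTower.algebraMap_apply Λ R' S, AlgHom.commutes]
      change y.1 (algebraMap Λ R' l) = _
      rw [AlgHom.commutes]
    let f : S →+* B.carrier := (ψ'.1 : S →+* (artExtend B y).carrier)
    refine ⟨⟨{ f with commutes' := hψ'c }, ?_⟩, ?_, ?_⟩
    · apply AlgHom.ext
      intro s
      change B.res (ψ'.1 s) = resS s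
      rw [← hres]
      exact AlgHom.congr_fun ψ'.2 s
    · apply Subtype.ext
      apply AlgHom.ext
      intro s
      have := congrArg (fun t : HomSet S resS' (artExtend A (HomSet.map μ y)) => t.1 s) hψ'
      exact this
    · apply Subtype.ext
      apply AlgHom.ext
      intro r
      change ψ'.1 (algebraMap R' S r) = y.1 r
      rw [AlgHom.commutes]
      rfl

end Transport

end Tower

end Groth.Agent.Helper18
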