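import Groth.Agent.Lib.Helper18.Schl.HenselArt

/-!
Sections of square-zero extensions of a separable residue field.
-/

set_option autoImplicit false
universe u v
open CategoryTheory Polynomial

namespace Groth.Agent.Helper18

open ArtFun ArtFun.Art IsLocalRing

variable {Λ : Type u} {k : Type u} [CommRing Λ] [Field k] [Algebra Λ k]

theorem ker_algebraMap_isMaximal [Module.Finite Λ k] :
    (RingHom.ker (algebraMap Λ k)).IsMaximal := by
  rw [RingHom.ker_eq_comap_bot]
  haveI : (⊥ : Ideal k).IsMaximal := Ideal.bot_isMaximal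
  exact Ideal.isMaximal_comap_of_isIntegral_of_isMaximal (R := Λ) ⊥

/-- a square-zero extension of `k` killed by the kernel of `Λ → k` has a section when `k` is
separable over the image of `Λ` -/
theorem exists_section_of_sq_zero [Module.Finite Λ k]
    [Algebra.IsSeparable (↥(algebraMap Λ k).range) k]
    (E : Type u) [CommRing E] [Algebra Λ E] (r : E →ₐ[Λ] k) (hr : Function.Surjective r)
    (hΛ : ∀ l ∈ RingHom.ker (algebraMap Λ k), algebraMap Λ E l = 0)
    (hsq : ∀ u v : E, r u = 0 → r v = 0 → u * v = 0) :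
    ∃ s : k →ₐ[Λ] E, ∀ c, r (s c) = c := by
  haveI hmax := ker_algebraMap_isMaximal (Λ := Λ) (k := k)
  letI : Field (Λ ⧸ RingHom.ker (algebraMap Λ k)) := Ideal.Quotient.field _
  letI algKk : Algebra (Λ ⧸ RingHom.ker (algebraMap Λ k)) k :=
    (Ideal.Quotient.lift (RingHom.ker (algebraMap Λ k)) (algebraMap Λ k) (fun a ha => ha)).toAlgebra
  letI algKE : Algebra (Λ ⧸ RingHom.ker (algebraMap Λ k)) E :=
    (Ideal.Quotient.lift (RingHom.ker (algebraMap Λ k)) (algebraMap Λ E) hΛ).toAlgebra
  haveI tKk : IsScalarTower Λ (Λ ⧸ RingHom.ker (algebraMap Λ k)) k :=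
    IsScalarTower.of_algebraMap_eq (fun l => rfl)
  haveI tKE : IsScalarTower Λ (Λ ⧸ RingHom.ker (algebraMap Λ k)) E :=
    IsScalarTower.of_algebraMap_eq (fun l => rfl)
  haveI : Module.Finite (Λ ⧸ RingHom.ker (algebraMap Λ k)) k :=
    Module.Finite.of_restrictScalars_finite Λ _ k
  -- separability over the quotient field
  haveI hsep : Algebra.IsSeparable (Λ ⧸ RingHom.ker (algebraMap Λ k)) k := by
    refine ⟨fun x => ?_⟩
    obtain ⟨P, hPm, hP0, hP'⟩ := exists_poly_of_isSeparable (Λ := Λ) x
    have hint : IsIntegral (Λ ⧸ RingHom.ker (algebraMap Λ k)) x := Algebra.IsIntegral.isIntegral x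
    set p := P.map (algebraMap Λ (Λ ⧸ RingHom.ker (algebraMap Λ k))) with hp
    have hp0 : aeval x p = 0 := by rw [hp, aeval_map_algebraMap, hP0]
    have hp' : aeval x (derivative p) ≠ 0 := by
      rw [hp, derivative_map, aeval_map_algebraMap]
      exact hP'
    obtain ⟨g, hg⟩ := minpoly.dvd (Λ ⧸ RingHom.ker (algebraMap Λ k)) x hp0
    change (minpoly (Λ ⧸ RingHom.ker (algebraMap Λ k)) x).Separable
    rw [separable_iff_derivative_ne_zero (minpoly.irreducible hint)]
    intro h0
    apply hp'
    rw [hg, derivative_mul, h0, zero_mul, zero_add, map_mul, minpoly.aeval, zero_mul]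
  haveI : Algebra.FormallyEtale (Λ ⧸ RingHom.ker (algebraMap Λ k)) k :=
    Algebra.FormallyEtale.of_isSeparable _ _
  -- the residue map over the quotient field
  let rK : E →ₐ[Λ ⧸ RingHom.ker (algebraMap Λ k)] k :=
    { (r : E →+* k) with
      commutes' := fun z => by
        obtain ⟨l, rfl⟩ := Ideal.Quotient.mk_surjective z
        change r (algebraMap Λ E l) = algebraMap Λ k l
        exact r.commutes l }
  have hrK : ∀ e, rK e = r e := fun e => rfl
  have hnil : IsNilpotent (RingHom.ker (rK : E →+* k)) := by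
    refine ⟨2, ?_⟩
    rw [pow_two, Ideal.zero_eq_bot, eq_bot_iff, Ideal.mul_le]
    intro u hu v hv
    rw [Ideal.mem_bot]
    exact hsq u v hu hv
  let s := Algebra.FormallySmooth.liftOfSurjective
    (AlgHom.id (Λ ⧸ RingHom.ker (algebraMap Λ k)) k) rK hr hnil
  have hs : ∀ c, rK (s c) = c := fun c =>
    Algebra.FormallySmooth.liftOfSurjective_apply _ rK hr hnil c
  exact ⟨s.restrictScalars Λ, hs⟩

end Groth.Agent.Helper18
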