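import Groth.Agent.Lib.Helper18.Schl.RelCot1
import Groth.Agent.Lib.Helper18.ArtFunShift

/-!
Tangent vectors detect the relative cotangent space (separable residue field extension).
-/

set_option autoImplicit false
universe u v
open CategoryTheory Polynomial

namespace Groth.Agent.Helper18

open ArtFun ArtFun.Art IsLocalRing

variable {Λ : Type u} {k : Type u} [CommRing Λ] [Field k] [Algebra Λ k]

theorem relIdeal_le_maximalIdeal (B : Art Λ k) :
    Ideal.map (algebraMap Λ B) (RingHom.ker (algebraMap Λ k)) ⊔ maximalIdeal B ^ 2 ≤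
      maximalIdeal B := by
  apply sup_le _ (Ideal.pow_le_self two_ne_zero)
  rw [Ideal.map_le_iff_le_comap]
  intro l hl
  rw [Ideal.mem_comap, Art.mem_maximalIdeal_iff, AlgHom.commutes]
  exact hl

theorem map_ker_le_map_maximalIdeal {C B : Art Λ k} (g : C ⟶ B) :
    Ideal.map (algebraMap Λ B) (RingHom.ker (algebraMap Λ k)) ≤
      Ideal.map (g.toAlgHom : C →+* B) (maximalIdeal C) := by
  rw [Ideal.map_le_iff_le_comap]
  intro l hl
  rw [Ideal.mem_comap]
  have h1 : algebraMap Λ B l = (g.toAlgHom : C →+* B) (algebraMap Λ C l) :=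
    (g.toAlgHom.commutes l).symm
  rw [h1]
  apply Ideal.mem_map_of_mem
  rw [Art.mem_maximalIdeal_iff, AlgHom.commutes]
  exact hl

/-- an element of the maximal ideal with non-zero class in the relative cotangent space is
detected by a tangent vector -/
theorem exists_dual_hom_of_notMem [Module.Finite Λ k]
    [Algebra.IsSeparable (↥(algebraMap Λ k).range) k]
    (B : Art Λ k) (b : B) (hbm : b ∈ maximalIdeal B)
    (hb : b ∉ Ideal.map (algebraMap Λ B) (RingHom.ker (algebraMap Λ k)) ⊔ maximalIdeal B ^ 2) :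
    ∃ φ : B ⟶ dual Λ k, dsnd (φ b) ≠ 0 := by
  classical
  set I : Ideal B := Ideal.map (algebraMap Λ B) (RingHom.ker (algebraMap Λ k)) ⊔
    maximalIdeal B ^ 2 with hI
  have hIm : I ≤ maximalIdeal B := relIdeal_le_maximalIdeal B
  have hIres : ∀ a ∈ I, B.res a = 0 := fun a ha => (Art.mem_maximalIdeal_iff B a).1 (hIm ha)
  let q : B →ₐ[Λ] B ⧸ I := Ideal.Quotient.mkₐ Λ I
  let r : (B ⧸ I) →ₐ[Λ] k := Ideal.Quotient.liftₐ I B.res hIres
  have hrq : ∀ x, r (q x) = B.res x := fun x => rfl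
  have hqsurj : Function.Surjective q := Ideal.Quotient.mk_surjective
  have hq0 : ∀ x, q x = 0 ↔ x ∈ I := fun x => Ideal.Quotient.eq_zero_iff_mem
  have hr : Function.Surjective r := fun c => by
    obtain ⟨x, hx⟩ := B.res_surjective c
    exact ⟨q x, hx⟩
  have hΛ : ∀ l ∈ RingHom.ker (algebraMap Λ k), algebraMap Λ (B ⧸ I) l = 0 := by
    intro l hl
    rw [← q.commutes l, hq0]
    exact Ideal.mem_sup_left (Ideal.mem_map_of_mem _ hl)
  have hsq : ∀ u v : B ⧸ I, r u = 0 → r v = 0 → u * v = 0 := by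
    intro u v hu hv
    obtain ⟨x, rfl⟩ := hqsurj u
    obtain ⟨y, rfl⟩ := hqsurj v
    rw [← map_mul, hq0]
    apply Ideal.mem_sup_right
    rw [pow_two]
    rw [hrq, ← Art.mem_maximalIdeal_iff] at hu hv
    exact Ideal.mul_mem_mul hu hv
  obtain ⟨s, hs⟩ := exists_section_of_sq_zero (B ⧸ I) r hr hΛ hsq
  letI algkE : Algebra k (B ⧸ I) := s.toRingHom.toAlgebra
  have hsmul : ∀ (c : k) (X : B ⧸ I), c • X = s c * X := fun c X => rfl
  have hnot : q b ∉ Submodule.span k {(1 : B ⧸ I)} := by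
    intro hmem
    obtain ⟨c, hc⟩ := Submodule.mem_span_singleton.1 hmem
    have h1 : s c = q b := by rw [← hc, hsmul, mul_one]
    have h2 : c = 0 := by
      rw [← hs c, h1, hrq]
      exact (Art.mem_maximalIdeal_iff B b).1 hbm
    rw [h2, map_zero] at h1
    exact hb ((hq0 b).1 h1.symm)
  obtain ⟨ℓ, hℓb, hℓ1⟩ := Submodule.exists_dual_map_eq_bot_of_notMem hnot inferInstance
  have hℓone : ℓ 1 = 0 := by
    have h1 : ℓ 1 ∈ (Submodule.span k {(1 : B ⧸ I)}).map ℓ :=
      ⟨1, Submodule.mem_span_singleton_self 1, rfl⟩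
    rw [hℓ1] at h1
    exact (Submodule.mem_bot k).1 h1
  have hℓs : ∀ c, ℓ (s c) = 0 := by
    intro c
    have h1 : s c = c • (1 : B ⧸ I) := by rw [hsmul, mul_one]
    rw [h1, map_smul, hℓone, smul_zero]
  have hℓmul : ∀ X Y : B ⧸ I, ℓ (X * Y) = r X * ℓ Y + r Y * ℓ X := by
    intro X Y
    obtain ⟨a, u, hu, rfl⟩ : ∃ (a : k) (u : B ⧸ I), r u = 0 ∧ X = s a + u :=
      ⟨r X, X - s (r X), by rw [map_sub, hs, sub_self], by ring⟩
    obtain ⟨a', v, hv, rfl⟩ : ∃ (a' : k) (v : B ⧸ I), r v = 0 ∧ Y = s a' + v :=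
      ⟨r Y, Y - s (r Y), by rw [map_sub, hs, sub_self], by ring⟩
    have h1 : (s a + u) * (s a' + v) = s (a * a') + (a • v + a' • u) := by
      rw [hsmul, hsmul, map_mul]
      have := hsq u v hu hv
      linear_combination this
    have hrX : r (s a + u) = a := by rw [map_add, hs, hu, add_zero]
    have hrY : r (s a' + v) = a' := by rw [map_add, hs, hv, add_zero]
    have hℓX : ℓ (s a + u) = ℓ u := by rw [map_add, hℓs, zero_add]
    have hℓY : ℓ (s a' + v) = ℓ v := by rw [map_add, hℓs, zero_add]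
    rw [h1, map_add, hℓs, zero_add, map_add, map_smul, map_smul, hrX, hrY, hℓX, hℓY]
    simp only [smul_eq_mul]
  let φ₀ : B →ₐ[Λ] TrivSqZeroExt k k :=
    { toFun := fun x => (B.res x, ℓ (q x))
      map_one' := TrivSqZeroExt.ext (map_one _) (by
        change ℓ (q 1) = 0
        rw [map_one, hℓone])
      map_mul' := fun x y => TrivSqZeroExt.ext (map_mul _ _ _) (by
        change ℓ (q (x * y)) = B.res x • ℓ (q y) + MulOpposite.op (B.res y) • ℓ (q x)
        rw [map_mul, hℓmul, op_smul_eq_smul, smul_eq_mul, smul_eq_mul, hrq, hrq])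
      map_zero' := TrivSqZeroExt.ext (map_zero _) (by
        change ℓ (q 0) = 0
        rw [map_zero, map_zero])
      map_add' := fun x y => TrivSqZeroExt.ext (map_add _ _ _) (by
        change ℓ (q (x + y)) = ℓ (q x) + ℓ (q y)
        rw [map_add, map_add])
      commutes' := fun l => TrivSqZeroExt.ext (by
          change B.res (algebraMap Λ B l) = (algebraMap Λ (TrivSqZeroExt k k) l).fst
          rw [TrivSqZeroExt.algebraMap_eq_inl', TrivSqZeroExt.fst_inl, AlgHom.commutes]) (by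
          change ℓ (q (algebraMap Λ B l)) = (algebraMap Λ (TrivSqZeroExt k k) l).snd
          rw [TrivSqZeroExt.algebraMap_eq_inl', TrivSqZeroExt.snd_inl, AlgHom.commutes,
            ← s.commutes l, hℓs]) }
  refine ⟨⟨φ₀, AlgHom.ext fun x => rfl⟩, ?_⟩
  exact hℓb

end Groth.Agent.Helper18
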