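import Groth.Agent.Lib.Helper18.Schl.RelCot2
import Groth.Agent.Lib.Helper18.CotangentSurj
import Groth.Agent.Lib.Helper18.ArtFunRS

/-!
Essential surjections of Artinian local algebras and the relative cotangent space.
-/

set_option autoImplicit false
universe u v
open CategoryTheory Polynomial

namespace Groth.Agent.Helper18

open ArtFun ArtFun.Art IsLocalRing

variable {Λ : Type u} {k : Type u} [CommRing Λ] [Field k] [Algebra Λ k]

theorem isPrecomplete_of_isArtinianRing (C : Type*) [CommRing C] [IsLocalRing C]
    [IsArtinianRing C] : IsPrecomplete (maximalIdeal C) C := by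
  obtain ⟨n, hn⟩ := (isArtinianRing_iff_isNilpotent_maximalIdeal C).1 inferInstance
  have hn' : maximalIdeal C ^ n = ⊥ := hn
  refine ⟨fun f hf => ⟨f n, fun i => ?_⟩⟩
  rcases le_total i n with h | h
  · exact hf h
  · have h1 := hf h
    rw [hn', SModEq.sub_mem, smul_eq_mul, Ideal.mul_top, Ideal.mem_bot, sub_eq_zero] at h1
    rw [h1]

/-- a morphism of `Art` which is surjective on relative cotangent spaces is surjective -/
theorem art_surjective_of_map_sup_sq {C B : Art Λ k} (g : C ⟶ B)
    (h : ∀ x ∈ maximalIdeal B, x ∈ Ideal.map (g.toAlgHom : C →+* B) (maximalIdeal C) ⊔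
      maximalIdeal B ^ 2) : Function.Surjective g := by
  haveI : IsPrecomplete (maximalIdeal C) C := isPrecomplete_of_isArtinianRing C
  have hsurj : Function.Surjective (g.toAlgHom : C →+* B) := by
    apply surjective_of_map_maximalIdeal_sup_sq
    · intro x
      obtain ⟨c, hc⟩ := C.res_surjective (B.res x)
      refine ⟨c, ?_⟩
      rw [Art.mem_maximalIdeal_iff, map_sub]
      have h1 : B.res (g c) = C.res c := Art.res_app g c
      have h2 : B.res x - B.res (g c) = 0 := by rw [h1, hc, sub_self]
      exact h2
    · apply le_antisymm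
      · apply sup_le _ (Ideal.pow_le_self two_ne_zero)
        rw [Ideal.map_le_iff_le_comap]
        intro c hc
        rw [Ideal.mem_comap, Art.mem_maximalIdeal_iff]
        have h1 : B.res (g c) = C.res c := Art.res_app g c
        rw [Art.mem_maximalIdeal_iff] at hc
        exact h1.trans hc
      · exact h
  exact hsurj

end Groth.Agent.Helper18
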