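import Mathlib
import Groth.Agent.Lib.Helper18.Schl.PSEval
import Groth.Agent.Lib.Helper18.CotangentSurj
import Groth.Prelude.Def_ArtFun5

/-!
A power series algebra mapping onto a retract-complement: bijectivity criterion.
-/

set_option autoImplicit false
universe u v

namespace Groth.Agent.Helper18

open ArtFun ArtFun.Art IsLocalRing

variable {Λ : Type u} {k : Type u} [CommRing Λ] [Field k] [Algebra Λ k]

theorem retract_ps_bijective
    (R' R : CRing Λ k) [Algebra R'.carrier R.carrier]
    (ρ : R.carrier →ₐ[R'.carrier] R'.carrier)
    (r : ℕ) (x : Fin r → R.carrier) (hxI : ∀ i, ρ (x i) = 0)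
    (hspan : Ideal.span (Set.range x) ⊔ maximalIdeal R.carrier * RingHom.ker ρ = RingHom.ker ρ)
    (φ : MvPowerSeries (Fin r) R'.carrier →ₐ[R'.carrier] R.carrier)
    (hφ : ∀ i, φ (MvPowerSeries.X i) = x i)
    (hinv : ∃ N : ℕ, ∀ n, N ≤ n →
      ∃ g : R.carrier → (MvPowerSeries (Fin r) R'.carrier ⧸
          maximalIdeal (MvPowerSeries (Fin r) R'.carrier) ^ n),
        g 0 = 0 ∧ ∀ s, g (φ s) = Ideal.Quotient.mk _ s) :
    Function.Bijective φ := by
  constructor
  · rw [injective_iff_map_eq_zero]
    intro s hs
    obtain ⟨N, hN⟩ := hinv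
    have hmem : ∀ n, s ∈ maximalIdeal (MvPowerSeries (Fin r) R'.carrier) ^ n := by
      intro n
      obtain ⟨g, hg0, hg⟩ := hN (max n N) (le_max_right _ _)
      have h1 := hg s
      rw [hs, hg0] at h1
      have h2 : s ∈ maximalIdeal (MvPowerSeries (Fin r) R'.carrier) ^ (max n N) :=
        Ideal.Quotient.eq_zero_iff_mem.1 h1.symm
      exact Ideal.pow_le_pow_right (le_max_left _ _) h2
    have h3 : s ∈ ⨅ n, maximalIdeal (MvPowerSeries (Fin r) R'.carrier) ^ n := by
      rw [Ideal.mem_iInf]
      exact hmem
    rw [Ideal.iInf_pow_eq_bot_of_isLocalRing _ (Ideal.IsPrime.ne_top inferInstance)] at h3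
    exact h3
  · haveI : IsPrecomplete (maximalIdeal R'.carrier) R'.carrier := R'.isAdicComplete.toIsPrecomplete
    haveI : IsPrecomplete (maximalIdeal (MvPowerSeries (Fin r) R'.carrier))
        (MvPowerSeries (Fin r) R'.carrier) := ps_isPrecomplete
    have hker : RingHom.ker ρ ≤ maximalIdeal R.carrier := by
      apply IsLocalRing.le_maximalIdeal
      intro h
      have h1 : (1 : R.carrier) ∈ RingHom.ker ρ := by rw [h]; trivial
      rw [RingHom.mem_ker, map_one] at h1
      exact one_ne_zero h1
    have hρloc : ∀ s ∈ maximalIdeal R.carrier, ρ s ∈ maximalIdeal R'.carrier := by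
      intro s hs
      rw [mem_maximalIdeal, mem_nonunits_iff] at hs ⊢
      intro hu
      apply hs
      -- `s = algebraMap (ρ s) + (s - algebraMap (ρ s))`, a unit plus an element of the maximal ideal
      have h1 : s - algebraMap R'.carrier R.carrier (ρ s) ∈ RingHom.ker ρ := by
        rw [RingHom.mem_ker, map_sub, AlgHom.commutes]
        exact sub_self _
      have h2 : IsUnit (algebraMap R'.carrier R.carrier (ρ s)) := hu.map _
      have h3 : s = algebraMap R'.carrier R.carrier (ρ s) +
          (s - algebraMap R'.carrier R.carrier (ρ s)) := by ring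
      rw [h3]
      by_contra hnu
      have h4 := (mem_maximalIdeal _).2 hnu
      have h5 := Ideal.sub_mem _ h4 (hker h1)
      rw [add_sub_cancel_right] at h5
      exact (mem_maximalIdeal _).1 h5 h2
    have hCmem : ∀ c ∈ maximalIdeal R'.carrier,
        (MvPowerSeries.C c : MvPowerSeries (Fin r) R'.carrier) ∈
          maximalIdeal (MvPowerSeries (Fin r) R'.carrier) := fun c hc => ps_C_mem_maximalIdeal hc
    have hφC : ∀ c : R'.carrier, φ (MvPowerSeries.C c) = algebraMap R'.carrier R.carrier c := by
      intro c
      exact φ.commutes c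
    have hφm : ∀ s ∈ maximalIdeal (MvPowerSeries (Fin r) R'.carrier), φ s ∈ maximalIdeal R.carrier := by
      intro s hs
      rw [mem_maximalIdeal, mem_nonunits_iff] at hs ⊢
      intro hu
      apply hs
      rw [MvPowerSeries.isUnit_iff_constantCoeff]
      -- ρ (φ s) is a unit, and it equals the constant coefficient of s
      have h1 : IsUnit (ρ (φ s)) := hu.map ρ
      have h2 : ρ (φ s) = MvPowerSeries.constantCoeff s := by
        let cc : MvPowerSeries (Fin r) R'.carrier →ₐ[R'.carrier] R'.carrier :=
          { (MvPowerSeries.constantCoeff :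
              MvPowerSeries (Fin r) R'.carrier →+* R'.carrier) with
            commutes' := fun c => by
              change MvPowerSeries.constantCoeff
                (algebraMap R'.carrier (MvPowerSeries (Fin r) R'.carrier) c) = _
              rw [MvPowerSeries.algebraMap_apply, MvPowerSeries.constantCoeff_C] }
        have hcomp : ρ.comp φ = cc := by
          apply ps_algHom_ext (ρ.comp φ) cc ⊥ 1 (pow_one _)
          · intro i
            change ρ (φ (MvPowerSeries.X i)) ∈ (⊥ : Ideal R'.carrier)
            rw [hφ, hxI]
            exact Ideal.zero_mem _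
          · intro i
            change ρ (φ (MvPowerSeries.X i)) = MvPowerSeries.constantCoeff (MvPowerSeries.X i)
            rw [hφ, hxI, MvPowerSeries.constantCoeff_X]
        exact AlgHom.congr_fun hcomp s
      rwa [h2] at h1
    apply surjective_of_map_maximalIdeal_sup_sq
      (φ : MvPowerSeries (Fin r) R'.carrier →+* R.carrier)
    · intro s
      refine ⟨MvPowerSeries.C (ρ s), ?_⟩
      apply hker
      rw [RingHom.mem_ker, map_sub]
      change ρ s - ρ (φ (MvPowerSeries.C (ρ s))) = 0
      rw [hφC, AlgHom.commutes]
      exact sub_self _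
    · apply le_antisymm
      · refine sup_le ?_ (Ideal.pow_le_self two_ne_zero)
        rw [Ideal.map_le_iff_le_comap]
        exact hφm
      · intro s hs
        have h3 : s = algebraMap R'.carrier R.carrier (ρ s) +
            (s - algebraMap R'.carrier R.carrier (ρ s)) := by ring
        rw [h3]
        apply Ideal.add_mem
        · apply Ideal.mem_sup_left
          rw [← hφC]
          exact Ideal.mem_map_of_mem _ (hCmem _ (hρloc s hs))
        · have h1 : s - algebraMap R'.carrier R.carrier (ρ s) ∈ RingHom.ker ρ := by
            rw [RingHom.mem_ker, map_sub, AlgHom.commutes]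
            exact sub_self _
          rw [← hspan] at h1
          revert h1
          generalize s - algebraMap R'.carrier R.carrier (ρ s) = z
          intro h1
          have hle : Ideal.span (Set.range x) ⊔ maximalIdeal R.carrier * RingHom.ker ρ ≤
              Ideal.map (φ : MvPowerSeries (Fin r) R'.carrier →+* R.carrier)
                (maximalIdeal (MvPowerSeries (Fin r) R'.carrier)) ⊔ maximalIdeal R.carrier ^ 2 := by
            refine sup_le_sup ?_ ?_
            · rw [Ideal.span_le]
              rintro _ ⟨i, rfl⟩
              rw [← hφ]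
              exact Ideal.mem_map_of_mem _ (ps_X_mem_maximalIdeal i)
            · rw [pow_two]
              exact Ideal.mul_mono_right hker
          exact hle h1

end Groth.Agent.Helper18
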