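import Groth.Agent.Lib.Helper18.Schl.HepsGeneral
import Groth.Agent.Lib.Helper18.Schl.ProLimit1

/-!
A square-zero object of `Art Λ k` with a section of the augmentation is isomorphic to `k ⊕ k^r`.
-/

set_option autoImplicit false
universe u v
open CategoryTheory

namespace Groth.Agent.Helper18

open ArtFun ArtFun.Art IsLocalRing

variable {Λ : Type u} {k : Type u} [CommRing Λ] [Field k] [Algebra Λ k]

theorem exists_iso_kV (E : Art Λ k) (σ : base Λ k ⟶ E) (hE : maximalIdeal E ^ 2 = ⊥) :
    ∃ (r : ℕ) (e : kV Λ k r ⟶ E), Function.Bijective e := by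
  classical
  let s : k →ₐ[Λ] E := σ.toAlgHom
  have hs : ∀ c, E.res (s c) = c := fun c => Art.res_app σ c
  letI algkE : Algebra k E := s.toRingHom.toAlgebra
  have hsmul : ∀ (c : k) (x : E), c • x = s c * x := fun _ _ => rfl
  haveI tower : IsScalarTower Λ k E :=
    IsScalarTower.of_algebraMap_eq (fun l => (s.commutes l).symm)
  have hmul0 : ∀ x y : E, E.res x = 0 → E.res y = 0 → x * y = 0 := by
    intro x y hx hy
    have h1 : x * y ∈ maximalIdeal E ^ 2 := by
      rw [pow_two]
      exact Ideal.mul_mem_mul ((Art.mem_maximalIdeal_iff E x).2 hx)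
        ((Art.mem_maximalIdeal_iff E y).2 hy)
    rw [hE] at h1
    exact h1
  let resk : E →ₗ[k] k :=
    { toFun := fun x => E.res x
      map_add' := fun x y => map_add _ x y
      map_smul' := fun c x => by
        rw [hsmul, map_mul, hs]
        rfl }
  have hresk : ∀ x, resk x = E.res x := fun x => rfl
  -- the action of `E` on the maximal ideal factors through `k`
  have hact : ∀ a u : E, E.res u = 0 → a * u = E.res a • u := by
    intro a u hu
    rw [hsmul]
    have h1 : (a - s (E.res a)) * u = 0 :=
      hmul0 _ _ (by rw [map_sub, hs, sub_self]) hu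
    rw [sub_mul, sub_eq_zero] at h1
    exact h1
  -- finiteness
  obtain ⟨n, y, hy⟩ : ∃ (n : ℕ) (y : Fin n → E), Ideal.span (Set.range y) = maximalIdeal E :=
    ⟨_, exists_fin_generators (R := E)⟩
  have hym : ∀ j, E.res (y j) = 0 := by
    intro j
    rw [← Art.mem_maximalIdeal_iff, ← hy]
    exact Ideal.subset_span ⟨j, rfl⟩
  have hspan : ∀ u : E, E.res u = 0 → u ∈ Submodule.span k (Set.range y) := by
    intro u hu
    have hu' : u ∈ Ideal.span (Set.range y) := by
      rw [hy]
      exact (Art.mem_maximalIdeal_iff E u).2 hu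
    have key : E.res u = 0 ∧ u ∈ Submodule.span k (Set.range y) := by
      refine Submodule.span_induction
        (p := fun u _ => E.res u = 0 ∧ u ∈ Submodule.span k (Set.range y)) ?_ ?_ ?_ ?_ hu'
      · rintro _ ⟨j, rfl⟩
        exact ⟨hym j, Submodule.subset_span ⟨j, rfl⟩⟩
      · exact ⟨map_zero _, zero_mem _⟩
      · rintro x x' _ _ ⟨hx, hx2⟩ ⟨hx', hx2'⟩
        exact ⟨by rw [map_add, hx, hx', add_zero], add_mem hx2 hx2'⟩
      · rintro a x _ ⟨hx, hx2⟩
        refine ⟨by rw [smul_eq_mul, map_mul, hx, mul_zero], ?_⟩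
        rw [smul_eq_mul, hact a x hx]
        exact Submodule.smul_mem _ _ hx2
    exact key.2
  haveI hfin : Module.Finite k E := by
    refine ⟨⟨insert (1 : E) (Finset.univ.image y), ?_⟩⟩
    rw [eq_top_iff]
    intro x _
    have h1 : x = E.res x • (1 : E) + (x - s (E.res x)) := by
      rw [hsmul, mul_one]
      ring
    rw [h1]
    apply add_mem
    · apply Submodule.smul_mem
      apply Submodule.subset_span
      simp
    · have h2 := hspan (x - s (E.res x)) (by rw [map_sub, hs, sub_self])
      refine Submodule.span_mono ?_ h2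
      intro z hz
      obtain ⟨j, rfl⟩ := hz
      simp
  let M : Submodule k E := LinearMap.ker resk
  let b := Module.finBasis k M
  let gk : (Fin (Module.finrank k M) → k) →ₗ[k] E :=
    Fintype.linearCombination k (fun j => ((b j : M) : E))
  have hgk : ∀ v, gk v = ∑ j, v j • ((b j : M) : E) := fun v =>
    Fintype.linearCombination_apply k _ v
  have hgkM : ∀ v, E.res (gk v) = 0 := by
    intro v
    rw [hgk, map_sum]
    apply Finset.sum_eq_zero
    intro j _
    rw [hsmul, map_mul]
    have : E.res ((b j : M) : E) = 0 := (b j).2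
    rw [this, mul_zero]
  let g : (Fin (Module.finrank k M) → k) →ₗ[Λ] E := gk.restrictScalars Λ
  have hg : ∀ v, g v = gk v := fun v => rfl
  let e₀ : TrivSqZeroExt k (Fin (Module.finrank k M) → k) →ₐ[Λ] E :=
    TrivSqZeroExt.lift s g
      (fun v w => hmul0 _ _ (hgkM v) (hgkM w))
      (fun c v => by
        rw [hg, hg, map_smul, hsmul])
      (fun c v => by
        rw [hg, hg, op_smul_eq_smul, map_smul, hsmul, mul_comm])
  have he₀ : ∀ x, e₀ x = s x.fst + gk x.snd := fun x => rfl
  have hres : ∀ x, E.res (e₀ x) = x.fst := by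
    intro x
    rw [he₀, map_add, hs, hgkM, add_zero]
  have hbij : Function.Bijective e₀ := by
    constructor
    · intro x x' hxx'
      have h1 : x.fst = x'.fst := by rw [← hres x, ← hres x', hxx']
      have h2 : gk x.snd = gk x'.snd := by
        rw [he₀, he₀, h1] at hxx'
        exact add_left_cancel hxx'
      refine TrivSqZeroExt.ext h1 ?_
      have h3 : ∀ v, gk v = ((b.equivFun.symm v : M) : E) := by
        intro v
        rw [hgk, Module.Basis.equivFun_symm_apply]
        simp
      rw [h3, h3] at h2
      exact b.equivFun.symm.injective (Subtype.ext h2)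
    · intro x
      have hxM : x - s (E.res x) ∈ M := by
        change resk (x - s (E.res x)) = 0
        rw [hresk, map_sub, hs, sub_self]
      refine ⟨TrivSqZeroExt.inl (E.res x) + TrivSqZeroExt.inr (b.equivFun ⟨_, hxM⟩), ?_⟩
      rw [he₀]
      simp only [TrivSqZeroExt.fst_add, TrivSqZeroExt.fst_inl, TrivSqZeroExt.fst_inr, add_zero,
        TrivSqZeroExt.snd_add, TrivSqZeroExt.snd_inl, TrivSqZeroExt.snd_inr, zero_add]
      have h3 : gk (b.equivFun ⟨_, hxM⟩) = x - s (E.res x) := by
        rw [hgk]
        have := b.sum_equivFun ⟨_, hxM⟩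
        have h4 := congrArg (fun m : M => (m : E)) this
        simp only [Submodule.coe_sum, Submodule.coe_smul] at h4
        exact h4
      rw [h3]
      ring
  exact ⟨Module.finrank k M, ⟨e₀, AlgHom.ext hres⟩, hbij⟩

end Groth.Agent.Helper18
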