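import Groth.Agent.Lib.Helper18.Schl.HepsGeneral

/-!
The vector space structure on the tangent space of a functor satisfying `(S2)`.
-/

set_option autoImplicit false
universe u v
open CategoryTheory

namespace Groth.Agent.Helper18

open ArtFun ArtFun.Art

variable {Λ : Type u} {k : Type u} [CommRing Λ] [Field k] [Algebra Λ k]
variable {F : Art Λ k ⥤ Type v}

/-- the map `k ⊕ k^r → k ⊕ k^s` induced by a linear map -/
noncomputable def kVmap {r s : ℕ} (M : (Fin r → k) →ₗ[k] (Fin s → k)) : kV Λ k r ⟶ kV Λ k s :=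
  ⟨tszeMap M, AlgHom.ext fun _ => rfl⟩

theorem kVmap_kVtoDual {r s : ℕ} (M : (Fin r → k) →ₗ[k] (Fin s → k)) (l : (Fin s → k) →ₗ[k] k) :
    kVmap (Λ := Λ) M ≫ kVtoDual l = kVtoDual (l ∘ₗ M) :=
  Art.hom_ext (AlgHom.ext fun _ => rfl)

theorem subsingleton_obj_kV_zero (h0 : H0 F) : Subsingleton (F.obj (kV Λ k 0)) := by
  haveI : IsIso (toBase (kV Λ k 0)) := isIso_of_bijective _ toBase_kV_zero_bijective
  haveI := h0.2
  refine ⟨fun x y => ?_⟩
  rw [← map_map_inv (toBase (kV Λ k 0)) x, ← map_map_inv (toBase (kV Λ k 0)) y,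
    Subsingleton.elim (F.map (toBase (kV Λ k 0)) x) (F.map (toBase (kV Λ k 0)) y)]

/-- first order elements are determined by their components -/
theorem firstOrder_unique (h0 : H0 F) (heps : Heps F) :
    ∀ (r : ℕ) (ξ ξ' : F.obj (kV Λ k r)),
      (∀ i, F.map (kVtoDual (LinearMap.proj i)) ξ = F.map (kVtoDual (LinearMap.proj i)) ξ') →
      ξ = ξ' := by
  intro r
  induction r with
  | zero =>
    intro ξ ξ' _
    haveI := subsingleton_obj_kV_zero (Λ := Λ) (k := k) h0
    exact Subsingleton.elim _ _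
  | succ r ih =>
    intro ξ ξ' h
    apply (heps _ _ (isFibreProd_kV_succ (Λ := Λ) (k := k) r)).1
    apply FibProd.ext
    · change F.map (kVinit r) ξ = F.map (kVinit r) ξ'
      apply ih
      intro j
      rw [← Functor.map_comp_apply, ← Functor.map_comp_apply, kVinit_kVtoDual]
      exact h (Fin.castSucc j)
    · exact h (Fin.last r)

section Ops

variable (h0 : H0 F) (heps : Heps F)

/-- the first order element with given components -/
noncomputable def fo {r : ℕ} (v : Fin r → F.obj (dual Λ k)) : F.obj (kV Λ k r) :=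
  Classical.choose (exists_firstOrder h0 heps r v)

theorem fo_spec {r : ℕ} (v : Fin r → F.obj (dual Λ k)) (i : Fin r) :
    F.map (kVtoDual (LinearMap.proj i)) (fo h0 heps v) = v i :=
  Classical.choose_spec (exists_firstOrder h0 heps r v) i

theorem fo_eq {r : ℕ} (v : Fin r → F.obj (dual Λ k)) (ξ : F.obj (kV Λ k r))
    (h : ∀ i, F.map (kVtoDual (LinearMap.proj i)) ξ = v i) : fo h0 heps v = ξ := by
  apply firstOrder_unique h0 heps
  intro i
  rw [fo_spec, h]

/-- the linear combination of tangent vectors given by a functional -/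
noncomputable def lin {r : ℕ} (l : (Fin r → k) →ₗ[k] k) (v : Fin r → F.obj (dual Λ k)) :
    F.obj (dual Λ k) :=
  F.map (kVtoDual l) (fo h0 heps v)

theorem lin_proj {r : ℕ} (v : Fin r → F.obj (dual Λ k)) (i : Fin r) :
    lin h0 heps (LinearMap.proj i) v = v i := fo_spec h0 heps v i

theorem lin_comp {r s : ℕ} (l : (Fin s → k) →ₗ[k] k) (m : Fin s → ((Fin r → k) →ₗ[k] k))
    (v : Fin r → F.obj (dual Λ k)) :
    lin h0 heps l (fun j => lin h0 heps (m j) v) = lin h0 heps (l ∘ₗ LinearMap.pi m) v := by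
  have h1 : fo h0 heps (fun j => lin h0 heps (m j) v) =
      F.map (kVmap (LinearMap.pi m)) (fo h0 heps v) := by
    apply fo_eq
    intro j
    rw [← Functor.map_comp_apply, kVmap_kVtoDual, LinearMap.proj_pi]
    rfl
  change F.map (kVtoDual l) (fo h0 heps (fun j => lin h0 heps (m j) v)) = _
  rw [h1, ← Functor.map_comp_apply, kVmap_kVtoDual]
  rfl

theorem map_scale_lin {r : ℕ} (c : k) (l : (Fin r → k) →ₗ[k] k) (v : Fin r → F.obj (dual Λ k)) :
    F.map (scale c) (lin h0 heps l v) = lin h0 heps (c • l) v := by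
  change F.map (scale c) (F.map (kVtoDual l) (fo h0 heps v)) = _
  rw [← Functor.map_comp_apply, kVtoDual_scale]
  rfl

/-- addition of tangent vectors -/
noncomputable def tadd (x y : F.obj (dual Λ k)) : F.obj (dual Λ k) :=
  lin h0 heps ((LinearMap.proj 0 : (Fin 2 → k) →ₗ[k] k) + LinearMap.proj 1) ![x, y]

/-- the zero tangent vector -/
noncomputable def tzero : F.obj (dual Λ k) :=
  lin h0 heps (0 : (Fin 0 → k) →ₗ[k] k) ![]

theorem tadd_lin {r : ℕ} (m₀ m₁ : (Fin r → k) →ₗ[k] k) (v : Fin r → F.obj (dual Λ k)) :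
    tadd h0 heps (lin h0 heps m₀ v) (lin h0 heps m₁ v) = lin h0 heps (m₀ + m₁) v := by
  have h1 : (![lin h0 heps m₀ v, lin h0 heps m₁ v] : Fin 2 → F.obj (dual Λ k)) =
      fun j => lin h0 heps ((![m₀, m₁] : Fin 2 → ((Fin r → k) →ₗ[k] k)) j) v := by
    funext j
    fin_cases j <;> rfl
  rw [tadd, h1, lin_comp]
  congr 1

theorem lin_zero {r : ℕ} (v : Fin r → F.obj (dual Λ k)) :
    lin h0 heps (0 : (Fin r → k) →ₗ[k] k) v = tzero h0 heps := by
  have h1 : (![] : Fin 0 → F.obj (dual Λ k)) =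
      fun j => lin h0 heps ((Fin.elim0 : Fin 0 → ((Fin r → k) →ₗ[k] k)) j) v := by
    funext j
    exact j.elim0
  rw [tzero, h1, lin_comp, LinearMap.zero_comp]

end Ops

end Groth.Agent.Helper18
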