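import Groth.Agent.Lib.Helper18.Schl.TangentStr1

/-!
The vector space structure on the tangent space of a functor satisfying `(S2)`: the axioms.
-/

set_option autoImplicit false
universe u v
open CategoryTheory

namespace Groth.Agent.Helper18

open ArtFun ArtFun.Art

variable {Λ : Type u} {k : Type u} [CommRing Λ] [Field k] [Algebra Λ k]
variable {F : Art Λ k ⥤ Type v}

/-- the isomorphism `k[ε₁, ε₂] → k ⊕ k²` -/
noncomputable def dual2ToKV : dual2 Λ k ⟶ kV Λ k 2 :=
  ⟨tszeMap (LinearMap.pi ![LinearMap.fst k k k, LinearMap.snd k k k]), AlgHom.ext fun _ => rfl⟩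

theorem dual2ToKV_proj0 :
    dual2ToKV (Λ := Λ) (k := k) ≫ kVtoDual (LinearMap.proj 0) = pr₁ :=
  Art.hom_ext (AlgHom.ext fun _ => rfl)

theorem dual2ToKV_proj1 :
    dual2ToKV (Λ := Λ) (k := k) ≫ kVtoDual (LinearMap.proj 1) = pr₂ :=
  Art.hom_ext (AlgHom.ext fun _ => rfl)

theorem dual2ToKV_plus :
    dual2ToKV (Λ := Λ) (k := k) ≫
      kVtoDual ((LinearMap.proj 0 : (Fin 2 → k) →ₗ[k] k) + LinearMap.proj 1) = plus :=
  Art.hom_ext (AlgHom.ext fun _ => rfl)

theorem scale_one : (scale (1 : k) : dual Λ k ⟶ dual Λ k) = 𝟙 _ := by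
  apply Art.hom_ext
  apply AlgHom.ext
  intro x
  refine TrivSqZeroExt.ext rfl ?_
  change (1 : k) • x.snd = x.snd
  rw [one_smul]

variable (h0 : H0 F) (heps : Heps F)

theorem tadd_eq_plus (z : F.obj (dual2 Λ k)) :
    tadd h0 heps (F.map pr₁ z) (F.map pr₂ z) = F.map plus z := by
  have h1 : fo h0 heps ![F.map pr₁ z, F.map pr₂ z] = F.map dual2ToKV z := by
    apply fo_eq
    intro i
    rw [← Functor.map_comp_apply]
    fin_cases i
    · change F.map (dual2ToKV ≫ kVtoDual (LinearMap.proj 0)) z = F.map pr₁ z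
      rw [dual2ToKV_proj0]
    · change F.map (dual2ToKV ≫ kVtoDual (LinearMap.proj 1)) z = F.map pr₂ z
      rw [dual2ToKV_proj1]
  change F.map (kVtoDual _) (fo h0 heps ![F.map pr₁ z, F.map pr₂ z]) = _
  rw [h1, ← Functor.map_comp_apply, dual2ToKV_plus]

/-- a tangent vector as a linear combination of a one-element family -/
theorem eq_lin1 (x : F.obj (dual Λ k)) :
    x = lin h0 heps (LinearMap.proj 0) (![x] : Fin 1 → F.obj (dual Λ k)) :=
  (lin_proj h0 heps ![x] 0).symm

theorem tadd_assoc (x y z : F.obj (dual Λ k)) :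
    tadd h0 heps (tadd h0 heps x y) z = tadd h0 heps x (tadd h0 heps y z) := by
  have hx : x = lin h0 heps (LinearMap.proj 0) (![x, y, z] : Fin 3 → F.obj (dual Λ k)) :=
    (lin_proj h0 heps ![x, y, z] 0).symm
  have hy : y = lin h0 heps (LinearMap.proj 1) (![x, y, z] : Fin 3 → F.obj (dual Λ k)) :=
    (lin_proj h0 heps ![x, y, z] 1).symm
  have hz : z = lin h0 heps (LinearMap.proj 2) (![x, y, z] : Fin 3 → F.obj (dual Λ k)) :=
    (lin_proj h0 heps ![x, y, z] 2).symm
  generalize (![x, y, z] : Fin 3 → F.obj (dual Λ k)) = v at hx hy hz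
  rw [hx, hy, hz, tadd_lin, tadd_lin, tadd_lin, tadd_lin, add_assoc]

theorem tadd_comm (x y : F.obj (dual Λ k)) : tadd h0 heps x y = tadd h0 heps y x := by
  have hx : x = lin h0 heps (LinearMap.proj 0) (![x, y] : Fin 2 → F.obj (dual Λ k)) :=
    (lin_proj h0 heps ![x, y] 0).symm
  have hy : y = lin h0 heps (LinearMap.proj 1) (![x, y] : Fin 2 → F.obj (dual Λ k)) :=
    (lin_proj h0 heps ![x, y] 1).symm
  generalize (![x, y] : Fin 2 → F.obj (dual Λ k)) = v at hx hy
  rw [hx, hy, tadd_lin, tadd_lin, add_comm]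

theorem tzero_add (x : F.obj (dual Λ k)) : tadd h0 heps (tzero h0 heps) x = x := by
  have hx := eq_lin1 h0 heps x
  generalize (![x] : Fin 1 → F.obj (dual Λ k)) = v at hx
  rw [hx, ← lin_zero h0 heps v, tadd_lin, zero_add]

theorem tneg_add (x : F.obj (dual Λ k)) :
    tadd h0 heps (F.map (scale (-1)) x) x = tzero h0 heps := by
  have hx := eq_lin1 h0 heps x
  generalize (![x] : Fin 1 → F.obj (dual Λ k)) = v at hx
  rw [hx, map_scale_lin, tadd_lin, ← lin_zero h0 heps v]
  congr 1
  apply LinearMap.ext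
  intro w
  simp

theorem tsmul_add (c : k) (x y : F.obj (dual Λ k)) :
    F.map (scale c) (tadd h0 heps x y) =
      tadd h0 heps (F.map (scale c) x) (F.map (scale c) y) := by
  have hx : x = lin h0 heps (LinearMap.proj 0) (![x, y] : Fin 2 → F.obj (dual Λ k)) :=
    (lin_proj h0 heps ![x, y] 0).symm
  have hy : y = lin h0 heps (LinearMap.proj 1) (![x, y] : Fin 2 → F.obj (dual Λ k)) :=
    (lin_proj h0 heps ![x, y] 1).symm
  generalize (![x, y] : Fin 2 → F.obj (dual Λ k)) = v at hx hy
  rw [hx, hy, tadd_lin, map_scale_lin, map_scale_lin, map_scale_lin, tadd_lin, smul_add]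

theorem tadd_smul (c d : k) (x : F.obj (dual Λ k)) :
    F.map (scale (c + d)) x = tadd h0 heps (F.map (scale c) x) (F.map (scale d) x) := by
  have hx := eq_lin1 h0 heps x
  generalize (![x] : Fin 1 → F.obj (dual Λ k)) = v at hx
  rw [hx, map_scale_lin, map_scale_lin, map_scale_lin, tadd_lin, add_smul]

omit h0 heps in
theorem scale_mul (c d : k) : (scale (c * d) : dual Λ k ⟶ dual Λ k) = scale d ≫ scale c := by
  apply Art.hom_ext
  apply AlgHom.ext
  intro x
  refine TrivSqZeroExt.ext rfl ?_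
  change (c * d) • x.snd = c • (d • x.snd)
  rw [mul_smul]

omit h0 heps in
theorem tmul_smul (c d : k) (x : F.obj (dual Λ k)) :
    F.map (scale (c * d)) x = F.map (scale c) (F.map (scale d) x) := by
  rw [scale_mul, Functor.map_comp_apply]

theorem tzero_smul (x : F.obj (dual Λ k)) : F.map (scale (0 : k)) x = tzero h0 heps := by
  have hx := eq_lin1 h0 heps x
  generalize (![x] : Fin 1 → F.obj (dual Λ k)) = v at hx
  rw [hx, map_scale_lin, zero_smul, lin_zero]

theorem tsmul_zero (c : k) : F.map (scale c) (tzero h0 heps) = tzero h0 heps := by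
  rw [tzero, map_scale_lin, smul_zero]

/-- the tangent space structure -/
noncomputable def tangentStrOfHeps : TangentStr F :=
  letI iadd : Add (F.obj (dual Λ k)) := ⟨tadd h0 heps⟩
  letI izero : Zero (F.obj (dual Λ k)) := ⟨tzero h0 heps⟩
  letI ineg : Neg (F.obj (dual Λ k)) := ⟨fun x => F.map (scale (-1)) x⟩
  letI grp : AddGroup (F.obj (dual Λ k)) :=
    AddGroup.ofLeftAxioms (tadd_assoc h0 heps) (tzero_add h0 heps) (tneg_add h0 heps)
  letI cgrp : AddCommGroup (F.obj (dual Λ k)) := { grp with add_comm := tadd_comm h0 heps }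
  { addCommGroup := cgrp
    module :=
      { smul := fun c x => F.map (scale c) x
        one_smul := fun x => by
          change F.map (scale 1) x = x
          rw [scale_one, Functor.map_id_apply]
        mul_smul := fun c d x => tmul_smul c d x
        smul_zero := fun c => tsmul_zero h0 heps c
        smul_add := fun c x y => tsmul_add h0 heps c x y
        add_smul := fun c d x => tadd_smul h0 heps c d x
        zero_smul := fun x => tzero_smul h0 heps x }
    smul_eq := fun c x => rfl
    add_eq := fun z => tadd_eq_plus h0 heps z }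

end Groth.Agent.Helper18
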